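import Mathlib
import Cfsg.Agent.H129.RealT_m3
import Cfsg.Agent.H129.UntwTwo
import Cfsg.Agent.H238.ExcCore
import Cfsg.Agent.H405.UE.GD
import Cfsg.Agent.H448.FprExc.RowD4
import Cfsg.Agent.H730.OZ.Known_m3
import Cfsg.Agent.H834.ZInst
import Cfsg.Agent.H836.Facts
import Cfsg.Agent.H559.FiSpec
import Cfsg.Agent.H440.TwoGen.Cox
import Cfsg.Agent.H835.SylFive_m3
import Cfsg.Agent.H121.OZ.JTwoCls_m3
import Cfsg.Agent.H849.OZ.Bad_m3
import Cfsg.Agent.H730.OZ.Asm
import Cfsg.Agent.H834.Bridge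
import Cfsg.Agent.H530.OZ.RowF_m3
import Cfsg.Agent.Blocks.OrbitSum
import Cfsg.Agent.S0908
import Cfsg.Agent.S0924
import Cfsg.Agent.S0959
import Cfsg.Agent.S4710
import Cfsg.Agent.Blocks.ExistsModular
import Cfsg.Agent.H547.SelfCent.Base
import Cfsg.Agent.H678.PV.RowCoOneB_m3
import Cfsg.Agent.MonsterU.CoFrameF
import Cfsg.Agent.KFacts.Co1D4.Main
import Cfsg.Agent.StdG24.F.CaseII_m3
import Cfsg.Agent.H678.OZ.CoOneDod
import Cfsg.Agent.H435.Fpr.CenterFix_m3
import Cfsg.Agent.FastGrp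
import Cfsg.Agent.Prune
set_option linter.all false

section
prune_inst 0x7f00000000000000000000000000000000000000000000000000000000000000000000000000000000000000000000000000000000000000000000000000000000000000000000000000000000000000003fffffffffffffffffffffffffffbeffbdffffffff

section
prune_inst 0xf1fdfbbff8efffffff7e7ffedfdfffddfaffffa6dffdfb7fe0e1ff2bdf6b000be5fb8d6ff014ff1fd6e1b414f87b1bfdffffffeb6bfc7ffffd5ff45ffbffcfedf7bd8811de8cb40fb00fffe3f07f8e7f000000000000000000000000000000004200000000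

-- part: H448/Van/RkChev
section
prune_inst 0xe000000041000000001800000000020010000492000000000000014000484e4020020800102000001020281020040020000000400020000000000000400101000000040200000000e00000008800000000000000000000000000000000000000000000000
set_option linter.all false
open scoped Cfsg.Agent.FastGrp

/-!
# The frame of a simple root in `D.group k` (helper448)

* `rp_xc` : the action of the representatives of `W` on the root elements;
* `exists_phi` : the homomorphism of a simple root;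
* `fram` : the frame.
-/

set_option autoImplicit false
set_option linter.unusedSectionVars false

namespace Cfsg.Agent.H448.Van.Rk

open CoxeterSystem Subgroup Cfsg Cfsg.Lie Cfsg.Lie.ChevalleyDatum
open Cfsg.Agent.ChevalleyStructure Cfsg.Agent.ChevalleyStructure.Elts Cfsg.Agent.ChevalleyStructure.CoxeterGeom
  Cfsg.Agent.ChevalleyStructure.CoxeterGeomTypes Cfsg.Agent.ChevalleyStructure.NPerm
open Cfsg.Agent.Tits.Roots Cfsg.Agent.Tits.Core Cfsg.Agent.Nodes.Reps Cfsg.Agent.Nodes.BNOf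
  Cfsg.Agent.Nodes.RGDChev Cfsg.Agent.Nodes.Bruhat Cfsg.Agent.Nodes Cfsg.Agent.Nodes.Coroot
open Cfsg.Agent.KFacts.RgdField Cfsg.Agent.KFacts.RgdChevCoord Cfsg.Agent.BpExc Cfsg.Agent.BpExc.TorCent
  Cfsg.Agent.BpExc.TorChev Cfsg.Agent.BpExc.Tow Cfsg.Agent.BpExc.TowChev Cfsg.Agent.BpExc.Fr Cfsg.Agent.BpExc.Pair
  Cfsg.Agent.BpExc.LangFr
open Cfsg.Agent.H129.TorusChar Cfsg.Agent.H129.TorusMain Cfsg.Agent.H129.TorusUntw Cfsg.Agent.H129.TorAct
open Cfsg.Agent.H238.SL2Key

universe u v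

/-! ### the representatives -/

section Rp

variable {I W Y : Type*} [Fintype I] [DecidableEq I] [Group W] [Group Y] {M : CoxeterMatrix I}
  {cs : CoxeterSystem M W} {A : I → I → ℤ} {h : IsCartan M A} {T : Subgroup Y} {n : I → Y}
  {X : (I → ℤ) → Subgroup Y} {F : Type*} [Field F] {x : (I → ℤ) → F → Y} {χ : (I → ℤ) → Y → F}

/-- the action on the root elements -/
theorem rp_xc (C : Coords cs h T n X x χ) (hN : NSys M T n) {w : W} {g : Y} (hg : Rp cs hN w g)
    {r : I → ℤ} (hr : IsRoot cs h r) : ∃ c, c ≠ 0 ∧ ∀ a, g * x r a * g⁻¹ = x (rep cs h w r) (c * a) := by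
  obtain ⟨ω, rfl⟩ := cs.wordProd_surjective w
  induction ω generalizing g with
  | nil =>
    rw [wordProd_nil] at hg ⊢
    rw [map_one, Module.End.one_apply]
    exact ⟨_, (C.coord r hr).chi_ne_zero hg.mem_of_one, (C.coord r hr).act _ hg.mem_of_one⟩
  | cons i ω ih =>
    rw [wordProd_cons] at hg ⊢
    have h1 : Rp cs hN (cs.wordProd ω) ((n i)⁻¹ * g) := by
      have := (rp_simple cs hN i).inv.mul hg
      rwa [inv_mul_cancel_left] at this
    obtain ⟨c, hc, h2⟩ := ih h1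
    obtain ⟨c', hc', h3⟩ := C.nact i _ (hr.act (cs.wordProd ω))
    refine ⟨c' * c, mul_ne_zero hc' hc, fun a => ?_⟩
    have e : g * x r a * g⁻¹ = n i * ((n i)⁻¹ * g * x r a * ((n i)⁻¹ * g)⁻¹) * (n i)⁻¹ := by group
    rw [e, h2, h3, rep_mul_apply, mul_assoc]

/-- a word acts trivially on the coordinates outside -/
theorem rep_word_coord {j : I} {L : List I} (hL : ∀ i ∈ L, i ≠ j) (y : I → ℤ) :
    rep cs h (cs.wordProd L) y j = y j := by
  induction L with
  | nil => rw [wordProd_nil, map_one, Module.End.one_apply]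
  | cons i L ih =>
    have h1 := ih fun i hi => hL i (List.mem_cons_of_mem _ hi)
    rw [wordProd_cons, rep_mul_apply, rep_simple_eq, Pi.sub_apply, Pi.smul_apply,
      sr_ne (Ne.symm (hL i List.mem_cons_self)), smul_zero, sub_zero, h1]

theorem rp_word (hN : NSys M T n) (L : List I) : Rp cs hN (cs.wordProd L) (L.map n).prod := by
  induction L with
  | nil => rw [wordProd_nil]; exact rp_one
  | cons i L ih =>
    rw [wordProd_cons, List.map_cons, List.prod_cons]
    exact (rp_simple cs hN i).mul ih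

end Rp

/-! ### the homomorphism of a simple root -/

variable {D : ChevalleyDatum} {l : ℕ} {M : CoxeterMatrix (Fin l)} (hp : IsType D l M) {k : Type u} [Field k]
  {W : Type*} [Group W] (cs : CoxeterSystem M W)

variable (k) in
theorem exists_phi (j : Fin l) : ∃ φ : SL k →* ↥(D.group k), (∀ u, φ (U u) = xc hp (sr j) u) ∧
    (∀ u, φ (V u) = xc hp (-sr j) u) ∧ (∀ c (h0 : c ≠ 0), φ (H c h0) = hc hp j c) ∧ φ (N 1) = nc hp k j := by
  obtain ⟨φ, h1, h2, h3⟩ := H405.UE.exists_sl2 hp k (r := D.simple j) (NPerm.simple_lt hp.inList (lt_rank hp j))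
  have hU : ∀ u, φ (U u) = xc hp (sr j) u := fun u => by rw [H405.UE.zz_simple, ← h1]; rfl
  have hV : ∀ u, φ (V u) = xc hp (-sr j) u := fun u => by rw [H405.UE.zz_neg_simple, ← h2]; rfl
  refine ⟨φ, hU, hV, fun c h0 => ?_, ?_⟩
  · have h4 := h3 (Units.mk0 c h0)
    rw [Units.val_mk0] at h4
    rw [H405.UE.hc_eq_hrt, ← h4]
    rfl
  · unfold N
    rw [map_mul, map_mul, hU, hV, H405.UE.zz_simple, H405.UE.zz_neg_simple]
    apply Subtype.ext
    show xG hp.inList (D.simple j) 1 * xG hp.inList (D.neg (D.simple j)) (-1⁻¹) * xG hp.inList (D.simple j) 1 =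
      nG hp.inList (D.simple j) 1
    rw [nG_def]
    group

section Phi

variable {j : Fin l} {φ : SL k →* ↥(D.group k)} (hU : ∀ u, φ (U u) = xc hp (sr j) u)
  (hV : ∀ u, φ (V u) = xc hp (-sr j) u) (hH : ∀ c (h0 : c ≠ 0), φ (H c h0) = hc hp j c)
  (hN1 : φ (N 1) = nc hp k j)

include hU hV cs

theorem phi_mem_sup (A : SL k) : φ A ∈ XX D l k (sr j) ⊔ XX D l k (-sr j) := by
  have hu : ∀ u, φ (U u) ∈ XX D l k (sr j) ⊔ XX D l k (-sr j) := fun u => by
    rw [hU]
    refine mem_sup_left ((H238.ExcCore.mem_XX_iff hp cs (isRoot_sr cs hp.isCartan j)).2 ⟨u, rfl⟩)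
  have hv : ∀ u, φ (V u) ∈ XX D l k (sr j) ⊔ XX D l k (-sr j) := fun u => by
    rw [hV]
    refine mem_sup_right ((H238.ExcCore.mem_XX_iff hp cs (isRoot_sr cs hp.isCartan j).neg).2 ⟨u, rfl⟩)
  have hn : ∀ u, φ (N u) ∈ XX D l k (sr j) ⊔ XX D l k (-sr j) := fun u => by
    unfold N
    rw [map_mul, map_mul]
    exact mul_mem (mul_mem (hu _) (hv _)) (hu _)
  have hh : ∀ u h0, φ (H u h0) ∈ XX D l k (sr j) ⊔ XX D l k (-sr j) := fun u h0 => by
    rw [H_eq h0, map_mul, map_inv]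
    exact mul_mem (hn _) (inv_mem (hn _))
  by_cases h : mm A 1 0 = 0
  · obtain ⟨h0, e⟩ := dec_zero h
    rw [e, map_mul]
    exact mul_mem (hu _) (hh _ _)
  · obtain ⟨h0, e⟩ := dec_ne h
    rw [e, map_mul, map_mul, map_mul]
    exact mul_mem (mul_mem (mul_mem (hu _) (hh _ _)) (hn _)) (hu _)

theorem sup_le_range : XX D l k (sr j) ⊔ XX D l k (-sr j) ≤ φ.range := by
  refine sup_le (fun y hy => ?_) (fun y hy => ?_)
  · obtain ⟨u, rfl⟩ := (H238.ExcCore.mem_XX_iff hp cs (isRoot_sr cs hp.isCartan j)).1 hy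
    exact ⟨U u, hU u⟩
  · obtain ⟨u, rfl⟩ := (H238.ExcCore.mem_XX_iff hp cs (isRoot_sr cs hp.isCartan j).neg).1 hy
    exact ⟨V u, hV u⟩

include hH in
theorem phi_inj [Infinite k] (hk : LocFin k) (p : ℕ) [Fact p.Prime] [CharP k p] {i : Fin l}
    (hi : pairing (cartanOf D l) j (sr i) = -1) : Function.Injective φ := by
  have hφ : ∀ s t : k, φ (U s) = φ (V t) → s = 0 ∧ t = 0 := fun s t h =>
    H238.ExcCore.inter hp cs hk p (isRoot_sr cs hp.isCartan j) (sr_nonneg j) (by rw [← hU, ← hV, h])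
  rw [injective_iff_map_eq_one]
  intro A hA
  have h1 : mm A 0 1 = 0 := upper_eq_zero φ hφ hA
  have h2 : mm A 1 0 = 0 := by
    have h3 : φ ((N 1)⁻¹ * A * N 1) = 1 := by
      rw [map_mul, map_mul, hA, mul_one, ← map_mul, inv_mul_cancel, map_one]
    have h4 := upper_eq_zero φ hφ h3
    have h5 : N 1 * ((N 1)⁻¹ * A * N 1) = A * N 1 := by group
    have h6 : mm (N 1 * ((N 1)⁻¹ * A * N 1)) 1 1 = mm (A * N (1 : k)) 1 1 := by rw [h5]
    rw [mm_mul, mm_mul A, coe_N one_ne_zero] at h6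
    simp [Matrix.mul_apply, Fin.sum_univ_two] at h6
    rw [h4] at h6
    simpa using h6.symm
  obtain ⟨h0, e⟩ := dec_zero h2
  rw [h1, zero_mul, U_zero, one_mul] at e
  rw [e, hH] at hA
  have h3 := H405.UE.cX_hc hp (k := k) j (Units.mk0 _ h0) (sr i)
  rw [Units.val_mk0, hA, cX_one, hi, zpow_neg_one, Units.val_inv_eq_inv_val, Units.val_mk0] at h3
  have h4 : mm A 0 0 = 1 := by rw [← inv_inv (mm A 0 0), ← h3, inv_one]
  rw [e]
  refine ext2 ?_
  rw [coe_H, mm_one, h4]
  ext a b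
  fin_cases a <;> fin_cases b <;> simp

end Phi

theorem le_cent {Y : Type*} [Group Y] {A B C E : Subgroup Y} (h1 : ∀ x ∈ A, ∀ y ∈ C, Commute x y)
    (h2 : ∀ x ∈ A, ∀ y ∈ E, Commute x y) (h3 : ∀ x ∈ B, ∀ y ∈ C, Commute x y) (h4 : ∀ x ∈ B, ∀ y ∈ E, Commute x y)
    {x y : Y} (hx : x ∈ A ⊔ B) (hy : y ∈ C ⊔ E) : Commute x y := by
  have key : ∀ {P : Subgroup Y}, (∀ x ∈ P, ∀ y ∈ C, Commute x y) → (∀ x ∈ P, ∀ y ∈ E, Commute x y) →
      P ≤ Subgroup.centralizer ((C ⊔ E : Subgroup Y) : Set Y) := by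
    intro P hc1 hc2
    rw [Subgroup.le_centralizer_iff]
    refine sup_le ?_ ?_
    · intro y hy
      rw [Subgroup.mem_centralizer_iff]
      intro x hx
      exact (hc1 x hx y hy).eq
    · intro y hy
      rw [Subgroup.mem_centralizer_iff]
      intro x hx
      exact (hc2 x hx y hy).eq
  have h5 := Subgroup.mem_centralizer_iff.1 (sup_le (key h1 h2) (key h3 h4) hx) y hy
  exact h5.symm

include cs in
theorem nc_commute {i j : Fin l} (hij : i ≠ j)
    (hns : ∀ m n : ℕ, 0 < m → 0 < n → ¬ IsRoot cs hp.isCartan (m • sr j + n • sr i)) {φ : SL k →* ↥(D.group k)}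
    (hU : ∀ u, φ (U u) = xc hp (sr j) u) (hV : ∀ u, φ (V u) = xc hp (-sr j) u) (A : SL k) :
    Commute (φ A) (nc hp k i) := by
  obtain ⟨φ', hU', hV', -, hN'⟩ := exists_phi hp k i
  rw [← hN']
  have hj := isRoot_sr cs hp.isCartan j
  have hi := isRoot_sr cs hp.isCartan i
  have ne1 : (sr j : Fin l → ℤ) ≠ sr i := by
    intro h
    have h1 := congrFun h j
    rw [sr_self, sr_ne (Ne.symm hij)] at h1
    exact one_ne_zero h1
  have ne2 : (sr j : Fin l → ℤ) ≠ -sr i := by
    intro h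
    have h1 := congrFun h j
    rw [sr_self, Pi.neg_apply, sr_ne (Ne.symm hij), neg_zero] at h1
    exact one_ne_zero h1
  have hns2 : ∀ m n : ℕ, 0 < m → 0 < n → ¬ IsRoot cs hp.isCartan (m • sr j + n • (-sr i)) := by
    intro m n hm hn hr
    have ej : (m • (sr j : Fin l → ℤ) + n • (-sr i)) j = m := by
      rw [Pi.add_apply, Pi.smul_apply, Pi.smul_apply, Pi.neg_apply, sr_self, sr_ne (Ne.symm hij)]
      simp
    have ei : (m • (sr j : Fin l → ℤ) + n • (-sr i)) i = -n := by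
      rw [Pi.add_apply, Pi.smul_apply, Pi.smul_apply, Pi.neg_apply, sr_self, sr_ne hij]
      simp
    rcases hr.pos_or_neg with h | h
    · have h1 : (0 : ℤ) ≤ (m • (sr j : Fin l → ℤ) + n • (-sr i)) i := h i
      rw [ei] at h1
      omega
    · have h1 : (m • (sr j : Fin l → ℤ) + n • (-sr i)) j ≤ (0 : ℤ) := h j
      rw [ej] at h1
      omega
  have hneg : ∀ {x y : Fin l → ℤ}, (∀ m n : ℕ, 0 < m → 0 < n → ¬ IsRoot cs hp.isCartan (m • x + n • y)) →
      ∀ m n : ℕ, 0 < m → 0 < n → ¬ IsRoot cs hp.isCartan (m • (-x) + n • (-y)) := by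
    intro x y h m n hm hn hr
    apply h m n hm hn
    have e : m • x + n • y = -(m • (-x) + n • (-y)) := by
      rw [neg_add, smul_neg, smul_neg, _root_.neg_neg, _root_.neg_neg]
    rw [e]
    exact hr.neg
  have hns3 := hneg hns
  have hns4 := hneg hns2
  rw [_root_.neg_neg] at hns4
  refine le_cent ?_ ?_ ?_ ?_ (phi_mem_sup hp cs hU hV A) (phi_mem_sup hp cs hU' hV' (N 1))
  · exact fun x hx y hy => H238.ExcCore.commute_of_sum hp cs hj hi ne1 ne2 hns hx hy
  · exact fun x hx y hy => H238.ExcCore.commute_of_sum hp cs hj hi.neg ne2 (by rwa [_root_.neg_neg]) hns2 hx hy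
  · exact fun x hx y hy => H238.ExcCore.commute_of_sum hp cs hj.neg hi (fun h => ne2 (by rw [← h, _root_.neg_neg]))
      (fun h => ne1 (neg_injective h)) hns4 hx hy
  · exact fun x hx y hy => H238.ExcCore.commute_of_sum hp cs hj.neg hi.neg (fun h => ne1 (neg_injective h))
      (fun h => ne2 (by rw [← _root_.neg_neg (sr j : Fin l → ℤ), h, _root_.neg_neg])) hns3 hx hy

section Frame

variable [IsAlgClosed k] (hk : LocFin k) {p e : ℕ} [Fact p.Prime] [CharP k p] {F : Type u} [Field F] [Fintype F]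
  {f : F →+* k} (hq : Fintype.card F = p ^ e)
  {j : Fin l} {φ : SL k →* ↥(D.group k)} (hU : ∀ u, φ (U u) = xc hp (sr j) u)
  (hV : ∀ u, φ (V u) = xc hp (-sr j) u) (hH : ∀ c (h0 : c ≠ 0), φ (H c h0) = hc hp j c)

include cs in
theorem ch_neg_sr {s : ↥(D.group k)} (hs : s ∈ TT D k) :
    ∀ a, s * xc hp (-sr j) a * s⁻¹ = xc hp (-sr j) ((ch hp (sr j) s)⁻¹ * a) := by
  intro a
  have hn := (isRoot_sr cs hp.isCartan j).neg
  have h1 : ch hp (-sr j) s = (ch hp (sr j) s)⁻¹ := by
    rw [← cX_root hp cs hs hn, (isMC_cX hp hs).neg, cX_sr]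
  obtain ⟨r, hr, er⟩ := (isRoot_iff hp cs _).1 hn
  rw [← h1, ← er]
  exact (act hp hr hs).2 a

theorem phi_xc' (v : Fin l → ℤ) (a : k) :
    phi D k p e (xc hp v a) = xc hp v (a ^ p ^ e) := by
  rw [phi_eq hp, emb_xc, iterateFrobenius_def]

include hk hq hU hV hH in
/-- **The frame.** -/
theorem fram {i0 : Fin l} (hi0 : pairing (cartanOf D l) j (sr i0) = -1) {B' : Fin l → Fin l → ℤ}
    (hB : InvC D l 1 B') {L : List (Fin l)} (hL : ∀ i ∈ L, i ≠ j)
    (hns : ∀ i ∈ L, ∀ m n : ℕ, 0 < m → 0 < n → ¬ IsRoot cs hp.isCartan (m • sr j + n • sr i)) :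
    Fram f (iterateFrobenius k p e) (p ^ e) φ (TT D k) (ch hp (sr j))
      (MulAut.conj (L.map (nc hp k)).prod * phi D k p e) := by
  have hinf : Infinite k := IsAlgClosed.instInfinite
  have hN : NSys M (TT D k) (nc hp k) := nsys_of_locFin hp cs hk p
  have hfix : ∀ x : k, x ^ p ^ e = x ↔ x ∈ Set.range f := fun x => by
    rw [← frob_fix_iff f hq, iterateFrobenius_def]
  have hcomm : ∀ A, Commute (φ A) (L.map (nc hp k)).prod := by
    intro A
    have : ∀ L' : List (Fin l), (∀ i ∈ L', i ∈ L) → Commute (φ A) (L'.map (nc hp k)).prod := by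
      intro L'
      induction L' with
      | nil => intro _; exact Commute.one_right _
      | cons i L' ih =>
        intro h
        rw [List.map_cons, List.prod_cons]
        have hi := h i List.mem_cons_self
        exact (nc_commute hp cs (hL i hi) (hns i hi) hU hV A).mul_right
          (ih fun i' hi' => h i' (List.mem_cons_of_mem _ hi'))
    exact this L fun _ h => h
  have hrp := rp_word (cs := cs) hN L
  exact
  { hq := hq
    hfr := fun x => by rw [iterateFrobenius_def]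
    hfix := hfix
    Tc := fun s hs t ht => H405.UE.TT_comm hp hs ht
    χ0 := fun s hs => (ch_sr_act hp hs j).1
    χU := fun s hs u => by rw [hU, hU, (ch_sr_act hp hs j).2]
    χV := fun s hs u => by rw [hV, hV, ch_neg_sr hp cs hs]
    inj := phi_inj hp cs hU hV hH hk p hi0
    HT := fun c h0 => by rw [hH]; exact hc_mem hp j h0
    τφ := by
      intro A
      have h : ((MulAut.conj (L.map (nc hp k)).prod * phi D k p e : MulAut ↥(D.group k)).toMonoidHom.comp φ) =
          φ.comp (Matrix.SpecialLinearGroup.map (iterateFrobenius k p e)) := by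
        apply hom_ext
        · intro s
          show (L.map (nc hp k)).prod * phi D k p e (φ (U s)) * ((L.map (nc hp k)).prod)⁻¹ =
            φ (Matrix.SpecialLinearGroup.map (iterateFrobenius k p e) (U s))
          rw [map_U, hU, phi_xc' hp, ← hU, ← (hcomm _).eq, mul_inv_cancel_right,
            iterateFrobenius_def]
        · intro s
          show (L.map (nc hp k)).prod * phi D k p e (φ (V s)) * ((L.map (nc hp k)).prod)⁻¹ =
            φ (Matrix.SpecialLinearGroup.map (iterateFrobenius k p e) (V s))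
          rw [map_V, hV, phi_xc' hp, ← hV, ← (hcomm _).eq, mul_inv_cancel_right,
            iterateFrobenius_def]
      exact DFunLike.congr_fun h A
    τT := fun s hs => tau_mem hp cs (fr_phi hp cs) hrp hs
    surj := by
      intro a ha
      have hfa : f a ≠ 0 := (map_ne_zero f).2 ha
      have hmc : IsMC (fun x : Fin l → ℤ => f a ^ x j) := ⟨by simp, fun x y => by
        rw [Pi.add_apply, zpow_add₀ hfa]⟩
      obtain ⟨s, hs, hcs⟩ := exists_cX hp hB one_ne_zero hmc (fun i => ⟨_, pow_one _⟩)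
      refine ⟨s, hs, ?_, ?_⟩
      · show (L.map (nc hp k)).prod * phi D k p e s * ((L.map (nc hp k)).prod)⁻¹ = s
        rw [tau_iff hp cs hk isFrob_phi (fr_phi hp cs) hrp hs]
        intro x
        rw [hcs, hcs, theta_apply, AddEquiv.refl_apply, rep_word_coord hL]
        have h1 : f a ^ p ^ e = f a := (hfix _).2 ⟨a, rfl⟩
        rw [← zpow_natCast, ← zpow_mul, mul_comm, zpow_mul, zpow_natCast, h1]
      · rw [← cX_sr, hcs, sr_self, zpow_one] }

end Frame

end Cfsg.Agent.H448.Van.Rk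
end

-- part: H448/Van/RkTor
section
prune_inst 0x204000400000000018000200000020000000000000000090200000010a984100012100082008000000000000000000000000000000000000000200000100000020100001000000400000001000000000000000000000000000000000041000000000000
set_option linter.all false
open scoped Cfsg.Agent.FastGrp

/-!
# The torus element of the rank one configuration (helper448)
-/

set_option autoImplicit false
set_option linter.unusedSectionVars false

namespace Cfsg.Agent.H448.Van.Rk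

open CoxeterSystem Subgroup Cfsg Cfsg.Lie Cfsg.Lie.ChevalleyDatum
open Cfsg.Agent.ChevalleyStructure Cfsg.Agent.ChevalleyStructure.Elts Cfsg.Agent.ChevalleyStructure.CoxeterGeom
  Cfsg.Agent.ChevalleyStructure.CoxeterGeomTypes Cfsg.Agent.ChevalleyStructure.NPerm
open Cfsg.Agent.Tits.Roots Cfsg.Agent.Tits.Core Cfsg.Agent.Nodes.Reps Cfsg.Agent.Nodes.BNOf
  Cfsg.Agent.Nodes.RGDChev Cfsg.Agent.Nodes.Bruhat Cfsg.Agent.Nodes Cfsg.Agent.Nodes.Coroot
open Cfsg.Agent.KFacts.RgdField Cfsg.Agent.KFacts.RgdChevCoord Cfsg.Agent.BpExc Cfsg.Agent.BpExc.TorCent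
  Cfsg.Agent.BpExc.TorChev Cfsg.Agent.BpExc.Tow Cfsg.Agent.BpExc.TowChev Cfsg.Agent.BpExc.Fr Cfsg.Agent.BpExc.Pair
  Cfsg.Agent.BpExc.LangFr
open Cfsg.Agent.H129.TorusChar Cfsg.Agent.H129.TorusMain Cfsg.Agent.H129.TorusUntw Cfsg.Agent.H129.TorAct
open Cfsg.Agent.H238.SL2Key
open Cfsg.Agent.H378.Regular (exists_form')
open Cfsg.Agent.H378.RegTw Cfsg.Agent.H378.ExcAdj Cfsg.Agent.H378.TorFin

universe u v

variable {D : ChevalleyDatum} {l : ℕ} {M : CoxeterMatrix (Fin l)} (hp : IsType D l M) {k : Type u} [Field k]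
  {W : Type*} [Group W] (cs : CoxeterSystem M W)

/-! ### the element -/

/-- a torus element with the characters `u ^ G x` -/
theorem exists_t [IsAlgClosed k] {B' : Fin l → Fin l → ℤ} (hB : InvC D l 1 B') (G : (Fin l → ℤ) →+ ℤ) {u : k}
    (hu : u ≠ 0) : ∃ t ∈ TT D k, ∀ x, cX hp t x = u ^ G x := by
  have hmc : IsMC (fun x : Fin l → ℤ => u ^ G x) := ⟨by simp, fun x y => by
    rw [map_add, zpow_add₀ hu]⟩
  exact exists_cX hp hB one_ne_zero hmc fun i => ⟨_, pow_one _⟩

include hp in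
/-- torus elements of order dividing the characteristic -/
theorem tors {p : ℕ} [Fact p.Prime] [CharP k p] {s : ↥(D.group k)} (hs : s ∈ TT D k) (h : s ^ p = 1) : s = 1 := by
  refine cX_inj hp hs (one_mem _) fun i => ?_
  rw [cX_one]
  have h1 : cX hp s (sr i) ^ p = 1 := by rw [← cX_pow hp hs, h, cX_one]
  have h2 : (cX hp s (sr i) - 1) ^ p = 0 := by rw [sub_pow_char, h1, one_pow, sub_self]
  exact sub_eq_zero.1 (pow_eq_zero_iff (Fact.out : p.Prime).ne_zero |>.1 h2)

section Elt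

variable {G : (Fin l → ℤ) →+ ℤ} {u : k} {r b : ℕ} (hr : r.Prime) (hu : IsPrimitiveRoot u (r ^ (b + 1)))
  {t : ↥(D.group k)} (ht : t ∈ TT D k) (hcX : ∀ x, cX hp t x = u ^ G x)

include hr hu ht hcX

theorem cX_pow_eq_one_iff (n : ℕ) (x : Fin l → ℤ) : cX hp (t ^ n) x = 1 ↔ ((r ^ (b + 1) : ℕ) : ℤ) ∣ n * G x := by
  rw [cX_pow hp ht, hcX, ← zpow_natCast, ← zpow_mul, hu.zpow_eq_one_iff_dvd, mul_comm]

theorem orderOf_t {a : Fin l → ℤ} (ha : ¬ (r : ℤ) ∣ G a) : orderOf t = r ^ (b + 1) := by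
  have : Fact r.Prime := ⟨hr⟩
  refine orderOf_eq_prime_pow ?_ ?_
  · intro h
    have h1 : cX hp (t ^ r ^ b) a = 1 := by rw [h, cX_one]
    rw [cX_pow_eq_one_iff hp hr hu ht hcX, pow_succ, Nat.cast_mul,
      mul_dvd_mul_iff_left (by exact_mod_cast (pow_pos hr.pos b).ne')] at h1
    exact ha h1
  · refine cX_inj hp (pow_mem ht _) (one_mem _) fun i => ?_
    rw [cX_one, cX_pow_eq_one_iff hp hr hu ht hcX]
    exact Dvd.intro _ rfl

/-- the roots with value `1` on a power of order divisible by `r` -/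
theorem root_of_one {j : Fin l} (hG3 : ∀ a, IsRoot cs hp.isCartan a → a ≠ sr j → a ≠ -sr j → ¬ (r : ℤ) ∣ G a) {n : ℕ}
    (hn : ¬ r ^ (b + 1) ∣ n) {a : Fin l → ℤ} (ha : IsRoot cs hp.isCartan a) (h : cX hp (t ^ n) a = 1) :
    a = sr j ∨ a = -sr j := by
  by_contra hcon
  push Not at hcon
  rw [cX_pow_eq_one_iff hp hr hu ht hcX] at h
  apply hn
  have hco : IsCoprime ((r ^ (b + 1) : ℕ) : ℤ) (G a) := by
    rw [Nat.cast_pow]
    exact IsCoprime.pow_left ((Nat.prime_iff_prime_int.1 hr).coprime_iff_not_dvd.2 (hG3 a ha hcon.1 hcon.2))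
  exact Int.natCast_dvd_natCast.1 (hco.dvd_of_dvd_mul_right h)

end Elt

section Phi

variable {j : Fin l} {φ : SL k →* ↥(D.group k)} (hU : ∀ u, φ (U u) = xc hp (sr j) u)
  (hV : ∀ u, φ (V u) = xc hp (-sr j) u) (hN1 : φ (N 1) = nc hp k j)

include cs hU hV in
theorem MM_le {s : ↥(D.group k)} (h : ∀ a, IsRoot cs hp.isCartan a → ch hp a s = 1 → a = sr j ∨ a = -sr j) :
    MM cs hp.isCartan (XX D l k) (ch hp) s ≤ φ.range := by
  refine RGD.Sup_le fun a ha => ?_
  rcases h a ha.1 ha.2 with rfl | rfl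
  · exact le_sup_left.trans (sup_le_range hp cs hU hV)
  · exact le_sup_right.trans (sup_le_range hp cs hU hV)

include hN1 in
/-- a representative fixing the root -/
theorem adjust {hN : NSys M (TT D k) (nc hp k)} {w : W} {g : ↥(D.group k)} (hg : Rp cs hN w g)
    (hw : rep cs hp.isCartan w (sr j) = sr j ∨ rep cs hp.isCartan w (sr j) = -sr j) :
    ∃ (B : SL k) (v : W), Rp cs hN v (φ B * g) ∧ rep cs hp.isCartan v (sr j) = sr j ∧
      (B = 1 ∧ v = w ∨ B = N 1 ∧ v = cs.simple j * w) := by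
  rcases hw with hw | hw
  · exact ⟨1, w, by rw [map_one, one_mul]; exact hg, hw, Or.inl ⟨rfl, rfl⟩⟩
  · refine ⟨N 1, cs.simple j * w, ?_, ?_, Or.inr ⟨rfl, rfl⟩⟩
    · rw [hN1]
      exact (rp_simple cs hN j).mul hg
    · rw [rep_mul_apply, hw, map_neg, rep_simple_sr, _root_.neg_neg]

end Phi

section Cent

variable [Finite W] [IsAlgClosed k] (hk : LocFin k) {j : Fin l} {φ : SL k →* ↥(D.group k)} (hU : ∀ u, φ (U u) = xc hp (sr j) u)
  (hV : ∀ u, φ (V u) = xc hp (-sr j) u) (hN1 : φ (N 1) = nc hp k j)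

include cs hk hU hV hN1 in
/-- **The centraliser.** -/
theorem cent_form (p : ℕ) [Fact p.Prime] [CharP k p] {s : ↥(D.group k)} (hs : s ∈ TT D k) {r : ℕ} (hr : r.Prime)
    (hrW : ¬ r ∣ Nat.card W) (hsr : s ^ r = 1) (hroot : ∀ a, IsRoot cs hp.isCartan a → ch hp a s = 1 → a = sr j ∨ a = -sr j)
    (h1 : ch hp (sr j) s = 1) {c : ↥(D.group k)} (hc : c * s = s * c) : ∃ A, ∃ s' ∈ TT D k, c = φ A * s' := by
  obtain ⟨m, hm, w, g, hg, hgs, hcm⟩ := exists_form' hp cs hk p hs hs hc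
  obtain ⟨A, rfl⟩ := MM_le hp cs hU hV hroot hm
  have hgc : g * s * g⁻¹ = s := by rw [hgs]; group
  have hchar : ∀ x, cX hp s (rep cs hp.isCartan w x) = cX hp s x := by
    intro x
    have h2 := cX_rp hp cs hk p hg hs x
    rwa [hgc] at h2
  have hw : rep cs hp.isCartan w (sr j) = sr j ∨ rep cs hp.isCartan w (sr j) = -sr j := by
    have hrt := (isRoot_sr cs hp.isCartan j).act w
    refine hroot _ hrt ?_
    rw [← cX_root hp cs hs hrt, hchar, cX_sr, h1]
  obtain ⟨B, v, hv, hvj, hB⟩ := adjust hp cs hN1 hg hw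
  have hv' : ∀ x, cX hp s (rep cs hp.isCartan v x) = cX hp s x := by
    rcases hB with ⟨-, rfl⟩ | ⟨rfl, rfl⟩
    · exact hchar
    · intro x
      rw [rep_mul_apply]
      have h2 := cX_rp hp cs hk p (rp_simple cs (H378.TorChar.nsysL hp cs hk p) j) hs (rep cs hp.isCartan w x)
      have h3 : nc hp k j * s * (nc hp k j)⁻¹ = s := by
        rw [← hN1]
        have h4 : ∀ u, s * φ (U u) * s⁻¹ = φ (U u) := fun u => by
          rw [hU, (ch_sr_act hp hs j).2, h1, one_mul]
        have h5 : ∀ u, s * φ (V u) * s⁻¹ = φ (V u) := fun u => by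
          rw [hV, ch_neg_sr hp cs hs, h1, inv_one, one_mul]
        have h6 : cjh φ s = φ := hom_ext h4 h5
        have h7 : s * φ (N 1) * s⁻¹ = φ (N 1) := DFunLike.congr_fun h6 (N 1)
        have h8 : s * φ (N 1) = φ (N 1) * s := mul_inv_eq_iff_eq_mul.1 h7
        rw [← h8]
        group
      rw [h3] at h2
      rw [h2, hchar]
  have hPP : v ∈ PP cs hp.isCartan (ch hp) s := by
    refine mem_PP.2 ⟨fun a ha => ?_, fun a ha h0 => ?_⟩
    · rw [← cX_root hp cs hs ha, ← cX_root hp cs hs (ha.act v)]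
      exact hv' a
    · rcases hroot a ha.1 ha.2 with rfl | rfl
      · rw [hvj]; exact h0
      · exfalso
        have h2 : (0 : ℤ) ≤ (-(sr j : Fin l → ℤ)) j := h0 j
        rw [Pi.neg_apply, sr_self] at h2
        omega
  have hPG := isPGroup_PP (h := hp.isCartan) (chAddL (k := k) hp cs hk p) hs hr (fun a ha => by
    rw [← cX_root hp cs hs ha, ← cX_pow hp hs, hsr, cX_one])
  have hv1 : v = 1 := by
    obtain ⟨n, hn⟩ := hPG ⟨v, hPP⟩
    have h2 : v ^ r ^ n = 1 := congrArg Subtype.val hn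
    have h3 : v ^ Nat.card W = 1 := pow_card_eq_one'
    have h4 : Nat.Coprime (r ^ n) (Nat.card W) := Nat.Coprime.pow_left n ((Nat.Prime.coprime_iff_not_dvd hr).2 hrW)
    have h5 := Nat.dvd_gcd (orderOf_dvd_of_pow_eq_one h2) (orderOf_dvd_of_pow_eq_one h3)
    rw [h4, Nat.dvd_one] at h5
    exact orderOf_eq_one_iff.1 h5
  rw [hv1] at hv
  refine ⟨A * B⁻¹, φ B * g, hv.mem_of_one, ?_⟩
  rw [hcm, map_mul, map_inv]
  group

include cs hk hU hV hN1 in
/-- **The normaliser.** -/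
theorem norm_form (p : ℕ) [Fact p.Prime] [CharP k p] {s s' : ↥(D.group k)} (hs : s ∈ TT D k) (hs' : s' ∈ TT D k)
    (hroot : ∀ a, IsRoot cs hp.isCartan a → ch hp a s' = 1 → a = sr j ∨ a = -sr j)
    (h1 : ch hp (sr j) s = 1) {ν : ↥(D.group k)} (hν : ν * s = s' * ν) :
    ∃ (A : SL k) (g : ↥(D.group k)) (c c' : k), ν = φ A * g ∧ c ≠ 0 ∧
      (∀ u, g * φ (U u) * g⁻¹ = φ (U (c * u))) ∧ ∀ u, g * φ (V u) * g⁻¹ = φ (V (c' * u)) := by
  obtain ⟨m, hm, w, g, hg, hgs, hcm⟩ := exists_form' hp cs hk p hs hs' hν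
  obtain ⟨A, rfl⟩ := MM_le hp cs hU hV hroot hm
  have hgc : g * s * g⁻¹ = s' := by rw [hgs]; group
  have hw : rep cs hp.isCartan w (sr j) = sr j ∨ rep cs hp.isCartan w (sr j) = -sr j := by
    have hrt := (isRoot_sr cs hp.isCartan j).act w
    refine hroot _ hrt ?_
    rw [← cX_root hp cs hs' hrt, ← hgc, cX_rp hp cs hk p hg hs, cX_sr, h1]
  obtain ⟨B, v, hv, hvj, -⟩ := adjust hp cs hN1 hg hw
  have C := coordsL hp cs hk p
  obtain ⟨c, hc, h2⟩ := rp_xc C _ hv (isRoot_sr cs hp.isCartan j)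
  obtain ⟨c', -, h3⟩ := rp_xc C _ hv (isRoot_sr cs hp.isCartan j).neg
  rw [hvj] at h2
  rw [map_neg, hvj] at h3
  refine ⟨A * B⁻¹, φ B * g, c, c', ?_, hc, fun u => ?_, fun u => ?_⟩
  · rw [hcm, map_mul, map_inv]
    group
  · rw [hU, h2, hU]
  · rw [hV, h3, hV]

include cs hk in
/-- the Weyl group element of a conjugation -/
theorem exists_weyl' (p : ℕ) [Fact p.Prime] [CharP k p] {t c : ↥(D.group k)} (ht : t ∈ TT D k) {n : ℕ}
    (h : c * t * c⁻¹ = t ^ n) : ∃ w : W, H378.TorChar.tchar hp ⟨t, ht⟩ ∈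
      H378.TorDual.KerOf k (rep cs hp.isCartan w - (n : ℤ) • (1 : Module.End ℤ (Fin l → ℤ))) := by
  obtain ⟨m', hm', w, g, hg, hgs, hc'⟩ := exists_form' hp cs hk p (s := t ^ n) (t := t) (c := c⁻¹)
    ((TT D k).pow_mem ht n) ht (by rw [← h]; group)
  refine ⟨w, fun x => ?_⟩
  have h1 := cX_rp hp cs hk p hg ((TT D k).pow_mem ht n) x
  have h2 : g * t ^ n * g⁻¹ = t := by rw [hgs]; group
  rw [h2] at h1
  have h3 : H378.TorChar.tchar hp ⟨t, ht⟩ (Multiplicative.ofAdd (rep cs hp.isCartan w x)) =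
      H378.TorChar.tchar hp ⟨t, ht⟩ (Multiplicative.ofAdd x) ^ n := by
    refine Units.ext ?_
    rw [tchar_eq_cX, h1, ← tchar_eq_cX hp ((TT D k).pow_mem ht n), Units.val_pow_eq_pow_val]
    have h4 : (⟨t ^ n, (TT D k).pow_mem ht n⟩ : ↥(TT D k)) = ⟨t, ht⟩ ^ n := rfl
    rw [h4, map_pow, MonoidHom.pow_apply, Units.val_pow_eq_pow_val]
  show H378.TorChar.tchar hp ⟨t, ht⟩
    (Multiplicative.ofAdd ((rep cs hp.isCartan w - (n : ℤ) • (1 : Module.End ℤ (Fin l → ℤ))) x)) = 1
  rw [LinearMap.sub_apply, ofAdd_sub, map_div, h3, LinearMap.smul_apply, Module.End.one_apply, ofAdd_zsmul, map_zpow,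
    zpow_natCast, div_self']

include hp cs hk in
/-- an element conjugate to all its powers -/
theorem totient_le (p : ℕ) [Fact p.Prime] [CharP k p] {t : ↥(D.group k)} (ht : t ∈ TT D k) {r : ℕ} (hr : r.Prime)
    (hl : l + 1 < r) (hto : orderOf t = r) (h : ∀ n : ℕ, ¬ r ∣ n → ∃ c, c * t * c⁻¹ = t ^ n) :
    (r - 1).totient ≤ l := by
  have : Fact r.Prime := ⟨hr⟩
  obtain ⟨g, hg⟩ := IsCyclic.exists_generator (α := (ZMod r)ˣ)
  have hgo : orderOf g = r - 1 := by
    rw [orderOf_eq_card_of_forall_mem_zpowers hg, Nat.card_eq_fintype_card, ZMod.card_units_eq_totient,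
      Nat.totient_prime hr]
  obtain ⟨n, hn⟩ : ∃ n : ℕ, (n : ZMod r) = (g : ZMod r) := ⟨(g : ZMod r).val, by rw [ZMod.natCast_val, ZMod.cast_id]⟩
  have hno : orderOf (n : ZMod r) = r - 1 := by rw [hn, ← hgo, orderOf_units]
  have hrn : ¬ r ∣ n := by
    intro h0
    rw [← CharP.cast_eq_zero_iff (ZMod r) r, hn] at h0
    exact g.ne_zero h0
  obtain ⟨c, hc⟩ := h n hrn
  obtain ⟨w, hw⟩ := exists_weyl' hp cs hk p ht hc
  have htr : t ^ r = 1 := by rw [← hto, pow_orderOf_eq_one]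
  have h1 : H378.TorChar.tchar hp ⟨t, ht⟩ ≠ 1 := by
    intro h1
    have h2 := H378.TorChar.tchar_injective hp (h1.trans (map_one (H378.TorChar.tchar hp)).symm)
    have h3 : t = 1 := congrArg Subtype.val h2
    rw [h3, orderOf_one] at hto
    exact hr.one_lt.ne hto
  exact (H448.FprExc.exists_vec (w := rep cs hp.isCartan w) (N := Nat.card W) Nat.card_pos
    (by rw [← map_pow, pow_card_eq_one', map_one]) hr hl hno (by have := hr.two_le; omega) h1
    (H378.Regular.tchar_pow_eq_one hp ht htr) hw).1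

end Cent

end Cfsg.Agent.H448.Van.Rk
end

-- part: H448/Van/RkFin
section
prune_inst 0xe02004000100000000000002020002201000049000200800c120014008002500000221001c8002009020a2800004002000000140400000000a00020040000100002116220110b804a00000800804000000000000000000000000000000000000000000000
set_option linter.all false
open scoped Cfsg.Agent.FastGrp

/-!
# The rank one configuration in the untwisted groups (helper448)
-/

set_option autoImplicit false
set_option linter.unusedSectionVars false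

namespace Cfsg.Agent.H448.Van.Rk

open CoxeterSystem Subgroup Cfsg Cfsg.Lie Cfsg.Lie.ChevalleyDatum
open Cfsg.Agent.ChevalleyStructure Cfsg.Agent.ChevalleyStructure.Elts Cfsg.Agent.ChevalleyStructure.CoxeterGeom
  Cfsg.Agent.ChevalleyStructure.CoxeterGeomTypes Cfsg.Agent.ChevalleyStructure.NPerm
open Cfsg.Agent.Tits.Roots Cfsg.Agent.Tits.Core Cfsg.Agent.Nodes.Reps Cfsg.Agent.Nodes.BNOf
  Cfsg.Agent.Nodes.RGDChev Cfsg.Agent.Nodes.Bruhat Cfsg.Agent.Nodes Cfsg.Agent.Nodes.Coroot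
open Cfsg.Agent.KFacts.RgdField Cfsg.Agent.KFacts.RgdChevCoord Cfsg.Agent.BpExc Cfsg.Agent.BpExc.TorCent
  Cfsg.Agent.BpExc.TorChev Cfsg.Agent.BpExc.Tow Cfsg.Agent.BpExc.TowChev Cfsg.Agent.BpExc.Fr Cfsg.Agent.BpExc.Pair
  Cfsg.Agent.BpExc.LangFr Cfsg.Agent.GpExc.Field
open Cfsg.Agent.H129.TorusChar Cfsg.Agent.H129.TorusMain Cfsg.Agent.H129.TorusUntw Cfsg.Agent.H129.TorAct
open Cfsg.Agent.H238.SL2Key Cfsg.Agent.H695.OneZero

universe u v

variable {D : ChevalleyDatum} {l : ℕ} {M : CoxeterMatrix (Fin l)} (hp : IsType D l M)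
  {W : Type*} [Group W] (cs : CoxeterSystem M W)

/-- the Lang conjugate of the embedding -/
noncomputable def psi {k : Type u} [Field k] {F : Type u} [Field F] (f : F →+* k) (z : ↥(D.group k)) :
    ↥(D.group F) →* ↥(D.group k) := (MulAut.conj z⁻¹).toMonoidHom.comp (emb hp.inList f)

theorem psi_apply {k : Type u} [Field k] {F : Type u} [Field F] (f : F →+* k) (z : ↥(D.group k)) (g : ↥(D.group F)) :
    psi hp f z g = z⁻¹ * emb hp.inList f g * z := by
  show z⁻¹ * emb hp.inList f g * z⁻¹⁻¹ = _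
  rw [inv_inv]

theorem psi_inj {k : Type u} [Field k] {F : Type u} [Field F] (f : F →+* k) (z : ↥(D.group k)) :
    Function.Injective (psi hp f z) := (MulAut.conj z⁻¹).injective.comp (emb_injective hp.inList f)

include cs in
theorem psi_range {k : Type u} [Field k] [IsAlgClosed k] {p e : ℕ} [Fact p.Prime] [CharP k p] {F : Type u} [Field F]
    [Fintype F] (f : F →+* k) (hq : Fintype.card F = p ^ e) {B' : Fin l → Fin l → ℤ} (hB : InvC D l 1 B')
    {n z : ↥(D.group k)} (hz : n = z⁻¹ * phi D k p e z) (y : ↥(D.group k)) :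
    y ∈ (psi hp f z).range ↔ (MulAut.conj n * phi D k p e : MulAut ↥(D.group k)) y = y := by
  have hσz : phi D k p e z = z * n := by rw [hz]; group
  show _ ↔ n * phi D k p e y * n⁻¹ = y
  constructor
  · rintro ⟨g, rfl⟩
    rw [psi_apply, map_mul, map_mul, map_inv, phi_emb hp f hq, hσz]
    group
  · intro h
    have h1 : phi D k p e (z * y * z⁻¹) = z * y * z⁻¹ := by
      rw [map_mul, map_mul, map_inv, hσz]
      calc z * n * phi D k p e y * (z * n)⁻¹ = z * (n * phi D k p e y * n⁻¹) * z⁻¹ := by group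
        _ = _ := by rw [h]
    obtain ⟨x, hx⟩ := fix_range hp cs f hq hB one_ne_zero (fun a => ⟨a, pow_one a⟩) h1
    exact ⟨x, by rw [psi_apply, hx]; group⟩

include hp in
/-- **The rank one configuration.** -/
theorem rankOneAt_chev [Finite W] {F : Type u} [Field F] [Fintype F] {p e : ℕ} (hpp : p.Prime)
    (hq : Fintype.card F = p ^ e) {B' : Fin l → Fin l → ℤ} (hB : InvC D l 1 B') {j i0 : Fin l}
    (hi0 : pairing (cartanOf D l) j (sr i0) = -1) {L : List (Fin l)} (hL : ∀ i ∈ L, i ≠ j)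
    (hns : ∀ i ∈ L, ∀ m n : ℕ, 0 < m → 0 < n → ¬ IsRoot cs hp.isCartan (m • sr j + n • sr i))
    (G : (Fin l → ℤ) →+ ℤ) {r b m : ℕ} (hr : r.Prime) (hrp : r ≠ p) (hrW : ¬ r ∣ Nat.card W) (hl : l + 1 < r)
    (htot : l < (r - 1).totient)
    (hG1 : ∀ x, ((r ^ (b + 1) : ℕ) : ℤ) ∣ G (rep cs hp.isCartan (cs.wordProd L) x) - ((p ^ e : ℕ) : ℤ) * G x)
    (hG2 : ((r ^ (b + 1) : ℕ) : ℤ) ∣ G (sr j))
    (hG3 : ∀ a, IsRoot cs hp.isCartan a → a ≠ sr j → a ≠ -sr j → ¬ (r : ℤ) ∣ G a)
    (hcard : Nat.card ↥(D.group F) = r ^ (b + 1) * m) (hm : ¬ r ∣ m) (hrq : ¬ r ∣ p ^ e * ((p ^ e) ^ 2 - 1)) :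
    RankOneAt ↥(D.group F) p r (p ^ e) := by
  obtain ⟨p', e', hpF, hpc, hpk, he, hqe, hk⟩ := exists_closure hq
  obtain rfl : p = p' := by
    have he0 : e ≠ 0 := by
      rintro rfl
      rw [pow_zero, eq_comm, Nat.pow_eq_one] at hqe
      rcases hqe with h | h
      · exact hpF.out.one_lt.ne' h
      · omega
    have h1 : p ∣ p' ^ e' := by rw [← hqe]; exact dvd_pow_self p he0
    exact (Nat.prime_dvd_prime_iff_eq hpp hpF.out).1 (hpp.dvd_of_dvd_pow h1)
  obtain rfl : e = e' := Nat.pow_right_injective hpp.two_le hqe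
  have hgfin : Finite ↥(D.group F) := by
    apply Nat.finite_of_card_ne_zero
    rw [hcard]
    refine mul_ne_zero (pow_pos hr.pos _).ne' ?_
    rintro rfl
    exact hm (dvd_zero r)
  have hN : NSys M (TT D (AlgebraicClosure F)) (nc hp (AlgebraicClosure F)) := nsys_of_locFin hp cs hk p
  obtain ⟨φ, hU, hV, hH, hN1⟩ := exists_phi hp (AlgebraicClosure F) j
  have X := fram hp cs hk (f := algebraMap F (AlgebraicClosure F)) hq hU hV hH hi0 hB hL hns
  obtain ⟨z, hz⟩ := lang_all hp cs he isFrob_phi (fr_phi hp cs) (1 : ↥(D.group (AlgebraicClosure F)))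
    (L.map (nc hp (AlgebraicClosure F))).prod
  rw [map_one, one_mul] at hz
  have hrp' := rp_word (cs := cs) hN L
  -- the root of unity
  have hr0 : (((r ^ (b + 1) : ℕ)) : AlgebraicClosure F) ≠ 0 := by
    rw [Ne, CharP.cast_eq_zero_iff (AlgebraicClosure F) p]
    intro h
    exact hrp ((Nat.prime_dvd_prime_iff_eq hpp hr).1 (hpp.dvd_of_dvd_pow h)).symm
  have : NeZero (((r ^ (b + 1) : ℕ)) : AlgebraicClosure F) := ⟨hr0⟩
  have : NeZero (r ^ (b + 1)) := ⟨(pow_pos hr.pos _).ne'⟩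
  obtain ⟨u, hu⟩ := HasEnoughRootsOfUnity.exists_primitiveRoot (AlgebraicClosure F) (r ^ (b + 1))
  have hu0 : u ≠ 0 := hu.ne_zero (pow_pos hr.pos _).ne'
  obtain ⟨t, ht, hcX⟩ := exists_t hp hB G hu0
  have hone : ∀ y : ℤ, u ^ y = 1 ↔ ((r ^ (b + 1) : ℕ) : ℤ) ∣ y := fun y => hu.zpow_eq_one_iff_dvd y
  have hτt : (MulAut.conj (L.map (nc hp (AlgebraicClosure F))).prod * phi D (AlgebraicClosure F) p e :
      MulAut ↥(D.group (AlgebraicClosure F))) t = t := by
    refine (tau_iff hp cs hk isFrob_phi (fr_phi hp cs) hrp' ht).2 fun x => ?_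
    rw [hcX, hcX, theta_apply, AddEquiv.refl_apply, ← zpow_natCast, ← zpow_mul]
    have h1 := (hone _).2 (hG1 x)
    rw [zpow_sub₀ hu0, div_eq_one_iff_eq (zpow_ne_zero _ hu0)] at h1
    rw [h1, mul_comm]
  have hji : i0 ≠ j := by
    rintro rfl
    have h1 : pairing (cartanOf D l) i0 (sr i0) = cartanOf D l i0 i0 := by
      unfold pairing
      rw [Finset.sum_eq_single i0]
      · rw [sr_self, mul_one]
      · intro m _ hm; rw [sr_ne hm, mul_zero]
      · intro hj; exact absurd (Finset.mem_univ _) hj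
    rw [h1, hp.isCartan.diag] at hi0
    omega
  have ha0 : ¬ (r : ℤ) ∣ G (sr i0) := by
    refine hG3 _ (isRoot_sr cs hp.isCartan i0) ?_ ?_
    · intro h
      have h1 := congrFun h i0
      rw [sr_self, sr_ne hji] at h1
      exact one_ne_zero h1
    · intro h
      have h1 := congrFun h i0
      rw [sr_self, Pi.neg_apply, sr_ne hji, neg_zero] at h1
      exact one_ne_zero h1
  have hto := orderOf_t hp hr hu ht hcX ha0
  have hone' : (1 : AlgebraicClosure F) = cX hp t (sr j) := by rw [hcX, (hone _).2 hG2]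
  have hχt : ch hp (sr j) t = 1 := by rw [← cX_sr, ← hone']
  have hroot : ∀ n : ℕ, ¬ r ^ (b + 1) ∣ n → ∀ a, IsRoot cs hp.isCartan a → ch hp a (t ^ n) = 1 →
      a = sr j ∨ a = -sr j := by
    intro n hn a ha h
    rw [← cX_root hp cs (pow_mem ht n) ha] at h
    exact root_of_one hp cs hr hu ht hcX hG3 hn ha h
  have hnb : ¬ r ^ (b + 1) ∣ r ^ b := by
    intro h
    have := (Nat.pow_dvd_pow_iff_le_right hr.one_lt).1 h
    omega
  have hs0 : t ^ r ^ b ∈ TT D (AlgebraicClosure F) := pow_mem ht _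
  have hs0r : (t ^ r ^ b) ^ r = 1 := by rw [← pow_mul, ← pow_succ, ← hto, pow_orderOf_eq_one]
  have hs0o : orderOf (t ^ r ^ b) = r := by
    rw [orderOf_pow' t (pow_ne_zero _ hr.ne_zero), hto, Nat.gcd_eq_right (pow_dvd_pow r (Nat.le_succ b)),
      pow_succ, Nat.mul_div_cancel_left _ (pow_pos hr.pos b)]
  have hχs0 : ch hp (sr j) (t ^ r ^ b) = 1 := by rw [← cX_sr, cX_pow hp ht, ← hone', one_pow]
  refine X.rankOne (psi_inj hp (algebraMap F (AlgebraicClosure F)) z)
    (psi_range hp cs (algebraMap F (AlgebraicClosure F)) hq hB hz) (p := p) (e := e) (r := r) (b := b) (m := m) rfl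
    (fun s hs h => tors hp hs h) ht hτt hχt hto hr hcard hm hrq ?_ ?_ ?_
  · intro c hc
    exact cent_form hp cs hk hU hV hN1 p hs0 hr hrW hs0r (hroot _ hnb) hχs0 hc
  · intro ν n hν
    have hn : ¬ r ^ (b + 1) ∣ n := by
      rintro ⟨i, rfl⟩
      rw [← hto, pow_mul, pow_orderOf_eq_one, one_pow] at hν
      have h1 : t = 1 := by
        have : t = ν⁻¹ * (ν * t * ν⁻¹) * ν := by group
        rw [this, hν]; group
      rw [h1, orderOf_one] at hto
      exact (Nat.one_lt_pow (Nat.succ_ne_zero b) hr.one_lt).ne hto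
    exact norm_form hp cs hk hU hV hN1 p ht (pow_mem ht n) (hroot _ hn) hχt (mul_inv_eq_iff_eq_mul.1 hν)
  · intro y hy
    by_contra hcon
    push Not at hcon
    have h1 := totient_le hp cs hk p hs0 hr hl hs0o fun n hn => by
      obtain ⟨c, hc⟩ := isConj_iff.1 (hcon n hn)
      refine ⟨psi hp (algebraMap F (AlgebraicClosure F)) z c, ?_⟩
      rw [← hy, ← map_pow, ← hc, map_mul, map_mul, map_inv]
    omega

end Cfsg.Agent.H448.Van.Rk
end
end

-- part: H320/OZ/RowFi22_mg
section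
set_option linter.all false
open scoped Cfsg.Agent.FastGrp

-- part: H3/Ore/Fi22Nine
section
/-!
# `Fi22`: elements whose 3-part has order 9 are commutators (helper3)

`Model.isC_nine` : `t` a 2-element commuting with `y`, an element of 3-power order with `y ^ 3 ≠ 1`: `t * y` is a commutator.
The involutions commuting with `y` are the fixed transpositions of `y` and the products of two of them; no element of
order 4 commutes with `y`.
-/

set_option autoImplicit false
set_option maxRecDepth 100000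
set_option exponentiation.threshold 5000
set_option linter.style.longLine false
set_option linter.constructorNameAsVariable false

namespace Cfsg.Agent.H3.Ore.FN

open Cfsg.Spor Cfsg.Spor.Fi22 Cfsg.Agent.Lib.PermNet Cfsg.Agent.Lib.PermNetOrbit Cfsg.Agent.Lib.PermNetFix
open Cfsg.Agent.Fischer Cfsg.Agent.Fischer.Fi22PtsRep
open Cfsg.Agent.H834 Cfsg.Agent.H834.AC Cfsg.Agent.H834.RC Cfsg.Agent.H834.ZC
open Cfsg.Agent.H3.Ore.FC Cfsg.Agent.H3.Ore.FR

/-- an element of order dividing 9 acting on at most six points: its cube acts trivially -/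
theorem cube_comm {G : Type*} [Group G] {y : G} (h9 : y ^ 9 = 1) {S : Set G} (hfin : S.Finite)
    (hS : ∀ s ∈ S, y * s * y⁻¹ ∈ S) (h6 : S.ncard ≤ 6) {s : G} (hs : s ∈ S) : Commute (y ^ 3) s := by
  classical
  have hpow : ∀ i : ℕ, y ^ i * s * (y ^ i)⁻¹ ∈ S := by
    intro i
    induction i with
    | zero => simpa using hs
    | succ i ih =>
      have := hS _ ih
      have e : y ^ (i + 1) * s * (y ^ (i + 1))⁻¹ = y * (y ^ i * s * (y ^ i)⁻¹) * y⁻¹ := by
        rw [pow_succ']; group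
      rw [e]; exact this
  have key : ∀ i j : ℕ, i < j → j ≤ 6 → y ^ i * s * (y ^ i)⁻¹ = y ^ j * s * (y ^ j)⁻¹ → Commute (y ^ 3) s := by
    intro i j hij hj h
    obtain ⟨d, rfl⟩ : ∃ d, j = i + d := ⟨j - i, by omega⟩
    have hd : Commute (y ^ d) s := by
      rw [pow_add] at h
      have h1 : s = y ^ d * s * (y ^ d)⁻¹ := by
        calc s = (y ^ i)⁻¹ * (y ^ i * s * (y ^ i)⁻¹) * y ^ i := by group
          _ = (y ^ i)⁻¹ * (y ^ i * y ^ d * s * (y ^ i * y ^ d)⁻¹) * y ^ i := by rw [h]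
          _ = _ := by group
      exact (mul_inv_eq_iff_eq_mul.1 h1.symm)
    have fin : ∀ e k : ℕ, d * e = 3 + 9 * k → Commute (y ^ 3) s := by
      intro e k he
      have h2 : (y ^ d) ^ e = y ^ 3 := by
        rw [← pow_mul, he, pow_add, pow_mul, h9, one_pow, mul_one]
      rw [← h2]
      exact hd.pow_left e
    have hd1 : 1 ≤ d := by omega
    have hd6 : d ≤ 6 := by omega
    interval_cases d
    · exact fin 3 0 rfl
    · exact fin 6 1 rfl
    · exact fin 1 0 rfl
    · exact fin 3 1 rfl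
    · exact fin 6 3 rfl
    · exact fin 2 1 rfl
  obtain ⟨i, hi, j, hj, hij, h⟩ := Finset.exists_ne_map_eq_of_card_lt_of_maps_to (s := Finset.range 7)
    (t := hfin.toFinset) (by rw [← Set.ncard_eq_toFinset_card S hfin, Finset.card_range]; omega)
    (f := fun i => y ^ i * s * (y ^ i)⁻¹) (fun i _ => by
      rw [Finset.mem_coe, Set.Finite.mem_toFinset]
      exact hpow i)
  rw [Finset.mem_range] at hi hj
  rcases lt_or_gt_of_ne hij with h1 | h1
  · exact key i j h1 (by omega) h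
  · exact key j i h1 (by omega) h.symm

/-- the image of a point under a transposition -/
noncomputable def tp (n q : ℕ) : ℕ := ptWord (nw (tw (cw n))) q

/-- the fixed points of `yA` -/
def FA : List ℕ := [2, 5, 8, 18, 21, 24]

/-- the fixed points of `yB` -/
def FB : List ℕ := [0, 3, 6]

theorem chkA : Nat.beq (fixm wyA) (msk (FA.map pt)) = true := by decide +kernel
theorem chkB : Nat.beq (fixm wyB) (msk (FB.map pt)) = true := by decide +kernel
theorem chkE : Nat.beq (fixm (wyE ++ (wyE ++ wyE))) 0 = true := by decide +kernel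
theorem chkE9 : cub (wyE ++ (wyE ++ wyE)) = true :=
  cub_of (by decide +kernel)

/-- the conditions on the list of fixed points -/
noncomputable def chkF (F : List ℕ) : Bool :=
  F.all fun n => F.all fun k => or (Nat.beq n k) (or (not (Nat.beq (tp n (pt k)) (pt k)))
    (and (F.all fun r => and (not (Nat.beq (tp r (pt n)) (pt k))) (F.all fun s => not (Nat.beq (tp r (tp s (pt n))) (pt k))))
      (F.any fun l => and (not (Nat.beq (tp n (pt l)) (pt l))) (and (Nat.beq (tp k (pt l)) (pt l))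
        (F.all fun x => or (Nat.beq (tp n (pt x)) (pt x)) (or (Nat.beq x l) (Nat.beq (pt x) (tp n (pt l)))))))))

theorem nbeq {a b : ℕ} (h : (!Nat.beq a b) = true) : a ≠ b := by
  rw [Bool.not_eq_true'] at h
  exact Nat.ne_of_beq_eq_false h

theorem chkF_spec {F : List ℕ} (h : chkF F = true) {n k : ℕ} (hn : n ∈ F) (hk : k ∈ F) (hnk : n ≠ k)
    (hc : tp n (pt k) = pt k) : (∀ r ∈ F, tp r (pt n) ≠ pt k ∧ ∀ s ∈ F, tp r (tp s (pt n)) ≠ pt k) ∧
      ∃ l ∈ F, tp n (pt l) ≠ pt l ∧ tp k (pt l) = pt l ∧ ∀ x ∈ F, tp n (pt x) = pt x ∨ x = l ∨ pt x = tp n (pt l) := by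
  unfold chkF at h
  rw [List.all_eq_true] at h
  have h1 := h n hn
  rw [List.all_eq_true] at h1
  have h2 := h1 k hk
  rw [Bool.or_eq_true, Bool.or_eq_true] at h2
  rcases h2 with h2 | h2 | h2
  · exact absurd (Nat.eq_of_beq_eq_true h2) hnk
  · exact absurd hc (nbeq h2)
  · rw [Bool.and_eq_true] at h2
    obtain ⟨h3, h4⟩ := h2
    constructor
    · intro r hr
      rw [List.all_eq_true] at h3
      have h5 := h3 r hr
      rw [Bool.and_eq_true] at h5
      refine ⟨nbeq h5.1, fun s hs => ?_⟩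
      have h6 := h5.2
      rw [List.all_eq_true] at h6
      exact nbeq (h6 s hs)
    · rw [List.any_eq_true] at h4
      obtain ⟨l, hl, h5⟩ := h4
      rw [Bool.and_eq_true, Bool.and_eq_true] at h5
      refine ⟨l, hl, nbeq h5.1, Nat.eq_of_beq_eq_true h5.2.1, fun x hx => ?_⟩
      have h6 := h5.2.2
      rw [List.all_eq_true] at h6
      have h7 := h6 x hx
      rw [Bool.or_eq_true, Bool.or_eq_true] at h7
      rcases h7 with h7 | h7 | h7
      · exact Or.inl (Nat.eq_of_beq_eq_true h7)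
      · exact Or.inr (Or.inl (Nat.eq_of_beq_eq_true h7))
      · exact Or.inr (Or.inr (Nat.eq_of_beq_eq_true h7))

end Cfsg.Agent.H3.Ore.FN

namespace Cfsg.Agent.H834.Model

open Cfsg.Spor Cfsg.Spor.Fi22 Cfsg.Agent.Lib.PermNet Cfsg.Agent.Lib.PermNetOrbit Cfsg.Agent.Lib.PermNetFix
open Cfsg.Agent.Fischer Cfsg.Agent.Fischer.Fi22PtsRep
open Cfsg.Agent.H834 Cfsg.Agent.H834.AC Cfsg.Agent.H834.RC Cfsg.Agent.H834.ZC
open Cfsg.Agent.H3.Ore.FC Cfsg.Agent.H3.Ore.FR Cfsg.Agent.H3.Ore.FN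
open Cfsg.Agent.H777.Ore (IsC)
open Cfsg.Agent.H836 Cfsg.Agent.R01.FiFusion Cfsg.Agent.R01.FiFacts

variable {G : Type*} [Group G] {D : Set G} (m : Model G D)

theorem φ_t_tp {n : ℕ} (hn : n < 27) (q : ℕ) : m.φ (m.t (pt n)) q = tp n q := m.φ_t_pt hn q

include m in
/-- the cube of an element of order 9 commuting with `a b c` commutes with the whole hexad -/
theorem cube_hex (I : Inv G D) {y : G} (h9 : y ^ 9 = 1) {a b c : G} (ht : Tri D a b c)
    (h : y * (a * b * c) = a * b * c * y) : Commute (y ^ 3) a ∧ Commute (y ^ 3) b ∧ Commute (y ^ 3) c ∧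
      ∃ d ∈ D, a ≠ d ∧ b ≠ d ∧ c ≠ d ∧ a * d = d * a ∧ b * d = d * b ∧ c * d = d * c ∧ Commute (y ^ 3) d := by
  have hfin := m.finite
  obtain ⟨a', b', c', H⟩ := I.facts.hex a b c ht
  let S : Set G := {t | ∃ u w, Tri D t u w ∧ t * u * w = a * b * c}
  have hS : ∀ s ∈ S, y * s * y⁻¹ ∈ S := by
    rintro t ⟨u, w, h1, h2⟩
    refine ⟨y * u * y⁻¹, y * w * y⁻¹, ⟨I.ctx.conj t h1.mx y, I.ctx.conj u h1.my y, I.ctx.conj w h1.mw y, ?_, ?_, ?_,
      (Cfsg.Agent.LThreeFi22.conj_comm_iff y t u).2 h1.cxy, (Cfsg.Agent.LThreeFi22.conj_comm_iff y t w).2 h1.cxw,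
      (Cfsg.Agent.LThreeFi22.conj_comm_iff y u w).2 h1.cyw⟩, ?_⟩
    · exact fun e => h1.xy (mul_left_cancel (mul_right_cancel e))
    · exact fun e => h1.xw (mul_left_cancel (mul_right_cancel e))
    · exact fun e => h1.yw (mul_left_cancel (mul_right_cancel e))
    · calc y * t * y⁻¹ * (y * u * y⁻¹) * (y * w * y⁻¹) = y * (t * u * w) * y⁻¹ := by group
        _ = a * b * c * y * y⁻¹ := by rw [h2, h]
        _ = a * b * c := by group
  have h6 : S.ncard ≤ 6 := by
    classical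
    let F : Finset G := {a, b, c, a', b', c'}
    have hsub : S ⊆ (F : Set G) := by
      rintro t ⟨u, w, h1, h2⟩
      have := I.mem_hex H h1 h2
      simpa only [F, _root_.Finset.coe_insert, _root_.Finset.coe_singleton, _root_.Set.mem_insert_iff, _root_.Set.mem_singleton_iff] using this
    calc S.ncard ≤ (F : Set G).ncard := Set.ncard_le_ncard hsub
      _ = F.card := Set.ncard_coe_finset F
      _ ≤ 6 := Finset.card_le_six
  have key : ∀ s ∈ S, Commute (y ^ 3) s := fun s hs => cube_comm h9 (Set.toFinite S) hS h6 hs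
  refine ⟨key a ⟨b, c, ht, rfl⟩,
    key b ⟨a, c, ⟨ht.my, ht.mx, ht.mw, ht.xy.symm, ht.yw, ht.xw, ht.cxy.symm, ht.cyw, ht.cxw⟩, ?_⟩,
    key c ⟨a, b, ⟨ht.mw, ht.mx, ht.my, ht.xw.symm, ht.yw.symm, ht.xy, ht.cxw.symm, ht.cyw.symm, ht.cxy⟩, ?_⟩,
    a', H.t'.mx, H.aa, H.ba, H.ca, H.caa, H.cba, H.cca, key a' ⟨b', c', H.t', ?_⟩⟩
  · rw [ht.cxy]
  · calc c * a * b = (a * c) * b := by rw [ht.cxw]
      _ = a * (b * c) := by rw [mul_assoc, ← ht.cyw]
      _ = a * b * c := by group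
  · have hp := H.prod
    have haa := I.ctx.sq a ht.mx
    have hbb := I.ctx.sq b ht.my
    have hcc := I.ctx.sq c ht.mw
    have h2 : a * b * c * (a * b * c) = 1 := by
      calc a * b * c * (a * b * c) = a * b * (c * a) * b * c := by group
        _ = a * b * (a * c) * b * c := by rw [← ht.cxw]
        _ = a * (b * a) * c * b * c := by group
        _ = a * (a * b) * c * b * c := by rw [← ht.cxy]
        _ = (a * a) * b * (c * b) * c := by group
        _ = (a * a) * b * (b * c) * c := by rw [← ht.cyw]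
        _ = (a * a) * (b * b) * (c * c) := by group
        _ = 1 := by rw [haa, hbb, hcc, one_mul, one_mul]
    exact mul_left_cancel (hp.trans h2.symm)

/-- the involutions commuting with `y` are products of fixed transpositions -/
theorem invol (I : Inv G D) {y : G} (h9 : y ^ 9 = 1)
    (htri : ∀ a b c : G, Tri D a b c → y * (a * b * c) = a * b * c * y → False) {i : G} (hi : i * i = 1)
    (hc : y * i = i * y) : i = 1 ∨ (∃ p < 3510, m.φ y p = p ∧ i = m.t p) ∨
      ∃ p < 3510, ∃ q < 3510, m.φ y p = p ∧ m.φ y q = q ∧ p ≠ q ∧ m.t p * m.t q = m.t q * m.t p ∧ i = m.t p * m.t q := by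
  rcases I.inv i hi with h | h | ⟨a, ha, b, hb, hab, cab, rfl⟩ | ⟨a, b, c, ht, rfl⟩
  · exact Or.inl h
  · obtain ⟨p, hp, rfl⟩ := m.mem_iff.1 h
    exact Or.inr (Or.inl ⟨p, hp, (m.comm_iff _ hp).1 hc, rfl⟩)
  · obtain ⟨p, hp, rfl⟩ := m.mem_iff.1 ha
    obtain ⟨q, hq, rfl⟩ := m.mem_iff.1 hb
    right; right
    refine ⟨p, hp, q, hq, ?_⟩
    have key : y * m.t p = m.t p * y ∧ y * m.t q = m.t q * y := by
      rcases I.ctx.cz _ ha _ hb hab cab y hc with h | ⟨h1, h2⟩
      · exact h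
      · exfalso
        have h3 : Commute (y ^ 2) (m.t p) := by
          have : y ^ 2 * m.t p * (y ^ 2)⁻¹ = m.t p := by
            calc y ^ 2 * m.t p * (y ^ 2)⁻¹ = y * (y * m.t p * y⁻¹) * y⁻¹ := by rw [pow_two]; group
              _ = m.t p := by rw [h1, h2]
          exact mul_inv_eq_iff_eq_mul.1 this
        have h4 : y = (y ^ 2) ^ 5 := by
          rw [← pow_mul, show 2 * 5 = 9 + 1 by norm_num, pow_add, h9, one_mul, pow_one]
        have h5 : Commute y (m.t p) := by
          rw [h4]; exact h3.pow_left 5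
        apply hab
        rw [← h1, h5.eq, mul_inv_cancel_right]
    exact ⟨(m.comm_iff _ hp).1 key.1, (m.comm_iff _ hq).1 key.2, fun e => hab (by rw [e]), cab, rfl⟩
  · exact (htri a b c ht hc).elim

include m in
theorem pt_lt' (n : ℕ) : pt n < 3510 := by
  rw [← twp_cw n]
  exact m.twp_lt _

/-- **no element of order 4 commutes with `y`** -/
theorem no_order_four (I : Inv G D) {y : G} (h9 : y ^ 9 = 1)
    (htri : ∀ a b c : G, Tri D a b c → y * (a * b * c) = a * b * c * y → False) {F : List ℕ} (hF27 : ∀ n ∈ F, n < 27)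
    (hF : chkF F = true) (hfix : ∀ p < 3510, m.φ y p = p → ∃ n ∈ F, p = pt n) (hfix' : ∀ n ∈ F, m.φ y (pt n) = pt n)
    {u : G} (hu : y * u = u * y) (h4 : (u * u) * (u * u) = 1) (h2 : u * u ≠ 1) : False := by
  have hyi : y * (u * u) = (u * u) * y := by
    have hc : Commute y u := hu
    exact (hc.mul_right hc).eq
  have hmap : ∀ {v : G}, y * v = v * y → ∀ n ∈ F, ∃ k ∈ F, m.φ v (pt n) = pt k := by
    intro v hv n hn
    obtain ⟨k, hk, h⟩ := hfix (m.φ v (pt n)) (m.φ_lt _ (m.pt_lt' n)) (by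
      have h1 := congrArg (fun g => m.φ g (pt n)) hv
      simp only [map_mul, Equiv.Perm.mul_apply, hfix' n hn] at h1
      exact h1)
    exact ⟨k, hk, h⟩
  rcases m.invol I h9 htri h4 hyi with h | ⟨p, hp, -, h⟩ | ⟨p, hp, q, hq, hyp, hyq, hpq, cpq, h⟩
  · exact h2 h
  · exact I.nsq _ (m.t_mem hp) u h
  · obtain ⟨n, hn, rfl⟩ := hfix p hp hyp
    obtain ⟨k, hk, rfl⟩ := hfix q hq hyq
    have hn27 := hF27 n hn
    have hk27 := hF27 k hk
    have hnk : n ≠ k := fun e => hpq (by rw [e])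
    have hcn : tp n (pt k) = pt k := by
      rw [← m.φ_t_tp hn27, m.fix_iff hq]
      exact cpq
    obtain ⟨hr, l, hl, l1, l2, l3⟩ := chkF_spec hF hn hk hnk hcn
    have hui : u * (m.t (pt n) * m.t (pt k)) = m.t (pt n) * m.t (pt k) * u := by
      rw [← h]; group
    have htne : m.t (pt n) ≠ m.t (pt k) := fun e => hpq (m.t_inj hp hq e)
    rcases I.ctx.cz _ (m.t_mem hp) _ (m.t_mem hq) htne cpq u hui with ⟨e1, e2⟩ | ⟨e1, e2⟩
    · -- `u` fixes both
      obtain ⟨x, hx, hux⟩ := hmap hu l hl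
      have h5 : m.φ u (m.φ u (pt l)) = tp n (pt l) := by
        have h6 := congrArg (fun g => m.φ g (pt l)) h
        simp only [map_mul, Equiv.Perm.mul_apply] at h6
        rw [h6, m.φ_t_tp hk27, l2, m.φ_t_tp hn27]
      have h7 : m.φ u (tp n (pt l)) = tp n (m.φ u (pt l)) := by
        have h8 := congrArg (fun g => m.φ g (pt l)) e1
        simp only [map_mul, Equiv.Perm.mul_apply, m.φ_t_tp hn27] at h8
        exact h8
      rcases l3 x hx with h8 | h8 | h8
      · -- the image commutes with `t p`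
        apply l1
        apply (m.φ u).injective
        rw [h7, hux, h8]
      · rw [hux, h8, hux, h8] at h5
        exact l1 h5.symm
      · rw [hux, h8] at h5
        apply l1
        apply (m.φ u).injective
        rw [h5, hux, h8]
    · -- `u` interchanges them
      have hp2 := m.t_sq hp
      have hq2 := m.t_sq hq
      have e3 : u * m.t (pt k) = m.t (pt n) * u := by
        rw [← e2]; group
      have hs2 : (u * m.t (pt n)) * (u * m.t (pt n)) = 1 := by
        have e4 : m.t (pt n) * u = u * m.t (pt k) := e3.symm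
        calc (u * m.t (pt n)) * (u * m.t (pt n)) = u * (m.t (pt n) * u) * m.t (pt n) := by group
          _ = (u * u) * (m.t (pt k) * m.t (pt n)) := by rw [e4]; group
          _ = (m.t (pt n) * m.t (pt k)) * (m.t (pt k) * m.t (pt n)) := by rw [h]
          _ = m.t (pt n) * (m.t (pt k) * m.t (pt k)) * m.t (pt n) := by group
          _ = 1 := by rw [hq2, mul_one, hp2]
      have hys : y * (u * m.t (pt n)) = (u * m.t (pt n)) * y := by
        have e5 : y * m.t (pt n) = m.t (pt n) * y := (m.comm_iff _ hp).2 hyp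
        calc y * (u * m.t (pt n)) = (y * u) * m.t (pt n) := by group
          _ = u * (y * m.t (pt n)) := by rw [hu]; group
          _ = _ := by rw [e5]; group
      have hsn : m.φ (u * m.t (pt n)) (pt n) = pt k := by
        apply m.t_inj (m.φ_lt _ hp) hq
        rw [← m.conj_t _ hp, ← e1]
        calc u * m.t (pt n) * m.t (pt n) * (u * m.t (pt n))⁻¹ = u * m.t (pt n) * u⁻¹ := by group
          _ = _ := rfl
      rcases m.invol I h9 htri hs2 hys with h5 | ⟨r, hr1, hyr, h5⟩ | ⟨r, hr1, s, hs1, hyr, hys', -, -, h5⟩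
      · apply hpq
        rw [h5, map_one, Equiv.Perm.one_apply] at hsn
        exact hsn
      · obtain ⟨r', hr', rfl⟩ := hfix r hr1 hyr
        rw [h5, m.φ_t_tp (hF27 _ hr')] at hsn
        exact (hr r' hr').1 hsn
      · obtain ⟨r', hr', rfl⟩ := hfix r hr1 hyr
        obtain ⟨s', hs', rfl⟩ := hfix s hs1 hys'
        rw [h5, map_mul, Equiv.Perm.mul_apply, m.φ_t_tp (hF27 _ hs'), m.φ_t_tp (hF27 _ hr')] at hsn
        exact (hr r' hr').2 s' hs' hsn

/-- **the 2-elements commuting with `y`** -/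
theorem two_part (I : Inv G D) {y : G} (h9 : y ^ 9 = 1)
    (htri : ∀ a b c : G, Tri D a b c → y * (a * b * c) = a * b * c * y → False) {F : List ℕ} (hF27 : ∀ n ∈ F, n < 27)
    (hF : chkF F = true) (hfix : ∀ p < 3510, m.φ y p = p → ∃ n ∈ F, p = pt n) (hfix' : ∀ n ∈ F, m.φ y (pt n) = pt n)
    {t : G} {e : ℕ} (ht : t ^ 2 ^ e = 1) (hty : y * t = t * y) : t = 1 ∨ (∃ n ∈ F, t = m.t (pt n)) ∨
      ∃ n ∈ F, ∃ k ∈ F, n ≠ k ∧ m.t (pt n) * m.t (pt k) = m.t (pt k) * m.t (pt n) ∧ t = m.t (pt n) * m.t (pt k) := by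
  have h2 : t * t = 1 := by
    by_contra hne
    have hyc : ∀ j : ℕ, y * t ^ j = t ^ j * y := fun j => by
      have : Commute y t := hty
      exact (this.pow_right j).eq
    -- the largest exponent
    classical
    have hex : ∃ j, t ^ 2 ^ j = 1 := ⟨e, ht⟩
    obtain ⟨j, hj⟩ : ∃ j, j = Nat.find hex := ⟨_, rfl⟩
    have hj1 : t ^ 2 ^ j = 1 := by rw [hj]; exact Nat.find_spec hex
    have hj2 : 2 ≤ j := by
      by_contra hlt
      have : j = 0 ∨ j = 1 := by omega
      rcases this with h | h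
      · rw [h, pow_zero, pow_one] at hj1
        apply hne; rw [hj1, one_mul]
      · rw [h, pow_one, pow_two] at hj1
        exact hne hj1
    obtain ⟨i, rfl⟩ : ∃ i, j = i + 2 := ⟨j - 2, by omega⟩
    have hi : t ^ 2 ^ (i + 1) ≠ 1 := by
      have := Nat.find_min hex (m := i + 1) (by omega)
      exact this
    have e1 : t ^ 2 ^ i * t ^ 2 ^ i = t ^ 2 ^ (i + 1) := by rw [← pow_add]; congr 1; ring
    refine m.no_order_four I h9 htri hF27 hF hfix hfix' (u := t ^ 2 ^ i) (hyc _) ?_ ?_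
    · rw [e1, ← pow_add, ← hj1]; congr 1; ring
    · rw [e1]; exact hi
  rcases m.invol I h9 htri h2 hty with h | ⟨p, hp, hyp, h⟩ | ⟨p, hp, q, hq, hyp, hyq, hpq, cpq, h⟩
  · exact Or.inl h
  · obtain ⟨n, hn, rfl⟩ := hfix p hp hyp
    exact Or.inr (Or.inl ⟨n, hn, h⟩)
  · obtain ⟨n, hn, rfl⟩ := hfix p hp hyp
    obtain ⟨k, hk, rfl⟩ := hfix q hq hyq
    exact Or.inr (Or.inr ⟨n, hn, k, hk, fun e => hpq (by rw [e]), cpq, h⟩)

theorem fix_of_msk {w : List Gen} {F : List ℕ} (h : Nat.beq (fixm w) (msk (F.map pt)) = true) :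
    (∀ p < 3510, m.φ (m.wd w) p = p → ∃ n ∈ F, p = pt n) ∧ ∀ n ∈ F, m.φ (m.wd w) (pt n) = pt n := by
  have h1 := Nat.eq_of_beq_eq_true h
  have key : ∀ p < 3510, m.φ (m.wd w) p = p ↔ p ∈ F.map pt := by
    intro p hp
    rw [← m.testBit_fixm hp, h1, testBit_msk]
  refine ⟨fun p hp hf => ?_, fun n hn => (key _ (m.pt_lt' n)).2 (List.mem_map_of_mem hn)⟩
  obtain ⟨n, hn, h2⟩ := List.mem_map.1 ((key p hp).1 hf)
  exact ⟨n, hn, h2.symm⟩

end Cfsg.Agent.H834.Model
end

-- part: H320/OZ/FiE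
section
/-!
# `Fi22`: the class `9C` (helper320, for S4842)

`yE = m.wd wyE` has order 9, its cube fixes no point.
* `conjE` : every element of 3-power order whose cube fixes no point is conjugate to `yE`; `ratE`: `yE` is rational;
* `card_centE` : `|C(yE)| = 27`.
-/

set_option autoImplicit false
set_option maxRecDepth 100000
set_option exponentiation.threshold 5000
set_option linter.style.longLine false
set_option linter.constructorNameAsVariable false

namespace Cfsg.Agent.H320.OZ.FiE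

open Cfsg.Spor Cfsg.Spor.Fi22 Cfsg.Agent.Lib.PermNet Cfsg.Agent.Lib.PermNetOrbit Cfsg.Agent.Lib.PermNetFix
open Cfsg.Agent.Fischer Cfsg.Agent.Fischer.Fi22PtsRep
open Cfsg.Agent.H834 Cfsg.Agent.H834.AC Cfsg.Agent.H834.RC Cfsg.Agent.H834.ZC
open Cfsg.Agent.H3.Ore.FC Cfsg.Agent.H3.Ore.FR Cfsg.Agent.H3.Ore.FN
open Cfsg.Agent.H836 Cfsg.Agent.R01.FiFusion Cfsg.Agent.R01.FiFacts
open Subgroup

section gen

variable {G : Type*} [Group G] {D : Set G} (m : Model G D)

/-- the element of order 9 -/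
noncomputable def yE : G := m.wd wyE

theorem cubeE : yE m ^ 3 = m.wd (wyE ++ (wyE ++ wyE)) := by
  rw [yE, m.wd_append, m.wd_append, pow_succ, pow_two, mul_assoc]

theorem nineE : yE m ^ 9 = 1 := by
  have h1 := m.cube_of_cub chkE9
  rw [← cubeE] at h1
  rw [show (9 : ℕ) = 3 * 3 by norm_num, pow_mul, h1]

/-- no fixed point -/
def NoFix (g : G) : Prop := ∀ p < 3510, m.φ g p ≠ p

variable {m}

theorem NoFix.conj {g : G} (h : NoFix m g) (c : G) : NoFix m (c * g * c⁻¹) := by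
  intro p hp he
  refine h (m.φ c⁻¹ p) (m.φ_lt _ hp) ?_
  have h1 : m.φ c⁻¹ (m.φ (c * g * c⁻¹) p) = m.φ c⁻¹ p := by rw [he]
  rw [← Equiv.Perm.mul_apply, ← map_mul] at h1
  have e : c⁻¹ * (c * g * c⁻¹) = g * c⁻¹ := by group
  rw [e, map_mul, Equiv.Perm.mul_apply] at h1
  exact h1

theorem NoFix.ne_one {g : G} (h : NoFix m g) : g ≠ 1 := by
  rintro rfl
  exact h 0 (by norm_num) (by rw [map_one, Equiv.Perm.one_apply])

theorem not_noFix {g : G} (h : m.nfix g ≠ 0) : ¬ NoFix m g := by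
  intro hf
  apply h
  unfold Model.nfix
  rw [Set.ncard_eq_zero (by exact (Set.finite_lt_nat 3510).subset fun p hp => hp.1), Set.eq_empty_iff_forall_notMem]
  rintro p ⟨hp, h1⟩
  exact hf p hp h1

variable (m)

theorem noFixE : NoFix m (yE m ^ 3) := by
  intro p hp h
  rw [cubeE, ← m.testBit_fixm hp, Nat.eq_of_beq_eq_true _root_.Cfsg.Agent.H3.Ore.FN.chkE, Nat.zero_testBit] at h
  exact Bool.false_ne_true h

theorem orderE : orderOf (yE m) = 9 := by
  have h3 : ¬ yE m ^ 3 ^ 1 = 1 := by rw [pow_one]; exact (noFixE m).ne_one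
  have h9 : yE m ^ 3 ^ (1 + 1) = 1 := nineE m
  have : Fact (Nat.Prime 3) := ⟨Nat.prime_three⟩
  have h := orderOf_eq_prime_pow h3 h9
  rw [h]; norm_num

/-- a nontrivial element of `A` fixes points -/
theorem A_fix {v : V5} : ¬ NoFix m (m.κ v) := by
  by_cases hv : v = 0
  · subst hv
    rw [m.κ_zero]
    exact fun h => h.ne_one rfl
  · obtain ⟨r, -, h | h | h⟩ := m.trich hv
    · rw [← h]
      apply not_noFix
      rw [m.nfix_conj, m.nfix_w1]; norm_num
    · rw [← h]
      apply not_noFix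
      rw [m.nfix_conj, m.nfix_w2]; norm_num
    · rw [← h]
      apply not_noFix
      rw [m.nfix_conj, m.nfix_w0]; norm_num

theorem not_noFix_of {w : List Gen} {F : List ℕ} (h : Nat.beq (fixm w) (msk (F.map pt)) = true) {n : ℕ} (hn : n ∈ F)
    {y g : G} (hy : g * y * g⁻¹ = m.wd w) : ¬ NoFix m (y ^ 3) := by
  intro hf
  have h1 := hf.conj g
  have h2 : g * y ^ 3 * g⁻¹ = m.wd w ^ 3 := by rw [← hy, conj_pow]
  rw [h2] at h1
  have h3 := (m.fix_of_msk h).2 n hn
  refine h1 (pt n) (m.pt_lt' n) ?_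
  rw [pow_succ, pow_two, map_mul, map_mul, Equiv.Perm.mul_apply, Equiv.Perm.mul_apply, h3, h3, h3]

/-- **the class of `yE`** -/
theorem conjE {y : G} {n : ℕ} (hy : y ^ 3 ^ n = 1) (hf : NoFix m (y ^ 3)) : ∃ g : G, g * y * g⁻¹ = yE m := by
  obtain ⟨-, h | ⟨g, h | h | h⟩⟩ := m.cls_three hy
  · exact absurd h hf.ne_one
  · exact absurd hf (not_noFix_of m chkA (n := 2) (by decide) h)
  · exact absurd hf (not_noFix_of m chkB (n := 0) (by decide) h)
  · exact ⟨g, h⟩

theorem noFix_pow {k : ℕ} (hk : k.Coprime 3) : NoFix m ((yE m ^ 3) ^ k) := by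
  intro p hp he
  refine noFixE m p hp ?_
  have h3 : (yE m ^ 3) ^ 3 = 1 := by rw [← pow_mul]; exact nineE m
  obtain ⟨j, hj⟩ : ∃ j, k * j % 3 = 1 := by
    have h1 : k % 3 = 1 ∨ k % 3 = 2 := by
      have h2 : ¬ 3 ∣ k := fun h => by
        have := Nat.dvd_gcd h (dvd_refl 3)
        rw [hk] at this
        norm_num at this
      omega
    rcases h1 with h1 | h1
    · exact ⟨1, by omega⟩
    · exact ⟨2, by omega⟩
  have h4 : ((yE m ^ 3) ^ k) ^ j = yE m ^ 3 := by
    rw [← pow_mul, pow_eq_pow_mod _ h3, hj, pow_one]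
  rw [← h4, map_pow]
  exact Equiv.Perm.pow_apply_eq_self_of_apply_eq_self he j

/-- `yE` is rational -/
theorem ratE {k : ℕ} (hk : k.Coprime 3) : IsConj (yE m ^ k) (yE m) := by
  have h9 := nineE m
  obtain ⟨g, hg⟩ := conjE m (y := yE m ^ k) (n := 2) (by
    rw [← pow_mul, mul_comm, pow_mul, show (3 : ℕ) ^ 2 = 9 by norm_num, h9, one_pow]) (by
    rw [← pow_mul, mul_comm, pow_mul]
    exact noFix_pow m hk)
  exact isConj_iff.2 ⟨g, hg⟩

/-- no 2-element commutes with `yE` -/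
theorem twoE (I : Inv G D) {t : G} {e : ℕ} (ht : t ^ 2 ^ e = 1) (hc : yE m * t = t * yE m) : t = 1 := by
  have e9 := nineE m
  have hno := noFixE m
  have hnf : ∀ p < 3510, m.φ (yE m) p = p → ∃ n ∈ ([] : List ℕ), p = pt n := by
    intro p hp h
    exfalso
    refine hno p hp ?_
    rw [pow_succ, pow_two, map_mul, map_mul, Equiv.Perm.mul_apply, Equiv.Perm.mul_apply, h, h, h]
  have htri : ∀ a b c : G, Tri D a b c → yE m * (a * b * c) = a * b * c * yE m → False := by
    intro a b c h1 h2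
    obtain ⟨ca, -⟩ := m.cube_hex I e9 h1 h2
    obtain ⟨p, hp, rfl⟩ := m.mem_iff.1 h1.mx
    exact hno p hp ((m.comm_iff _ hp).1 ca.eq)
  rcases m.two_part I e9 htri (F := []) (by simp) rfl hnf (by simp) ht hc with
    h | ⟨n, hn, h⟩ | ⟨n, hn, k, hk, hnk, hcm, h⟩
  · exact h
  · simp at hn
  · simp at hn

/-! ### the centralizer in the Sylow subgroup -/

/-- of order 9 -/
def nine (n : ℕ) : Bool := not (Nat.beq (mulN n (mulN n n)) 0)

theorem chk9 : ((List.range 81).all fun n => or (not (nine n))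
    (Nat.beq ((List.range 81).filter fun k => Nat.beq (mulN n k) (mulN k n)).length 9)) = true := by decide +kernel

theorem chk3 : ((List.range 81).all fun n => or (not (nine n)) (Nat.beq (pc 12 (Fl.getD n 0)) 3)) = true := by
  decide +kernel

theorem chk3lt : (Fl.all fun f => Nat.beq (Nat.shiftRight f (Nat.pow 2 12)) 0) = true := by decide +kernel

theorem card_K {n : ℕ} (hn : n < 81) (h9 : nine n = true) :
    Nat.card {k : Fin 81 // mulN n k = mulN k n} ≤ 9 := by
  have h := chk9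
  rw [List.all_eq_true] at h
  have h1 := h n (List.mem_range.2 hn)
  rw [h9, Bool.not_true, Bool.false_or] at h1
  have h2 := Nat.eq_of_beq_eq_true h1
  have h3 : Nat.card {k : Fin 81 // mulN n k = mulN k n}
      ≤ ((List.range 81).filter fun k => Nat.beq (mulN n k) (mulN k n)).toFinset.card := by
    rw [← Fintype.card_coe, ← Nat.card_eq_fintype_card]
    refine Nat.card_le_card_of_injective (fun k => ⟨(k.1 : ℕ), ?_⟩) ?_
    · rw [List.mem_toFinset, List.mem_filter]
      exact ⟨List.mem_range.2 k.1.2, by rw [k.2]; exact Nat.beq_refl _⟩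
    · intro k l hkl
      exact Subtype.ext (Fin.ext (congrArg Subtype.val hkl))
  have h4 := List.toFinset_card_le ((List.range 81).filter fun k => Nat.beq (mulN n k) (mulN k n))
  omega

theorem card_CA {n : ℕ} (hn : n < 81) (h9 : nine n = true) :
    Nat.card {v : V5 // m.ψ n * m.κ v = m.κ v * m.ψ n} ≤ 3 := by
  have h := chk3
  rw [List.all_eq_true] at h
  have h1 := h n (List.mem_range.2 hn)
  rw [h9, Bool.not_true, Bool.false_or] at h1
  have h2 := chk3lt
  rw [List.all_eq_true] at h2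
  have hk : n < Fl.length := by rw [Fllen]; exact hn
  have h3 : Nat.beq (Nat.shiftRight (Fl.getD n 0) (Nat.pow 2 12)) 0 = true := by
    rw [List.getD_eq_getElem _ _ hk]
    exact h2 _ (List.getElem_mem hk)
  have h4 := ncard_testBit h3 h1
  have h5 : Set.Finite {p : ℕ | (Fl.getD n 0).testBit p = true} :=
    Set.finite_of_ncard_ne_zero (by rw [h4]; norm_num)
  rw [← h4, ← Nat.card_coe_set_eq]
  have := h5.to_subtype
  refine Nat.card_le_card_of_injective (fun v => (⟨m.pv v.1, (m.Fl_iff hn v.1).2 v.2⟩ :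
    {p : ℕ | (Fl.getD n 0).testBit p = true})) ?_
  intro u v huv
  exact Subtype.ext (m.pv_injective (congrArg Subtype.val huv))

theorem card_le {v : V5} {n : ℕ} (hn : n < 81) (h9 : nine n = true) (C : Subgroup G)
    (hC : ∀ c ∈ C, c ∈ m.P0 ∧ c * (m.κ v * m.ψ n) = m.κ v * m.ψ n * c) : Nat.card C ≤ 27 := by
  classical
  have hfin := m.finite
  have := Fintype.ofFinite C
  have hex : ∀ c : C, ∃ k : Fin 81, ∃ u : V5, (c : G) = m.κ u * m.ψ k := fun c => by
    obtain ⟨u, k, hk, h⟩ := (hC c c.2).1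
    exact ⟨⟨k, hk⟩, u, h⟩
  choose f hf using hex
  have hK : ∀ c : C, mulN n (f c) = mulN (f c) n := by
    intro c
    obtain ⟨u, hu⟩ := hf c
    have h1 := (hC c c.2).2
    rw [hu] at h1
    obtain ⟨u', hu'⟩ := m.ψ_conj n u
    obtain ⟨v', hv'⟩ := m.ψ_conj (f c) v
    have e1 : m.κ u * m.ψ (f c) * (m.κ v * m.ψ n) = m.κ (u + v') * m.ψ (mulN (f c) n) := by
      calc m.κ u * m.ψ (f c) * (m.κ v * m.ψ n) = m.κ u * (m.ψ (f c) * m.κ v) * m.ψ n := by group
        _ = m.κ u * m.κ v' * (m.ψ (f c) * m.ψ n) := by rw [hv']; group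
        _ = _ := by rw [← m.κ_add, m.ψ_mul (f c).2]
    have e2 : m.κ v * m.ψ n * (m.κ u * m.ψ (f c)) = m.κ (v + u') * m.ψ (mulN n (f c)) := by
      calc m.κ v * m.ψ n * (m.κ u * m.ψ (f c)) = m.κ v * (m.ψ n * m.κ u) * m.ψ (f c) := by group
        _ = m.κ v * m.κ u' * (m.ψ n * m.ψ (f c)) := by rw [hu']; group
        _ = _ := by rw [← m.κ_add, m.ψ_mul hn]
    rw [e1, e2] at h1
    exact (m.decomp (mulN_lt _ _) (mulN_lt _ _) h1).2.symm
  have h1 := Finset.card_le_mul_card_image (f := f) (Finset.univ : Finset C) 3 ?_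
  · have h2 : (Finset.univ.image f).card ≤ 9 := by
      refine le_trans ?_ (card_K hn h9)
      rw [← Fintype.card_coe, ← Nat.card_eq_fintype_card]
      refine Nat.card_le_card_of_injective (fun k => ⟨(k.1 : Fin 81), ?_⟩) ?_
      · obtain ⟨c, -, h⟩ := Finset.mem_image.1 k.2
        rw [← h]
        exact hK c
      · intro k l hkl
        rw [Subtype.mk.injEq] at hkl
        exact Subtype.ext hkl
    rw [Finset.card_univ] at h1
    rw [Nat.card_eq_fintype_card]
    omega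
  · intro a ha
    obtain ⟨c0, -, hc0⟩ := Finset.mem_image.1 ha
    obtain ⟨u0, hu0⟩ := hf c0
    refine le_trans ?_ (card_CA m hn h9)
    rw [← Fintype.card_coe, ← Nat.card_eq_fintype_card]
    have key : ∀ x : {x : C // x ∈ Finset.univ.filter fun x => f x = a}, ∃ w : V5, ((x : C) : G) * (c0 : G)⁻¹ = m.κ w ∧
        m.ψ n * m.κ w = m.κ w * m.ψ n := by
      intro x
      have hx := (Finset.mem_filter.1 x.2).2
      obtain ⟨u, hu⟩ := hf x.1
      rw [hx.trans hc0.symm] at hu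
      have e : ((x : C) : G) * (c0 : G)⁻¹ = m.κ (u + -u0) := by
        rw [hu, hu0, m.κ_add, m.κ_neg]; group
      refine ⟨_, e, ?_⟩
      have h2 : ((x : C) : G) * (c0 : G)⁻¹ ∈ C := mul_mem x.1.2 (inv_mem c0.2)
      have h3 := (hC _ h2).2
      rw [e] at h3
      have h4 := m.κ_comm v (u + -u0)
      set w := u + -u0
      have h5 : m.κ v * (m.κ w * m.ψ n) = m.κ v * (m.ψ n * m.κ w) := by
        rw [← mul_assoc, h4, mul_assoc, h3, mul_assoc]
      exact (mul_left_cancel h5).symm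
    choose w hw using key
    refine Nat.card_le_card_of_injective (fun x => ⟨w x, (hw x).2⟩) ?_
    intro x y hxy
    have h2 : w x = w y := congrArg Subtype.val hxy
    have h3 := (hw x).1
    rw [h2, ← (hw y).1] at h3
    exact Subtype.ext (Subtype.ext (mul_right_cancel h3))

/-- an element of `P0` of order 9 modulo `A` if its cube fixes no point -/
theorem nine_of {v : V5} {n : ℕ} (hn : n < 81) (hf : NoFix m ((m.κ v * m.ψ n) ^ 3)) : nine n = true := by
  by_contra hne
  have h0 : mulN n (mulN n n) = 0 := by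
    unfold nine at hne
    rw [Bool.not_eq_true', Bool.not_eq_false] at hne
    exact Nat.eq_of_beq_eq_true hne
  obtain ⟨v1, h1⟩ := m.ψ_conj n v
  obtain ⟨v2, h2⟩ := m.ψ_conj n v1
  have e : (m.κ v * m.ψ n) ^ 3 = m.κ (v + v1 + v2) := by
    calc (m.κ v * m.ψ n) ^ 3 = m.κ v * (m.ψ n * m.κ v) * (m.ψ n * m.κ v) * m.ψ n := by
          simp only [pow_succ, pow_zero, one_mul, mul_assoc]
      _ = m.κ v * m.κ v1 * (m.ψ n * m.κ v1) * m.ψ n * m.ψ n := by rw [h1]; group
      _ = m.κ v * m.κ v1 * m.κ v2 * (m.ψ n * (m.ψ n * m.ψ n)) := by rw [h2]; group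
      _ = _ := by rw [m.ψ_mul hn, m.ψ_mul hn, h0, m.ψ_zero, m.κ_add, m.κ_add, mul_one]
  rw [e] at hf
  exact A_fix m hf

/-- the vector fixed by `yE` -/
noncomputable def zE : G := m.κ (vec 139)

theorem zE_comm : Commute (zE m) (yE m) := by
  have h1 : yE m = m.κ (vec 2) * m.wd (rho 3) := by
    rw [yE, ← eyE, m.wd_append, m.κ_word]; rfl
  have h2 := (m.act_word (w := rho 3) (by decide) (n := 139) (by norm_num)).2
  have h3 : apw (rho 3) 139 = 139 := by decide +kernel
  rw [h3] at h2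
  have h4 : Commute (m.wd (rho 3)) (m.κ (vec 139)) := mul_inv_eq_iff_eq_mul.1 h2
  rw [h1, zE]
  exact (show Commute (m.κ (vec 139)) (m.κ (vec 2)) from m.κ_comm _ _).mul_right h4.symm

theorem zE_ne : zE m ≠ 1 := by
  intro h
  rw [zE, ← m.κ_zero] at h
  have h1 := m.κ_injective h
  revert h1
  decide

theorem zE_cube : zE m ^ 3 = 1 := m.elemA.2 _ (m.κ_mem _)

theorem zE_not : zE m ∉ zpowers (yE m) := by
  intro h
  have hfin := m.finite
  obtain ⟨j, hj⟩ := mem_powers_iff_mem_zpowers.2 h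
  have hj : yE m ^ j = zE m := hj
  have h1 : yE m ^ (3 * j) = 1 := by rw [mul_comm, pow_mul, hj, zE_cube]
  have h2 := orderOf_dvd_of_pow_eq_one h1
  rw [orderE] at h2
  obtain ⟨i, rfl⟩ : 3 ∣ j := by
    have : 3 * 3 ∣ 3 * j := h2
    exact (Nat.mul_dvd_mul_iff_left (by norm_num)).1 this
  have hi : i.Coprime 3 := by
    rw [Nat.coprime_comm, Nat.Prime.coprime_iff_not_dvd Nat.prime_three]
    rintro ⟨l, rfl⟩
    apply zE_ne m
    rw [← hj, show 3 * (3 * l) = 9 * l by ring, pow_mul, nineE, one_pow]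
  have h3 := noFix_pow m hi
  rw [← pow_mul, hj] at h3
  exact A_fix m h3

end gen

section iso

open Cfsg.Agent.KFacts.FiTT

variable {G : Type*} [Group G] (e : G ≃* Spor.Fi22) (m : Model G (TK e))

theorem prime_cases {r : ℕ} (hr : r.Prime) (h : r ∣ 64561751654400) :
    r = 2 ∨ r = 3 ∨ r = 5 ∨ r = 7 ∨ r = 11 ∨ r = 13 := by
  have e : 64561751654400 = 2 ^ 17 * (3 ^ 9 * (5 ^ 2 * (7 * (11 * 13)))) := by norm_num
  rw [e] at h
  have k : ∀ {s : ℕ}, s.Prime → r ∣ s → r = s := fun hs h => (Nat.prime_dvd_prime_iff_eq hr hs).1 h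
  rcases hr.dvd_mul.1 h with h | h
  · exact .inl (k (by norm_num) (hr.dvd_of_dvd_pow h))
  rcases hr.dvd_mul.1 h with h | h
  · exact .inr (.inl (k (by norm_num) (hr.dvd_of_dvd_pow h)))
  rcases hr.dvd_mul.1 h with h | h
  · exact .inr (.inr (.inl (k (by norm_num) (hr.dvd_of_dvd_pow h))))
  rcases hr.dvd_mul.1 h with h | h
  · exact .inr (.inr (.inr (.inl (k (by norm_num) h))))
  rcases hr.dvd_mul.1 h with h | h
  · exact .inr (.inr (.inr (.inr (.inl (k (by norm_num) h)))))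
  · exact .inr (.inr (.inr (.inr (.inr (k (by norm_num) h)))))

include m in
/-- the centralizer is a 3-group -/
theorem pgroup_centE {r : ℕ} (hr : r.Prime) (h : r ∣ Nat.card (centralizer ({yE m} : Set G))) : r = 3 := by
  have I := inv_of_iso e
  have hfin := I.ctx.finite
  have hG : r ∣ Nat.card G := h.trans (card_subgroup_dvd_card _)
  rw [Cfsg.Agent.H559.FiSpec.card_eq ⟨e⟩] at hG
  have hF : Fact r.Prime := ⟨hr⟩
  obtain ⟨z, hz⟩ := exists_prime_orderOf_dvd_card' r h
  have hz' : orderOf (z : G) = r := by rw [orderOf_coe, hz]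
  have hc : (z : G) * yE m = yE m * z := mem_centralizer_singleton_iff.1 z.2
  have h9 : 9 ∣ Nat.card (centralizer ({(z : G)} : Set G)) := by
    have h1 : orderOf (⟨yE m, mem_centralizer_singleton_iff.2 hc.symm⟩ : centralizer ({(z : G)} : Set G)) = 9 := by
      rw [← orderE m, ← orderOf_coe]
    rw [← h1]
    exact _root_.orderOf_dvd_natCard _
  rcases prime_cases hr hG with rfl | rfl | rfl | rfl | rfl | rfl
  · exfalso
    have h1 : (z : G) = 1 := twoE m I (e := 1) (by rw [pow_one, ← hz', pow_orderOf_eq_one]) hc.symm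
    rw [h1, orderOf_one] at hz'
    norm_num at hz'
  · rfl
  · rw [Cfsg.Agent.H559.FiSpec.cent5 ⟨e⟩ hz'] at h9; norm_num at h9
  · rw [Cfsg.Agent.H559.FiSpec.cent7 ⟨e⟩ hz'] at h9; norm_num at h9
  · rw [Cfsg.Agent.H559.FiSpec.cent11 ⟨e⟩ hz'] at h9; norm_num at h9
  · rw [Cfsg.Agent.H559.FiSpec.cent13 ⟨e⟩ hz'] at h9; norm_num at h9

include m in
/-- **`|C(yE)| = 27`** -/
theorem card_centE : Nat.card (centralizer ({yE m} : Set G)) = 27 := by
  have I := inv_of_iso e
  have hfin := I.ctx.finite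
  have h3 : Fact (Nat.Prime 3) := ⟨Nat.prime_three⟩
  set C := centralizer ({yE m} : Set G) with hCdef
  have hyC : yE m ∈ C := by rw [hCdef, mem_centralizer_singleton_iff]
  have hzC : zE m ∈ C := by rw [hCdef, mem_centralizer_singleton_iff]; exact (zE_comm m).eq
  have hc0 : Nat.card C ≠ 0 := Nat.card_pos.ne'
  have hpow : Nat.card C = 3 ^ (Nat.card C).primeFactorsList.length :=
    Nat.eq_prime_pow_of_unique_prime_dvd hc0 fun {r} hr hd => pgroup_centE e m hr hd
  have hp : IsPGroup 3 C := IsPGroup.of_card hpow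
  -- the upper bound
  have hle : Nat.card C ≤ 27 := by
    obtain ⟨Q, hQ⟩ := m.isPGroup_P0.exists_le_sylow
    have h1 := m.isSylow_P0 hQ
    obtain ⟨P, hP⟩ := hp.exists_le_sylow
    obtain ⟨g, hg⟩ := MulAction.exists_smul_eq G P Q
    have hmem : ∀ c ∈ C, g * c * g⁻¹ ∈ m.P0 := by
      intro c hc
      rw [← h1, ← hg, Sylow.coe_subgroup_smul]
      exact ⟨c, hP hc, rfl⟩
    obtain ⟨v, n, hn, hvn⟩ := hmem _ hyC
    have h9 : nine n = true := by
      refine nine_of m (v := v) hn ?_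
      rw [← hvn, conj_pow]
      exact (noFixE m).conj g
    have h2 := card_le m hn h9 (C.map (MulAut.conj g).toMonoidHom) (v := v) (by
      rintro _ ⟨c, hc, rfl⟩
      refine ⟨hmem c hc, ?_⟩
      rw [← hvn]
      have h4 : c * yE m = yE m * c := mem_centralizer_singleton_iff.1 hc
      show g * c * g⁻¹ * (g * yE m * g⁻¹) = g * yE m * g⁻¹ * (g * c * g⁻¹)
      calc g * c * g⁻¹ * (g * yE m * g⁻¹) = g * (c * yE m) * g⁻¹ := by group
        _ = g * (yE m * c) * g⁻¹ := by rw [h4]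
        _ = _ := by group)
    rwa [card_map_of_injective (MulAut.conj g).injective] at h2
  -- the lower bound
  set k := (Nat.card C).primeFactorsList.length with hk
  have hY : zpowers (yE m) ≤ C := by rw [zpowers_le]; exact hyC
  have hYc : Nat.card (zpowers (yE m)) = 9 := by rw [Nat.card_zpowers, orderE]
  have hne : Nat.card C ≠ 9 := by
    intro h9
    have h4 : zpowers (yE m) = C := eq_of_le_of_card_ge hY (by rw [h9, hYc])
    exact zE_not m (h4 ▸ hzC)
  have hd : 9 ∣ Nat.card C := by rw [← hYc]; exact card_dvd_of_le hY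
  rw [hpow] at hle hne hd ⊢
  have hk2 : 2 ≤ k := by
    have : 3 ^ 2 ∣ 3 ^ k := hd
    exact (Nat.pow_dvd_pow_iff_le_right (by norm_num)).1 this
  have hk3 : k ≤ 3 := by
    have : 3 ^ k ≤ 3 ^ 3 := hle
    exact (Nat.pow_le_pow_iff_right (by norm_num)).1 this
  have hk4 : k ≠ 2 := by
    intro h4
    rw [h4] at hne
    norm_num at hne
  have h5 : k = 3 := by omega
  rw [h5]; norm_num

end iso

end Cfsg.Agent.H320.OZ.FiE
end

-- part: H3/Ore/Fi22Prime
section
/-!
# `Fi22`: elements of order divisible by 5, 7, 11 or 13 are commutators (helper3)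

The centralizer of an element of order `p` is `⟨u⟩ × S₅`, `⟨u⟩ × S₃`, cyclic of order 22, cyclic of order 13.
-/

set_option autoImplicit false
set_option maxRecDepth 100000
set_option exponentiation.threshold 5000
set_option linter.style.longLine false
set_option linter.constructorNameAsVariable false

namespace Cfsg.Agent.H3.Ore.FP

open Equiv Equiv.Perm Subgroup
open Cfsg.Agent.H777.Ore (IsC isC_zpow)
open Cfsg.Agent.H455.Isolated (exists_pow_orderOf)

section gen

variable {G : Type*} [Group G]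

/-- an element commuting with the images of the adjacent transpositions -/
theorem comm_of_path {n : ℕ} (φ : Perm (Fin (n + 1)) →* G) {x : G}
    (h : ∀ i : Fin n, Commute x (φ (swap i.castSucc i.succ))) (σ : Perm (Fin (n + 1))) : Commute x (φ σ) := by
  have hm : σ ∈ Submonoid.closure (Set.range fun i : Fin n => swap i.castSucc i.succ) := by
    rw [Equiv.Perm.mclosure_swap_castSucc_succ]; exact Submonoid.mem_top σ
  induction hm using Submonoid.closure_induction with
  | mem y hy => obtain ⟨i, rfl⟩ := hy; exact h i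
  | one => rw [map_one]; exact Commute.one_right x
  | mul y z _ _ h1 h2 => rw [map_mul]; exact h1.mul_right h2

/-- the centralizer is `⟨u⟩ × φ(S)` -/
theorem cent_prod {k p : ℕ} (φ : Perm (Fin k) →* G) {u : G} (hp : 0 < p) (hu : orderOf u = p)
    (hcom : ∀ σ, Commute u (φ σ)) (hinj : Function.Injective φ) (hcen : ∀ σ : Perm (Fin k), (∀ τ, σ * τ = τ * σ) → σ = 1)
    (hcard : Nat.card (centralizer ({u} : Set G)) = p * k.factorial) {c : G} (hc : Commute c u) :
    ∃ i < p, ∃ σ, c = u ^ i * φ σ := by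
  let Ψ : Fin p × Perm (Fin k) → centralizer ({u} : Set G) := fun x =>
    ⟨u ^ (x.1 : ℕ) * φ x.2, mem_centralizer_singleton_iff.2
      (((Commute.refl u).pow_left _).mul_left (hcom x.2).symm).eq⟩
  have hΨ : Function.Injective Ψ := by
    rintro ⟨i, σ⟩ ⟨j, τ⟩ h
    have h1 : u ^ (i : ℕ) * φ σ = u ^ (j : ℕ) * φ τ := congrArg Subtype.val h
    have h2 : φ (σ * τ⁻¹) = (u ^ (i : ℕ))⁻¹ * u ^ (j : ℕ) := by
      rw [map_mul, map_inv, mul_inv_eq_iff_eq_mul, mul_assoc, ← h1, inv_mul_cancel_left]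
    have h3 : σ * τ⁻¹ = 1 := by
      apply hcen
      intro ρ
      apply hinj
      rw [map_mul, map_mul φ ρ, h2]
      exact (((hcom ρ).pow_left _).inv_left.mul_left ((hcom ρ).pow_left _)).eq
    have h4 : σ = τ := mul_inv_eq_one.1 h3
    subst h4
    have h5 := mul_right_cancel h1
    have h6 : (i : ℕ) = j := pow_injOn_Iio_orderOf (by rw [hu]; exact i.2) (by rw [hu]; exact j.2) h5
    rw [Fin.ext h6]
  have hfin : Finite (centralizer ({u} : Set G)) := Nat.finite_of_card_ne_zero (by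
    rw [hcard]; exact Nat.mul_ne_zero hp.ne' (Nat.factorial_ne_zero k))
  have hbij : Function.Bijective Ψ := by
    apply hΨ.bijective_of_nat_card_le
    rw [hcard, Nat.card_prod, Nat.card_eq_fintype_card, Nat.card_eq_fintype_card, Fintype.card_fin, Fintype.card_perm,
      Fintype.card_fin]
  obtain ⟨⟨i, σ⟩, h⟩ := hbij.2 ⟨c, mem_centralizer_singleton_iff.2 hc.eq⟩
  exact ⟨i, i.2, σ, (congrArg Subtype.val h).symm⟩

end gen

/-! ### the permutations of five and three points -/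

theorem cen3 : ∀ σ : Perm (Fin 3), (∀ τ, σ * τ = τ * σ) → σ = 1 := by decide +kernel

def t3 (i : Fin 2) : Perm (Fin 3) := swap i.castSucc i.succ

theorem all3 : ∀ σ : Perm (Fin 3), σ = 1 ∨ σ = t3 0 ∨ σ = t3 1 ∨ σ = t3 0 * t3 1 ∨ σ = t3 1 * t3 0 ∨
    σ = t3 0 * t3 1 * t3 0 := by decide +kernel

/-! ### the words -/

section words

open Cfsg.Spor Cfsg.Spor.Fi22 Cfsg.Agent.Lib.PermNet Cfsg.Agent.Lib.PermNetOrbit Cfsg.Agent.Lib.PermNetFix
open Cfsg.Agent.Fischer Cfsg.Agent.Fischer.Fi22PtsRep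
open Cfsg.Agent.H834 Cfsg.Agent.H834.AC
open Cfsg.Agent.H3.Ore.FC

/-- the element of order 5 and the path commuting with it -/
def u5 : List Gen := [.a, .b, .c, .d]
def n5 : List Gen := [.c, .a, .b]
def qX : List Gen := [.h, .d, .e, .c, .d, .h, .i, .b, .c, .d, .h, .e, .d, .c, .b, .a, .b, .c, .d, .e, .h, .d, .c, .b, .i, .h, .d, .c, .e, .d, .h]
def q5 (i : ℕ) : List Gen := [[.g], [.f], qX, [.i]].getD i []

theorem cq5 : ((List.range 4).all fun i => and (eqB (q5 i ++ q5 i) []) (and (eqB (u5 ++ q5 i) (q5 i ++ u5))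
    (and (eqB (n5 ++ q5 i) (q5 i ++ n5)) (or (Nat.beq i 3) (eqB (q5 i ++ (q5 (i + 1) ++ q5 i)) (q5 (i + 1) ++ (q5 i ++ q5 (i + 1)))))))) = true := by
  have e : eqB = eqF := funext fun u => funext fun v => (eqF_eq u v).symm
  rw [e]
  decide +kernel
theorem ne5 : Nat.beq (ptWord (nw [.g]) 154) (ptWord (nw [.f]) 154) = false := by decide +kernel
theorem ng5 : Nat.beq (ptWord (nw [.g]) 88) 88 = false := by decide +kernel
theorem nf5 : Nat.beq (ptWord (nw [.f]) 154) 154 = false := by decide +kernel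
/-- the element of order 7 -/
def u7 : List Gen := [.a, .b, .c, .d, .h, .i]
def n7 : List Gen := [.c, .d, .i, .h, .c, .a, .b]

theorem o7 : eqB (u7 ++ (u7 ++ (u7 ++ (u7 ++ (u7 ++ (u7 ++ u7)))))) [] = true :=
  eqB_of (by decide +kernel)
theorem cq7 : ((List.range 2).all fun i => and (eqB (u7 ++ q5 i) (q5 i ++ u7)) (eqB (n7 ++ q5 i) (q5 i ++ n7))) = true := by
  have e : eqB = eqF := funext fun u => funext fun v => (eqF_eq u v).symm
  rw [e]
  decide +kernel
theorem nu7' : Nat.beq (ptWord (nw u7) 0) 0 = false := by decide +kernel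

end words

end Cfsg.Agent.H3.Ore.FP

namespace Cfsg.Agent.H834.Model

open Equiv Equiv.Perm Subgroup
open Cfsg.Spor Cfsg.Spor.Fi22 Cfsg.Agent.Lib.PermNet Cfsg.Agent.Lib.PermNetOrbit Cfsg.Agent.Lib.PermNetFix
open Cfsg.Agent.Fischer Cfsg.Agent.Fischer.Fi22PtsRep
open Cfsg.Agent.H834 Cfsg.Agent.H834.AC
open Cfsg.Agent.H3.Ore.FC Cfsg.Agent.H3.Ore.FP
open Cfsg.Agent.H777.Ore (IsC isC_zpow)
open Cfsg.Agent.H836 Cfsg.Agent.KFacts.FiTT

section

variable {G : Type*} [Group G] {D : Set G} (m : Model G D)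

theorem ne_of_pt {u v : List Gen} {q : ℕ} (h : Nat.beq (ptWord (nw u) q) (ptWord (nw v) q) = false) : m.wd u ≠ m.wd v := by
  intro e
  have h1 := congrArg (fun g => m.φ g q) e
  simp only [φ_wd_apply] at h1
  exact Nat.ne_of_beq_eq_false h h1

theorem ne_one_of_pt {u : List Gen} {q : ℕ} (h : Nat.beq (ptWord (nw u) q) q = false) : m.wd u ≠ 1 := by
  intro e
  have h1 := congrArg (fun g => m.φ g q) e
  simp only [φ_wd_apply, map_one, Equiv.Perm.one_apply] at h1
  exact Nat.ne_of_beq_eq_false h h1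

theorem u7_pow : m.wd u7 ^ 7 = 1 := by
  have h := m.eq_of_eqB o7
  simp only [wd_append, wd_nil] at h
  simpa only [pow_succ, pow_zero, one_mul, mul_assoc] using h

theorem orderOf_u7 : orderOf (m.wd u7) = 7 := by
  have h5 : Fact (Nat.Prime 7) := ⟨by norm_num⟩
  exact orderOf_eq_prime m.u7_pow (m.ne_one_of_pt nu7')

theorem q5_spec {i : ℕ} (hi : i < 4) : m.wd (q5 i) * m.wd (q5 i) = 1 ∧ Commute (m.wd u5) (m.wd (q5 i)) ∧
    Commute (m.wd n5) (m.wd (q5 i)) ∧ (i ≠ 3 → m.wd (q5 i) * m.wd (q5 (i + 1)) * m.wd (q5 i) =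
      m.wd (q5 (i + 1)) * m.wd (q5 i) * m.wd (q5 (i + 1))) := by
  have h := cq5
  rw [List.all_eq_true] at h
  have h1 := h i (List.mem_range.2 hi)
  rw [Bool.and_eq_true, Bool.and_eq_true, Bool.and_eq_true, Bool.or_eq_true] at h1
  obtain ⟨h1, h2, h3, h4⟩ := h1
  have e1 := m.eq_of_eqB h1
  have e2 := m.eq_of_eqB h2
  have e3 := m.eq_of_eqB h3
  rw [wd_append, wd_nil] at e1
  rw [wd_append, wd_append] at e2 e3
  refine ⟨e1, e2, e3, fun hne => ?_⟩
  rcases h4 with h4 | h4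
  · exact absurd (Nat.eq_of_beq_eq_true h4) hne
  · have e4 := m.eq_of_eqB h4
    simp only [wd_append] at e4
    rw [mul_assoc, mul_assoc, e4]

theorem q7_spec {i : ℕ} (hi : i < 2) : Commute (m.wd u7) (m.wd (q5 i)) ∧ Commute (m.wd n7) (m.wd (q5 i)) := by
  have h := cq7
  rw [List.all_eq_true] at h
  have h1 := h i (List.mem_range.2 hi)
  rw [Bool.and_eq_true] at h1
  have e2 := m.eq_of_eqB h1.1
  have e3 := m.eq_of_eqB h1.2
  rw [wd_append, wd_append] at e2 e3
  exact ⟨e2, e3⟩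

theorem exists_phi3 : ∃ φ : Perm (Fin 3) →* G, Function.Injective φ ∧
    ∀ i : Fin 2, φ (swap i.castSucc i.succ) = m.wd (q5 i) := by
  obtain ⟨φ, hφ⟩ := Cfsg.Agent.H440.TwoGen.Path.exists_hom 2 (fun i => m.wd (q5 i))
    (fun i hi => (m.q5_spec (by omega)).1) (fun i hi => (m.q5_spec (by omega)).2.2.2 (by omega)) (fun i j h1 h2 => by omega)
  refine ⟨φ, ?_, hφ⟩
  have s : ∀ i : Fin 2, φ (t3 i) = m.wd (q5 i) := hφ
  have g1 : m.wd (q5 0) ≠ 1 := m.ne_one_of_pt ng5
  have f1 : m.wd (q5 1) ≠ 1 := m.ne_one_of_pt nf5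
  have gf : m.wd (q5 0) ≠ m.wd (q5 1) := m.ne_of_pt ne5
  have gg : m.wd (q5 0) * m.wd (q5 0) = 1 := (m.q5_spec (by norm_num)).1
  have ff : m.wd (q5 1) * m.wd (q5 1) = 1 := (m.q5_spec (by norm_num)).1
  rw [injective_iff_map_eq_one]
  intro σ hσ
  rcases all3 σ with rfl | rfl | rfl | rfl | rfl | rfl
  · rfl
  · exact absurd ((s 0).symm.trans hσ) g1
  · exact absurd ((s 1).symm.trans hσ) f1
  · exfalso
    rw [map_mul, s, s] at hσ
    exact gf (mul_right_cancel (hσ.trans ff.symm))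
  · exfalso
    rw [map_mul, s, s] at hσ
    exact gf (mul_left_cancel (ff.trans hσ.symm)).symm
  · exfalso
    rw [map_mul, map_mul, s, s] at hσ
    apply f1
    have h1 : m.wd (q5 0) * (m.wd (q5 0) * m.wd (q5 1) * m.wd (q5 0)) * m.wd (q5 0) = m.wd (q5 1) := by
      calc m.wd (q5 0) * (m.wd (q5 0) * m.wd (q5 1) * m.wd (q5 0)) * m.wd (q5 0)
          = (m.wd (q5 0) * m.wd (q5 0)) * m.wd (q5 1) * (m.wd (q5 0) * m.wd (q5 0)) := by group
        _ = m.wd (q5 1) := by rw [gg, one_mul, mul_one]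
    have h2 : m.wd (q5 0) * m.wd (q5 1) * m.wd (q5 0) = 1 := hσ
    rw [← h1, h2, mul_one, gg]

end

section

variable {G : Type*} [Group G] (e : G ≃* Spor.Fi22) (m : Model G (TK e))

end

end Cfsg.Agent.H834.Model
end

-- part: H320/OZ/RowFi22
section
/-!
# One vanishing class: `Fi22` (helper320, S4842)

`|C(z)| = 13, 22, 42` for `z` of order `13, 11, 7`: the sieve leaves the degrees `1728, 2430, 2985984`.  They are divisible by
three and `25` does not divide `d ^ 2 - 1`: `|C(x)| ≤ 25`.  The rational element `yE` of order nine has `|C(yE)| = 27` and a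
value divisible by three: `8 |C(x)| ≤ 27`.
-/

set_option autoImplicit false
set_option maxRecDepth 100000

open Cfsg Cfsg.Agent.Characters Cfsg.Agent.H732.VZ Cfsg.Agent.H604.OZ Cfsg.Agent.H672.OZ

namespace Cfsg.Agent.H320.OZ

universe u

section seven

open Equiv Equiv.Perm Subgroup
open Cfsg.Spor Cfsg.Spor.Fi22 Cfsg.Agent.Lib.PermNet Cfsg.Agent.Lib.PermNetOrbit Cfsg.Agent.Lib.PermNetFix
open Cfsg.Agent.Fischer Cfsg.Agent.Fischer.Fi22PtsRep
open Cfsg.Agent.H834 Cfsg.Agent.H834.AC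
open Cfsg.Agent.H3.Ore.FC Cfsg.Agent.H3.Ore.FP
open Cfsg.Agent.H836 Cfsg.Agent.KFacts.FiTT

theorem same3 : ∀ σ τ : Perm (Fin 3), (σ = 1 ↔ τ = 1) → (σ ^ 2 = 1 ↔ τ ^ 2 = 1) → ∃ ρ, ρ * σ * ρ⁻¹ = τ := by
  decide +kernel

variable {G : Type*} [Group G] (e : G ≃* Spor.Fi22) (m : Model G (TK e))

include m e in
theorem cls7 (y y' : G) (hy : m.wd u7 * y = y * m.wd u7) (hy' : m.wd u7 * y' = y' * m.wd u7) (h7 : ¬ 7 ∣ orderOf y)
    (ho : orderOf y = orderOf y') : ∃ k : G, m.wd u7 * k = k * m.wd u7 ∧ k * y * k⁻¹ = y' := by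
  obtain ⟨φ, hinj, hφ⟩ := m.exists_phi3
  have hu := m.orderOf_u7
  have hcu : ∀ σ, Commute (m.wd u7) (φ σ) := comm_of_path φ (fun i => by rw [hφ]; exact (m.q7_spec i.2).1)
  have key : ∀ c : G, m.wd u7 * c = c * m.wd u7 → ¬ 7 ∣ orderOf c → ∃ σ, c = φ σ := by
    intro c hc h7
    obtain ⟨i, hi, σ, rfl⟩ := cent_prod φ (by norm_num) hu hcu hinj cen3
      (by rw [Cfsg.Agent.H559.FiSpec.cent7 ⟨e⟩ hu]; rfl) hc.symm
    have h6 : ∀ σ : Perm (Fin 3), σ ^ 6 = 1 := by decide +kernel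
    have h1 : (m.wd u7 ^ i * φ σ) ^ 6 = m.wd u7 ^ (i * 6) := by
      rw [((hcu σ).pow_left i).mul_pow, ← map_pow, h6, map_one, mul_one, ← pow_mul]
    have h2 : ((m.wd u7 ^ i * φ σ) ^ 6) ^ 7 = 1 := by
      rw [h1, ← pow_mul, mul_comm, pow_mul, m.u7_pow, one_pow]
    have h3 : orderOf ((m.wd u7 ^ i * φ σ) ^ 6) = 1 := by
      rcases (Nat.dvd_prime (by norm_num : Nat.Prime 7)).1 (orderOf_dvd_of_pow_eq_one h2) with h | h
      · exact h
      · exact absurd (h ▸ orderOf_pow_dvd 6) h7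
    rw [orderOf_eq_one_iff, h1] at h3
    have h4 := orderOf_dvd_of_pow_eq_one h3
    rw [hu] at h4
    have h5 : i = 0 := by omega
    exact ⟨σ, by rw [h5, pow_zero, one_mul]⟩
  obtain ⟨σ, rfl⟩ := key y hy h7
  obtain ⟨τ, rfl⟩ := key y' hy' (ho ▸ h7)
  have hpow : ∀ n, σ ^ n = 1 ↔ τ ^ n = 1 := by
    intro n
    have h1 : ∀ ρ : Perm (Fin 3), ρ ^ n = 1 ↔ orderOf (φ ρ) ∣ n := by
      intro ρ
      rw [orderOf_dvd_iff_pow_eq_one, ← map_pow, map_eq_one_iff φ hinj]
    rw [h1, h1, ho]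
  obtain ⟨ρ, hρ⟩ := same3 σ τ (by simpa using hpow 1) (hpow 2)
  exact ⟨φ ρ, (hcu ρ).eq, by rw [← map_mul, ← map_inv, ← map_mul, hρ]⟩

end seven

/-- the order -/
abbrev NF : ℕ := 64561751654400

/-- its factorization -/
def lF : List (ℕ × ℕ) := [(2, 17), (3, 9), (5, 2), (7, 1), (11, 1), (13, 1)]

theorem primes_ok : ∀ x ∈ lF, x.1.Prime := by
  intro x hx
  simp only [lF, List.mem_cons, List.not_mem_nil, or_false] at hx
  rcases hx with rfl | rfl | rfl | rfl | rfl | rfl <;> norm_num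

/-- `d = ± 1` modulo `r` -/
def pm (r d : ℕ) : Bool := Nat.beq (Nat.mod d r) 1 || Nat.beq (Nat.mod d r) (Nat.sub r 1)

theorem pm_of {r d : ℕ} (h : d % r = 1 ∨ d % r = r - 1) : pm r d = true := by
  unfold pm
  rw [Bool.or_eq_true]
  rcases h with h | h
  · exact .inl (by rw [Nat.beq_eq]; exact h)
  · exact .inr (by rw [Nat.beq_eq]; exact h)

theorem sieve : ((Cfsg.Agent.H417.Divs.divs lF).all fun d => !(okd NF 4 lF [13] d) || (!(pm 11 d) || (!(pm 7 d) ||
    [1728, 2430, 2985984].contains d))) = true :=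
  _root_.Cfsg.Agent.H672.OZ.LowExp.all_of (by decide +kernel)

/-- **`Fi22`.** -/
theorem row_fi22 {S : Type u} [Group S] [Finite S] (_ : IsSimpleGroup S) (hS : Spor.IsoFi22 S) : H730.OZ.Row S := by
  have hN : Nat.card S = NF := H559.FiSpec.card_eq hS
  have hS' := hS
  obtain ⟨e⟩ := hS
  obtain ⟨m⟩ := Cfsg.Agent.H834.Bridge.model_of_iso e (D := Cfsg.Agent.KFacts.FiTT.TK e) rfl
  refine row_of fun χ x h => ?_
  have h4 : 4 ≤ cent x := four_le_cent h (by rw [hN]; norm_num) (by rw [hN]; norm_num)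
  -- regular at 7 and 11
  have reg : ∀ p : ℕ, p.Prime → p ∣ NF → ¬ p ^ 2 ∣ NF → (∀ z : S, orderOf z = p →
      p < Nat.card (Subgroup.centralizer ({z} : Set S))) → ¬ p ∣ orderOf x := by
    intro p hp hd h2 hC
    have hF : Fact p.Prime := ⟨hp⟩
    obtain ⟨z, hz⟩ := exists_prime_orderOf_dvd_card' (G := S) p (by rw [hN]; exact hd)
    rcases Nat.lt_or_ge p (cent x) with h5 | h5
    · exact H733.OZ.not_dvd_orderOf h hp (n := 1) (by rw [pow_one, hN]; exact hd) (by rw [hN]; exact h2)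
        (by rw [pow_one]; exact h5)
    · exact H849.OZ.not_dvd_of_le hp (by rw [hN]; exact h2) hz (hC z hz) h5
  have hx11 := reg 11 (by norm_num) (by norm_num) (by norm_num) fun z hz => by
    rw [H559.FiSpec.cent11 hS' hz]; norm_num
  have hx7 := reg 7 (by norm_num) (by norm_num) (by norm_num) fun z hz => by
    rw [H559.FiSpec.cent7 hS' hz]; norm_num
  have i13 := iso_mod h (p := 13) (by norm_num) (by norm_num) (by rw [hN]; norm_num) (by rw [hN]; norm_num)
    (by rw [hN]; norm_num) (fun y hy => H559.FiSpec.cent13 hS' hy) h4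
  have m11 : charDegree (χ : S → ℂ) % 11 = 1 ∨ charDegree (χ : S → ℂ) % 11 = 11 - 1 := by
    have hF : Fact (Nat.Prime 11) := ⟨by norm_num⟩
    obtain ⟨z, hz⟩ := exists_prime_orderOf_dvd_card' (G := S) 11 (by rw [hN]; norm_num)
    exact H849.OZ.mod_of_two (by norm_num) (by norm_num) (by rw [hN]; norm_num) (by rw [hN]; norm_num) hz
      (H559.FiSpec.cent11 hS' hz) h hx11 h4
  have m7 : charDegree (χ : S → ℂ) % 7 = 1 ∨ charDegree (χ : S → ℂ) % 7 = 7 - 1 :=
    H849.OZ.mod_of_classes (by norm_num) (by norm_num) (by rw [hN]; norm_num) (by rw [hN]; norm_num) m.orderOf_u7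
      (fun y y' h1 h2 h3 h5 => cls7 e m y y' h1 h2 h3 h5) h hx7 h4
  have hok := okd_of h hN (c0 := 4) (l := lF) (iso := [13]) (by decide +kernel) primes_ok (by decide +kernel) h4
    (by
      intro r hr
      simp only [List.mem_cons, List.not_mem_nil, or_false] at hr
      subst hr
      exact i13)
  have h1 := H417.Divs.all_divs lF primes_ok (N := NF) (by decide +kernel) sieve (d := charDegree (χ : S → ℂ))
    (by rw [← hN]; exact deg_dvd χ)
  rw [hok, pm_of m11, pm_of m7, Bool.not_true, Bool.false_or, Bool.false_or, Bool.false_or, List.contains_iff_mem] at h1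
  simp only [List.mem_cons, List.not_mem_nil, or_false] at h1
  -- `|C(x)| ≤ 25`
  have h25 : cent x ≤ 5 ^ 2 := by
    refine H733.OZ.cent_le h (by norm_num) (by rw [hN]; norm_num) (by rw [hN]; norm_num) ?_
    rcases h1 with h1 | h1 | h1 <;> rw [h1] <;> norm_num
  have hd3 : 3 ∣ charDegree (χ : S → ℂ) := by
    rcases h1 with h1 | h1 | h1 <;> rw [h1] <;> norm_num
  have hE : cent (FiE.yE m) = 27 := FiE.card_centE e m
  have hx : ¬ IsConj x (FiE.yE m) := by
    intro hc
    rw [cent_eq_of_conj hc, hE] at h25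
    norm_num at h25
  have h5 := H849.OZ.one_prime h (r := 3) (by norm_num) hd3 ⟨2, by rw [FiE.orderE]; norm_num⟩ (y := FiE.yE m)
    (fun k hk => FiE.ratE m (Nat.Coprime.coprime_dvd_right (by rw [hN]; norm_num) hk)) hx
  rw [hE] at h5
  norm_num only [] at h5
  omega

end Cfsg.Agent.H320.OZ
end

-- part: H678/OZ/Disj
section
/-!
# One vanishing class: the excess over the elements of order divisible by `r`

`h : One χ x`, `d = χ(1)`, `|G| = r ^ n * m`, `r ∤ m`, `x` of order prime to `r`.  The excess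
`∑ (|χ|² - 1)` over the elements of order divisible by `r` is `m * k` with a natural number `k`
(`exists_k`), and

* `k = 0` implies `r ^ n ∣ d² - 1`;
* `r ∣ m * k + (d² - 1)` if only `1` is `r`-regular and centralizes a Sylow `r`-subgroup.

The excesses for different primes add up if no element order is divisible by two of them
(`three`): `|C(x)| * (m₁ k₁ + m₂ k₂ + m₃ k₃ + (d² - 1)) ≤ |G|`.
-/

set_option autoImplicit false

open Cfsg Cfsg.Agent.Characters Cfsg.Agent.H686.CharKit Cfsg.Agent.H732.VZ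
open Cfsg.Agent.H604.OZ (cent ne_one one_lt_deg orderOf_eq_of_conj)
open Cfsg.Agent.H733.OZ (sing reg mem_sing mem_reg gal_sing gal_reg)
open scoped ComplexConjugate

namespace Cfsg.Agent.H678.OZ

universe u

variable {G : Type u} [Group G]

/-- If `|χ| = 1` on the elements of order divisible by `r` then `|G|_r` divides `d² - 1`. -/
theorem pow_dvd_of [Finite G] {χ : IrrCharacter G} (hd : 1 < charDegree (χ : G → ℂ)) {r n : ℕ}
    (hr : r.Prime) (h1 : r ^ n ∣ Nat.card G) (h2 : ¬ r ^ (n + 1) ∣ Nat.card G)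
    (h : ∀ g : G, r ∣ orderOf g → Complex.normSq ((χ : G → ℂ) g) = 1) :
    r ^ n ∣ charDegree (χ : G → ℂ) ^ 2 - 1 := by
  classical
  have : Fact r.Prime := ⟨hr⟩
  obtain ⟨P⟩ : Nonempty (Sylow r G) := inferInstance
  have hP : r ^ n ∣ Nat.card (P : Subgroup G) := P.pow_dvd_card_of_pow_dvd_card h1
  have hP' : Nat.card (P : Subgroup G) ∣ r ^ n := by
    obtain ⟨m, hm⟩ := IsPGroup.iff_card.1 P.2
    rw [hm]
    refine pow_dvd_pow r ?_
    by_contra hlt
    exact h2 ((pow_dvd_pow r (by omega : n + 1 ≤ m)).trans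
      (hm ▸ Subgroup.card_subgroup_dvd_card _))
  have hPc : Nat.card (P : Subgroup G) = r ^ n := Nat.dvd_antisymm hP' hP
  have := Fintype.ofFinite (P : Subgroup G)
  have hres : IsCharacter (P : Subgroup G) (fun y : (P : Subgroup G) => (χ : G → ℂ) y) :=
    Core.isCharacter_comp (P : Subgroup G).subtype (Core.isIrr_isCharacter χ.2)
  obtain ⟨m, hm⟩ := Core.classInner_isNat hres hres
  unfold classInner at hm
  have hPC : (Nat.card (P : Subgroup G) : ℂ) ≠ 0 := by exact_mod_cast Nat.card_pos.ne'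
  have h3 : ∑ y : (P : Subgroup G), (χ : G → ℂ) y * (starRingEnd ℂ) ((χ : G → ℂ) y)
      = (Nat.card (P : Subgroup G) : ℂ) * m := by
    rw [← hm]
    field_simp
  have h4 : ∀ y : (P : Subgroup G), y ≠ 1 →
      (χ : G → ℂ) y * (starRingEnd ℂ) ((χ : G → ℂ) y) = 1 := by
    intro y hy
    rw [Complex.mul_conj, h, Complex.ofReal_one]
    obtain ⟨k, hk⟩ := IsPGroup.iff_orderOf.1 P.2 y
    have hk0 : k ≠ 0 := by
      rintro rfl
      rw [pow_zero, orderOf_eq_one_iff] at hk
      exact hy hk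
    rw [Subgroup.orderOf_coe, hk]
    exact dvd_pow_self r hk0
  rw [← Finset.add_sum_erase _ _ (Finset.mem_univ (1 : (P : Subgroup G))),
    Finset.sum_congr rfl fun y hy => h4 y (Finset.ne_of_mem_erase hy), Finset.sum_const,
    nsmul_eq_mul, mul_one, Finset.card_erase_of_mem (Finset.mem_univ _), Finset.card_univ,
    ← Nat.card_eq_fintype_card, hPc, OneMemClass.coe_one, ← charDegree_irr χ,
    Complex.conj_natCast] at h3
  have hrn : 1 ≤ r ^ n := Nat.one_le_pow _ _ hr.pos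
  have h5 : charDegree (χ : G → ℂ) * charDegree (χ : G → ℂ) + (r ^ n - 1) = r ^ n * m := by
    exact_mod_cast h3
  have h6 : 1 ≤ charDegree (χ : G → ℂ) ^ 2 := Nat.one_le_pow _ _ (by omega)
  have h7 : charDegree (χ : G → ℂ) ^ 2 - 1 + r ^ n = r ^ n * m := by
    rw [← h5, sq] at *
    omega
  exact (Nat.dvd_add_left (dvd_refl _)).1 (h7 ▸ Dvd.intro _ rfl)

section Fin

variable [Fintype G]

/-- The congruence of the excess modulo `r`. -/
theorem modEq {χ : IrrCharacter G} {r : ℕ} (hr : r.Prime)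
    (P : Sylow r G)
    (hP : ∀ g ∈ Subgroup.centralizer ((P : Subgroup G) : Set G), ¬ r ∣ orderOf g → g = 1) {e : ℤ}
    (he : (∑ g ∈ reg G r, Complex.normSq ((χ : G → ℂ) g)) - (reg G r).card = e) :
    (r : ℤ) ∣ e - ((charDegree (χ : G → ℂ) : ℤ) ^ 2 - 1) := by
  classical
  have : Fact r.Prime := ⟨hr⟩
  obtain ⟨M, hM', hrM⟩ := CharactersDeep.BrauerLocal.exists_maximal r hr
  have hM : M.IsPrime := hM'.isPrime
  set f : G → AlgInt := fun g => if r ∣ orderOf g then 0 else av χ g * av χ g⁻¹ - 1 with hf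
  obtain ⟨a, ha⟩ := Cfsg.Agent.Blocks.OrbitSum.sum_eq_sum_centralizer_add_smul (p := r)
    (P : Subgroup G) P.2 f (fun u _ y => by
      have h1 : orderOf (u * y * u⁻¹) = orderOf y := by
        have := (MulAut.conj u).orderOf_eq y
        rwa [MulAut.conj_apply] at this
      simp only [hf]
      rw [h1]
      have h2 : av χ (u * y * u⁻¹) = av χ y := Subtype.ext (Core.isIrr_isClassFunction χ.2 y u)
      have h3 : av χ (u * y * u⁻¹)⁻¹ = av χ y⁻¹ := by
        have h4 : (u * y * u⁻¹)⁻¹ = u * y⁻¹ * u⁻¹ := by group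
        rw [h4]
        exact Subtype.ext (Core.isIrr_isClassFunction χ.2 y⁻¹ u)
      rw [h2, h3])
  have h1 : (∑ g ∈ Finset.univ.filter
      (· ∈ Subgroup.centralizer ((P : Subgroup G) : Set G)), f g) = f 1 := by
    rw [Finset.sum_eq_single 1]
    · intro g hg hg1
      rw [Finset.mem_filter] at hg
      simp only [hf]
      by_cases hgr : r ∣ orderOf g
      · rw [if_pos hgr]
      · exact absurd (hP g hg.2 hgr) hg1
    · intro h
      exact absurd (Finset.mem_filter.2 ⟨Finset.mem_univ _, one_mem _⟩) h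
  have h2 : f 1 = (((charDegree (χ : G → ℂ) : ℤ) ^ 2 - 1 : ℤ) : AlgInt) := by
    simp only [hf]
    rw [orderOf_one, if_neg (fun h => hr.one_lt.ne' (Nat.dvd_one.1 h)), inv_one]
    apply Subtype.ext
    push_cast
    rw [av_coe, ← charDegree_irr χ]
    ring
  have h3 : ∑ g : G, f g = (e : AlgInt) := by
    apply Subtype.ext
    push_cast
    have h4 : ((e : ℝ) : ℂ) = (((∑ g ∈ reg G r, Complex.normSq ((χ : G → ℂ) g))
        - (reg G r).card : ℝ) : ℂ) := by rw [he]
    rw [Complex.ofReal_intCast] at h4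
    rw [h4]
    push_cast
    have h5 : ∀ g : G, ((f g : AlgInt) : ℂ)
        = if r ∣ orderOf g then 0 else ((Complex.normSq ((χ : G → ℂ) g) : ℂ) - 1) := by
      intro g
      simp only [hf]
      by_cases hgr : r ∣ orderOf g
      · rw [if_pos hgr, if_pos hgr]
        rfl
      · rw [if_neg hgr, if_neg hgr]
        push_cast
        rw [av_coe, av_coe, Core.isCharacter_apply_inv (Core.isIrr_isCharacter χ.2),
          Complex.mul_conj]
    rw [Finset.sum_congr rfl fun g _ => h5 g]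
    have h6 : ∀ g : G, (if r ∣ orderOf g then (0 : ℂ) else ((Complex.normSq ((χ : G → ℂ) g) : ℂ) - 1))
        = if ¬ r ∣ orderOf g then ((Complex.normSq ((χ : G → ℂ) g) : ℂ) - 1) else 0 := by
      intro g
      by_cases hgr : r ∣ orderOf g
      · rw [if_pos hgr, if_neg (not_not.2 hgr)]
      · rw [if_neg hgr, if_pos hgr]
    rw [Finset.sum_congr rfl fun g _ => h6 g, ← Finset.sum_filter, Finset.sum_sub_distrib,
      Finset.sum_const, nsmul_eq_mul, mul_one]
    rfl
  rw [h1, h2, h3] at ha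
  rw [← int_mem_iff hr hM hrM]
  have h4 : ((e - ((charDegree (χ : G → ℂ) : ℤ) ^ 2 - 1) : ℤ) : AlgInt) = (r : AlgInt) * a := by
    rw [Int.cast_sub, ha, add_sub_cancel_left, nsmul_eq_mul]
  rw [h4]
  exact M.mul_mem_right _ hrM

/-- **The excess over the elements of order divisible by `r`.** -/
theorem exists_k {χ : IrrCharacter G} {x : G} (h : _root_.Cfsg.Agent.H732.VZ.One χ x) {r n m : ℕ} (hr : r.Prime)
    (hN : Nat.card G = r ^ n * m) (hm : ¬ r ∣ m) (hx : ¬ r ∣ orderOf x) :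
    ∃ k : ℕ, Ex χ (sing G r) (m * k) ∧
      (k = 0 → r ^ n ∣ charDegree (χ : G → ℂ) ^ 2 - 1) ∧
      ∀ P : Sylow r G, (∀ g ∈ Subgroup.centralizer ((P : Subgroup G) : Set G),
        ¬ r ∣ orderOf g → g = 1) → r ∣ m * k + (charDegree (χ : G → ℂ) ^ 2 - 1) := by
  classical
  have hd := one_lt_deg h
  have h1 : r ^ n ∣ Nat.card G := ⟨m, hN⟩
  have h2 : ¬ r ^ (n + 1) ∣ Nat.card G := by
    rw [hN, pow_succ]
    exact fun h => hm ((Nat.mul_dvd_mul_iff_left (pow_pos hr.pos n)).1 h)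
  obtain ⟨k', hk'⟩ := H733.OZ.sum_reg_sub χ hr h1 h2
  have hrpos : (0 : ℝ) < (r : ℝ) ^ n := by
    have := hr.pos
    positivity
  have hE : (∑ g ∈ reg G r, Complex.normSq ((χ : G → ℂ) g)) - (reg G r).card = (m : ℝ) * k' := by
    have h3 : ((r : ℝ) ^ n) * ((∑ g ∈ reg G r, Complex.normSq ((χ : G → ℂ) g)) - (reg G r).card)
        = (r : ℝ) ^ n * ((m : ℝ) * k') := by
      rw [hk', hN]
      push_cast
      ring
    exact mul_left_cancel₀ hrpos.ne' h3
  have hcomp : (reg G r)ᶜ = sing G r := by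
    ext g
    rw [Finset.mem_compl, mem_reg, mem_sing, not_not]
  have htot := H695.OneZero.sum_normSq χ
  rw [← Finset.sum_add_sum_compl (reg G r), hcomp] at htot
  have hcard : ((reg G r).card : ℝ) + (sing G r).card = Fintype.card G := by
    rw [← Nat.cast_add, ← hcomp, Finset.card_add_card_compl]
  have hsing0 : ∀ g ∈ sing G r, (χ : G → ℂ) g ≠ 0 := by
    intro g hg h0
    rw [mem_sing, ← orderOf_eq_of_conj (h.uniq g h0)] at hg
    exact hx hg
  have hlow := H695.OneZero.card_le χ (gal_sing r) hsing0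
  have hmpos : (0 : ℝ) < m := by
    have : m ≠ 0 := by
      rintro rfl
      exact hm (dvd_zero r)
    exact_mod_cast Nat.pos_of_ne_zero this
  have hk0 : k' ≤ 0 := by
    by_contra hcon
    rw [not_le] at hcon
    have : (0 : ℝ) < k' := by exact_mod_cast hcon
    have := mul_pos hmpos this
    linarith only [hE, htot, hcard, hlow, this]
  obtain ⟨k, hk⟩ : ∃ k : ℕ, k' = -(k : ℤ) := ⟨(-k').toNat, by omega⟩
  have hkr : (k' : ℝ) = -(k : ℝ) := by rw [hk]; push_cast; ring
  refine ⟨k, ⟨gal_sing r, hsing0, ?_⟩, ?_, ?_⟩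
  · push_cast
    rw [hkr] at hE
    linarith only [htot, hcard, hE]
  · rintro rfl
    refine pow_dvd_of hd hr h1 h2 fun g hg => ?_
    refine H733.OZ.normSq_eq_one_of_sum χ (gal_sing r) hsing0 ?_ (mem_sing.2 hg)
    rw [hkr] at hE
    norm_num at hE
    linarith only [htot, hcard, hE]
  · intro P hP
    have h3 := modEq (χ := χ) hr P hP (e := (m : ℤ) * k') (by
      rw [hE]
      push_cast
      ring)
    have h4 : 1 ≤ charDegree (χ : G → ℂ) ^ 2 := Nat.one_le_pow _ _ (by omega)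
    have h5 : ((m * k + (charDegree (χ : G → ℂ) ^ 2 - 1) : ℕ) : ℤ)
        = -((m : ℤ) * k' - ((charDegree (χ : G → ℂ) : ℤ) ^ 2 - 1)) := by
      rw [hk]
      push_cast [h4]
      ring
    rw [← Int.natCast_dvd_natCast, h5]
    exact (dvd_neg).2 h3

/-- the excess at the identity -/
theorem ex_one {χ : IrrCharacter G} {x : G} (h : _root_.Cfsg.Agent.H732.VZ.One χ x) :
    Ex χ ({1} : Finset G) (charDegree (χ : G → ℂ) ^ 2 - 1) := by
  classical
  have hd := one_lt_deg h
  refine ⟨fun g hg k _ => ?_, fun g hg => ?_, ?_⟩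
  · rw [Finset.mem_singleton] at hg ⊢
    rw [hg, one_pow]
  · rw [Finset.mem_singleton] at hg
    rw [hg, ← charDegree_irr χ]
    have : charDegree (χ : G → ℂ) ≠ 0 := by omega
    exact_mod_cast this
  · rw [Finset.card_singleton, Finset.sum_singleton, ← charDegree_irr χ, Complex.normSq_natCast]
    have h4 : 1 ≤ charDegree (χ : G → ℂ) ^ 2 := Nat.one_le_pow _ _ (by omega)
    push_cast [h4]
    linarith only []

/-- **The excess over the elements of order prime to `r`**, `x` of order divisible by `r`. -/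
theorem exists_reg_k {χ : IrrCharacter G} {x : G} (h : _root_.Cfsg.Agent.H732.VZ.One χ x) {r n m : ℕ} (hr : r.Prime)
    (hN : Nat.card G = r ^ n * m) (hm : ¬ r ∣ m) (hx : r ∣ orderOf x) :
    ∃ k : ℕ, 0 < k ∧ Ex χ (reg G r) (m * k) ∧
      ∀ P : Sylow r G, (∀ g ∈ Subgroup.centralizer ((P : Subgroup G) : Set G),
        ¬ r ∣ orderOf g → g = 1) →
        (r : ℤ) ∣ (m * k : ℕ) - ((charDegree (χ : G → ℂ) : ℤ) ^ 2 - 1) := by
  classical
  have hd := one_lt_deg h
  have h1 : r ^ n ∣ Nat.card G := ⟨m, hN⟩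
  have h2 : ¬ r ^ (n + 1) ∣ Nat.card G := by
    rw [hN, pow_succ]
    exact fun h => hm ((Nat.mul_dvd_mul_iff_left (pow_pos hr.pos n)).1 h)
  obtain ⟨k', hk'⟩ := H733.OZ.sum_reg_sub χ hr h1 h2
  have hrpos : (0 : ℝ) < (r : ℝ) ^ n := by
    have := hr.pos
    positivity
  have hE : (∑ g ∈ reg G r, Complex.normSq ((χ : G → ℂ) g)) - (reg G r).card = (m : ℝ) * k' := by
    have h3 : ((r : ℝ) ^ n) * ((∑ g ∈ reg G r, Complex.normSq ((χ : G → ℂ) g)) - (reg G r).card)
        = (r : ℝ) ^ n * ((m : ℝ) * k') := by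
      rw [hk', hN]
      push_cast
      ring
    exact mul_left_cancel₀ hrpos.ne' h3
  have hreg0 : ∀ g ∈ reg G r, (χ : G → ℂ) g ≠ 0 := by
    intro g hg h0
    rw [mem_reg, ← orderOf_eq_of_conj (h.uniq g h0)] at hg
    exact hg hx
  -- strictly positive
  have h1mem : (1 : G) ∈ reg G r := by
    rw [mem_reg, orderOf_one]
    exact fun h => hr.one_lt.ne' (Nat.dvd_one.1 h)
  have hgal1 : H695.OneZero.Gal ((reg G r).erase 1) := by
    intro g hg k hk
    rw [Finset.mem_erase] at hg ⊢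
    refine ⟨fun h1 => hg.1 ?_, gal_reg r g hg.2 k hk⟩
    rw [← orderOf_eq_one_iff, ← H733.OZ.orderOf_pow_of_coprime hk, h1, orderOf_one]
  have hlow := H695.OneZero.card_le χ hgal1 fun g hg => hreg0 g (Finset.mem_of_mem_erase hg)
  have hsplit := Finset.add_sum_erase (reg G r)
    (fun g => Complex.normSq ((χ : G → ℂ) g)) h1mem
  have hce : (((reg G r).erase 1).card : ℝ) + 1 = (reg G r).card := by
    have := Finset.card_erase_add_one h1mem
    exact_mod_cast this
  have hd2 : (1 : ℝ) < Complex.normSq ((χ : G → ℂ) 1) := by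
    rw [← charDegree_irr χ, Complex.normSq_natCast]
    have : (1 : ℝ) < charDegree (χ : G → ℂ) := by exact_mod_cast hd
    nlinarith only [this]
  have hmpos : (0 : ℝ) < m := by
    have : m ≠ 0 := by
      rintro rfl
      exact hm (dvd_zero r)
    exact_mod_cast Nat.pos_of_ne_zero this
  have hpos : (0 : ℝ) < (m : ℝ) * k' := by
    rw [← hE, ← hsplit]
    linarith only [hlow, hce, hd2]
  have hk0 : 0 < k' := by
    have : (0 : ℝ) < (k' : ℝ) := (pos_iff_pos_of_mul_pos hpos).1 hmpos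
    exact_mod_cast this
  obtain ⟨k, hk⟩ : ∃ k : ℕ, k' = (k : ℤ) := ⟨k'.toNat, by omega⟩
  have hkr : (k' : ℝ) = (k : ℝ) := by rw [hk]; push_cast; ring
  refine ⟨k, by omega, ⟨gal_reg r, hreg0, ?_⟩, ?_⟩
  · push_cast
    rw [hkr] at hE
    linarith only [hE]
  · intro P hP
    have h3 := modEq (χ := χ) hr P hP (e := (m : ℤ) * k') (by
      rw [hE]
      push_cast
      ring)
    rw [hk] at h3
    push_cast
    exact h3

end Fin

/-- disjointness -/
theorem sing_disjoint [Fintype G] [DecidableEq G] {r s : ℕ} (hrs : r.Coprime s)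
    (h : ∀ g : G, ¬ r * s ∣ orderOf g) : Disjoint (sing G r) (sing G s) := by
  rw [Finset.disjoint_left]
  intro g hg hg'
  rw [mem_sing] at hg hg'
  exact h g (hrs.mul_dvd_of_dvd_of_dvd hg hg')

/-- **Three primes.** -/
theorem three [Finite G] {χ : IrrCharacter G} {x : G} (h : _root_.Cfsg.Agent.H732.VZ.One χ x) {r₁ n₁ m₁ r₂ n₂ m₂ r₃ n₃ m₃ : ℕ}
    (hr₁ : r₁.Prime) (hN₁ : Nat.card G = r₁ ^ n₁ * m₁) (hm₁ : ¬ r₁ ∣ m₁) (hx₁ : ¬ r₁ ∣ orderOf x)
    (hr₂ : r₂.Prime) (hN₂ : Nat.card G = r₂ ^ n₂ * m₂) (hm₂ : ¬ r₂ ∣ m₂) (hx₂ : ¬ r₂ ∣ orderOf x)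
    (hr₃ : r₃.Prime) (hN₃ : Nat.card G = r₃ ^ n₃ * m₃) (hm₃ : ¬ r₃ ∣ m₃) (hx₃ : ¬ r₃ ∣ orderOf x)
    (h12 : r₁.Coprime r₂) (h13 : r₁.Coprime r₃) (h23 : r₂.Coprime r₃)
    (hd12 : ∀ g : G, ¬ r₁ * r₂ ∣ orderOf g) (hd13 : ∀ g : G, ¬ r₁ * r₃ ∣ orderOf g)
    (hd23 : ∀ g : G, ¬ r₂ * r₃ ∣ orderOf g)
    (P : Sylow r₁ G) (hP : ∀ g ∈ Subgroup.centralizer ((P : Subgroup G) : Set G),
      ¬ r₁ ∣ orderOf g → g = 1) :
    ∃ k₁ k₂ k₃ : ℕ, cent x * (m₁ * k₁ + m₂ * k₂ + m₃ * k₃ + (charDegree (χ : G → ℂ) ^ 2 - 1))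
        ≤ Nat.card G ∧
      (k₁ = 0 → r₁ ^ n₁ ∣ charDegree (χ : G → ℂ) ^ 2 - 1) ∧
      (k₂ = 0 → r₂ ^ n₂ ∣ charDegree (χ : G → ℂ) ^ 2 - 1) ∧
      (k₃ = 0 → r₃ ^ n₃ ∣ charDegree (χ : G → ℂ) ^ 2 - 1) ∧
      r₁ ∣ m₁ * k₁ + (charDegree (χ : G → ℂ) ^ 2 - 1) := by
  classical
  have := Fintype.ofFinite G
  obtain ⟨k₁, e₁, z₁, c₁⟩ := exists_k h hr₁ hN₁ hm₁ hx₁
  obtain ⟨k₂, e₂, z₂, -⟩ := exists_k h hr₂ hN₂ hm₂ hx₂
  obtain ⟨k₃, e₃, z₃, -⟩ := exists_k h hr₃ hN₃ hm₃ hx₃
  refine ⟨k₁, k₂, k₃, ?_, z₁, z₂, z₃, c₁ P hP⟩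
  have h1 : ∀ r : ℕ, r.Prime → Disjoint (sing G r) ({1} : Finset G) := by
    intro r hr
    rw [Finset.disjoint_singleton_right, mem_sing, orderOf_one]
    exact fun h => hr.one_lt.ne' (Nat.dvd_one.1 h)
  have hA := e₁.union e₂ (sing_disjoint h12 hd12)
  have hB := hA.union e₃ (by
    rw [Finset.disjoint_union_left]
    exact ⟨sing_disjoint h13 hd13, sing_disjoint h23 hd23⟩)
  have hC := hB.union (ex_one h) (by
    rw [Finset.disjoint_union_left, Finset.disjoint_union_left]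
    exact ⟨⟨h1 _ hr₁, h1 _ hr₂⟩, h1 _ hr₃⟩)
  have hD := hC.mul_le h
  rw [mul_comm]
  exact hD

/-- **One prime, `x` singular.** -/
theorem one_sing [Finite G] {χ : IrrCharacter G} {x : G} (h : _root_.Cfsg.Agent.H732.VZ.One χ x) {r n m : ℕ}
    (hr : r.Prime) (hN : Nat.card G = r ^ n * m) (hm : ¬ r ∣ m) (hx : r ∣ orderOf x)
    (P : Sylow r G) (hP : ∀ g ∈ Subgroup.centralizer ((P : Subgroup G) : Set G),
      ¬ r ∣ orderOf g → g = 1) :
    ∃ k : ℕ, 0 < k ∧ cent x * (m * k) ≤ Nat.card G ∧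
      (r : ℤ) ∣ (m * k : ℕ) - ((charDegree (χ : G → ℂ) : ℤ) ^ 2 - 1) := by
  classical
  have := Fintype.ofFinite G
  obtain ⟨k, hk, he, hc⟩ := exists_reg_k h hr hN hm hx
  refine ⟨k, hk, ?_, hc P hP⟩
  rw [mul_comm]
  exact he.mul_le h

end Cfsg.Agent.H678.OZ
end

-- part: H678/OZ/DefectOne
section
/-!
# One vanishing class: degrees divisible by `p` exactly once, `|G|_p = p²`

`h : One χ x`.  If `p ^ 2 = |G|_p` and `p ∣ χ(1)` the block of `χ` has defect at most one
(`blockDefect_le_one`), hence `χ` vanishes on the sections of all but one class of subgroups of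
order `p` (`not_dvd_of_two`).
-/

set_option autoImplicit false

open Cfsg Cfsg.Agent.Characters Cfsg.Agent.H686.CharKit Cfsg.Agent.H732.VZ
open Cfsg.Agent.H604.OZ (cent ne_one one_lt_deg orderOf_eq_of_conj)

namespace Cfsg.Agent.H678.OZ

universe u

variable {G : Type u} [Group G] [Finite G]

/-- `|G|_p = p ^ 2` and `p ∣ χ(1)`: the defect is at most one. -/
theorem blockDefect_le_one {p : ℕ} [hpf : Fact p.Prime] {M : Ideal AlgInt} (hM : IsPModular p M)
    (χ : IrrCharacter G) (h2 : (Nat.card G).factorization p = 2)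
    (hd : p ∣ charDegree (χ : G → ℂ)) : blockDefect p (blockOf M (χ : G → ℂ)) ≤ 1 := by
  have hB : IsPBlock M (blockOf M (χ : G → ℂ)) := ⟨χ, rfl⟩
  have hprime : M.IsPrime := hM.2.1.isPrime
  have hχB : χ ∈ blockOf M (χ : G → ℂ) := Blocks.Basic.mem_blockOf_self χ
  by_contra hlt
  rw [not_le] at hlt
  have h3 := ((S4710.result p M hM _ hB _ rfl).2 χ hχB).2 hlt
  unfold blockDefect at h3 hlt
  unfold blockHeight at h3
  rw [h2] at h3 hlt
  have h4 : 1 ≤ (charDegree (χ : G → ℂ)).factorization p :=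
    (hpf.out.dvd_iff_one_le_factorization (charDegree_pos χ).ne').1 hd
  omega

/-- Two elements of the block's defect groups of order at most `p`. -/
theorem card_cent_eq {p : ℕ} [hpf : Fact p.Prime] {M : Ideal AlgInt} (hM : IsPModular p M)
    {B : Set (IrrCharacter G)} (hB : IsPBlock M B) (hdef : blockDefect p B ≤ 1)
    {D₁ D₂ : Subgroup G} (hD₁ : IsDefectGroup p M B D₁) (hD₂ : IsDefectGroup p M B D₂)
    {y₁ y₂ : G} (h₁ : y₁ ∈ D₁) (h₂ : y₂ ∈ D₂) (o₁ : orderOf y₁ = p) (o₂ : orderOf y₂ = p) :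
    cent y₁ = cent y₂ := by
  have hp := hpf.out
  -- the defect groups are generated by `y₁`, `y₂`
  have hgen : ∀ (D : Subgroup G), IsDefectGroup p M B D → ∀ y ∈ D, orderOf y = p →
      Subgroup.zpowers y = D := by
    intro D hD y hy ho
    refine Subgroup.eq_of_le_of_card_ge (by rwa [Subgroup.zpowers_le]) ?_
    rw [S0908.result p M hM B hB D hD, Nat.card_zpowers, ho]
    calc p ^ blockDefect p B ≤ p ^ 1 := Nat.pow_le_pow_right hp.pos hdef
      _ = p := pow_one p
  have hg₁ := hgen D₁ hD₁ y₁ h₁ o₁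
  have hg₂ := hgen D₂ hD₂ y₂ h₂ o₂
  -- conjugacy
  have hP₁ := Blocks.Basic.isPGroup_of_isDefectGroup hD₁
  have hex := (S0959.result p M hM B hB D₁ hD₁ D₁ hP₁).2 ⟨1, by
    rintro _ ⟨w, hw, rfl⟩
    simpa using hw⟩
  obtain ⟨g, hg⟩ := (S0959.result p M hM B hB D₂ hD₂ D₁ hP₁).1 hex
  have hgy : g * y₁ * g⁻¹ ∈ D₂ := by
    refine hg (Subgroup.mem_map.2 ⟨y₁, h₁, ?_⟩)
    simp [MulAut.conj_apply]
  have horder : orderOf (g * y₁ * g⁻¹) = p := by
    have := (MulAut.conj g).orderOf_eq y₁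
    rw [MulAut.conj_apply] at this
    rw [this, o₁]
  have hz : Subgroup.zpowers (g * y₁ * g⁻¹) = Subgroup.zpowers y₂ := by
    rw [hgen D₂ hD₂ _ hgy horder, hg₂]
  -- centralizers
  have hcen : Subgroup.centralizer ({g * y₁ * g⁻¹} : Set G) = Subgroup.centralizer ({y₂} : Set G) := by
    rw [← Subgroup.centralizer_closure, ← Subgroup.zpowers_eq_closure, hz,
      Subgroup.zpowers_eq_closure, Subgroup.centralizer_closure]
  have hconj : cent (g * y₁ * g⁻¹) = cent y₁ := by
    unfold cent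
    refine Nat.card_congr ⟨fun c => ⟨g⁻¹ * c * g, ?_⟩, fun c => ⟨g * c * g⁻¹, ?_⟩, ?_, ?_⟩
    · have h3 := Subgroup.mem_centralizer_singleton_iff.1 c.2
      rw [Subgroup.mem_centralizer_singleton_iff]
      calc g⁻¹ * (c : G) * g * y₁ = g⁻¹ * ((c : G) * (g * y₁ * g⁻¹)) * g := by group
        _ = g⁻¹ * ((g * y₁ * g⁻¹) * (c : G)) * g := by rw [h3]
        _ = y₁ * (g⁻¹ * (c : G) * g) := by group
    · have h3 := Subgroup.mem_centralizer_singleton_iff.1 c.2
      rw [Subgroup.mem_centralizer_singleton_iff]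
      calc g * (c : G) * g⁻¹ * (g * y₁ * g⁻¹) = g * ((c : G) * y₁) * g⁻¹ := by group
        _ = g * (y₁ * (c : G)) * g⁻¹ := by rw [h3]
        _ = g * y₁ * g⁻¹ * (g * (c : G) * g⁻¹) := by group
    · intro c
      apply Subtype.ext
      change g * (g⁻¹ * (c : G) * g) * g⁻¹ = c
      group
    · intro c
      apply Subtype.ext
      change g⁻¹ * (g * (c : G) * g⁻¹) * g = c
      group
  rw [← hconj]
  unfold cent
  rw [hcen]

/-- **The degree is prime to `p`** if `|G|_p = p ^ 2` and two elements of order `p` have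
centralizers of different orders which are not `p`-groups. -/
theorem not_dvd_of_two {χ : IrrCharacter G} {x : G} (h : _root_.Cfsg.Agent.H732.VZ.One χ x) {p : ℕ} (hp : p.Prime)
    (h1 : p ^ 2 ∣ Nat.card G) (h2 : ¬ p ^ 3 ∣ Nat.card G) {y₁ y₂ u₁ u₂ : G}
    (o₁ : orderOf y₁ = p) (o₂ : orderOf y₂ = p) (hne : cent y₁ ≠ cent y₂)
    (c₁ : Commute y₁ u₁) (c₂ : Commute y₂ u₂) (hu₁ : u₁ ≠ 1) (hu₂ : u₂ ≠ 1)
    (hp₁ : ¬ p ∣ orderOf u₁) (hp₂ : ¬ p ∣ orderOf u₂) : ¬ p ∣ charDegree (χ : G → ℂ) := by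
  intro hd
  have hpf : Fact p.Prime := ⟨hp⟩
  obtain ⟨M, hM⟩ := Blocks.ExistsModular.exists_isPModular hp
  have hfac : (Nat.card G).factorization p = 2 := by
    have hN : Nat.card G ≠ 0 := Nat.card_pos.ne'
    have h3 := (hp.pow_dvd_iff_le_factorization hN).1 h1
    have h4 := (hp.pow_dvd_iff_le_factorization hN).not.1 h2
    omega
  have hB : IsPBlock M (blockOf M (χ : G → ℂ)) := ⟨χ, rfl⟩
  have hdef := blockDefect_le_one hM χ hfac hd
  -- one of the two elements lies in no defect group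
  have hout : ∀ y u : G, orderOf y = p → Commute y u → u ≠ 1 → ¬ p ∣ orderOf u →
      (∀ D : Subgroup G, IsDefectGroup p M (blockOf M (χ : G → ℂ)) D → y ∉ D) → False := by
    intro y u ho hc hu hpu hD
    have hz1 : (χ : G → ℂ) y = 0 := S0924.result p M hM χ y y
      ⟨1, mul_one y, Commute.one_right y, ⟨1, by rw [ho, pow_one]⟩, by
        rw [orderOf_one]; exact fun h => hp.one_lt.ne' (Nat.dvd_one.1 h)⟩ hD
    have hz2 : (χ : G → ℂ) (y * u) = 0 := S0924.result p M hM χ (y * u) y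
      ⟨u, rfl, hc, ⟨1, by rw [ho, pow_one]⟩, hpu⟩ hD
    have hcj := (h.uniq y hz1).symm.trans (h.uniq _ hz2)
    have ho2 := orderOf_eq_of_conj hcj
    rw [hc.orderOf_mul_eq_mul_orderOf_of_coprime (by
      rw [ho]; exact (Nat.Prime.coprime_iff_not_dvd hp).2 hpu), ho] at ho2
    have : orderOf u = 1 := by
      have hpos := hp.pos
      linarith only [Nat.eq_of_mul_eq_mul_left hpos (show p * 1 = p * orderOf u by rw [mul_one]; exact ho2)]
    exact hu (orderOf_eq_one_iff.1 this)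
  by_cases hy : ∃ D : Subgroup G, IsDefectGroup p M (blockOf M (χ : G → ℂ)) D ∧ y₁ ∈ D
  · obtain ⟨D₁, hD₁, hm₁⟩ := hy
    by_cases hy' : ∃ D : Subgroup G, IsDefectGroup p M (blockOf M (χ : G → ℂ)) D ∧ y₂ ∈ D
    · obtain ⟨D₂, hD₂, hm₂⟩ := hy'
      exact hne (card_cent_eq hM hB hdef hD₁ hD₂ hm₁ hm₂ o₁ o₂)
    · push Not at hy'
      exact hout y₂ u₂ o₂ c₂ hu₂ hp₂ hy'
  · push Not at hy
    exact hout y₁ u₁ o₁ c₁ hu₁ hp₁ hy

end Cfsg.Agent.H678.OZ
end

-- part: H678/OZ/CoOneAbs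
section
/-!
# S4842, the row of `Co1`: the arithmetic (helper678)

`h : One χ x`, `c = |C(x)| ≥ 9`, `d = χ(1)`, `N = |Co1|`.

* `11`, `13`, `23` and the full powers of `2`, `3`, `5` do not divide `d`, `d ≡ ± 1` modulo `23`, and `7 ∤ d` by blocks
  of defect one;
* the excesses of the elements of order divisible by `7`, `11`, `13` are disjoint: `d = 14745600`;
* then `2 ^ 13` divides the value at a dodecad involution.
-/

set_option autoImplicit false
set_option maxRecDepth 100000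

open Cfsg Cfsg.Agent.Characters Cfsg.Agent.H686.CharKit Cfsg.Agent.H732.VZ Cfsg.Agent.H604.OZ

namespace Cfsg.Agent.H678.OZ.CoOne

universe u

/-! ### the Boolean tests -/

/-- the test for `x` of order prime to `7` -/
def tA (d : ℕ) : Bool :=
  (List.range 6).any fun a => (List.range 2).any fun b => (List.range 2).any fun c =>
    Nat.ble (9 * (84852587888640000 * a + 377979709685760000 * b + 319828985118720000 * c + (d ^ 2 - 1)))
      4157776806543360000 &&
    ((!(Nat.beq a 0) || Nat.beq ((d ^ 2 - 1) % 49) 0) && ((!(Nat.beq b 0) || Nat.beq ((d ^ 2 - 1) % 11) 0) &&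
    ((!(Nat.beq c 0) || Nat.beq ((d ^ 2 - 1) % 13) 0) && Nat.beq ((84852587888640000 * a + (d ^ 2 - 1)) % 7) 0)))

/-- the test for `x` of order divisible by `7` -/
def tB (d : ℕ) : Bool :=
  Nat.ble (14 * (d ^ 2 - 1)) 4157776806543360000 && (Nat.beq ((d ^ 2 - 1) % 11) 0 &&
    (Nat.beq ((d ^ 2 - 1) % 13) 0 && (List.range 4).any fun k => !(Nat.beq k 0) &&
      Nat.beq ((84852587888640000 * k) % 7) ((d ^ 2 - 1) % 7)))

/-- the common test -/
def tC (d : ℕ) : Bool :=
  Nat.blt 1 d && ((Nat.beq (d % 23) 1 || Nat.beq (d % 23) 22) && (!(Nat.beq (d % 2 ^ 21) 0) &&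
    (!(Nat.beq (d % 3 ^ 9) 0) && !(Nat.beq (d % 5 ^ 4) 0))))

def l : List (ℕ × ℕ) := [(2, 21), (3, 9), (5, 4)]

theorem l_prime : ∀ y ∈ l, y.1.Prime := by
  intro y hy
  simp only [l, List.mem_cons, List.not_mem_nil, or_false] at hy
  rcases hy with rfl | rfl | rfl <;> norm_num

theorem l_val : H417.Divs.val l = 2 ^ 21 * 3 ^ 9 * 5 ^ 4 := by
  simp [H417.Divs.val, l]

theorem checkA : ((H417.Divs.divs l).all fun d => !(tC d && tA d) || Nat.beq d 14745600) = true := by decide +kernel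

theorem checkB : ((H417.Divs.divs l).all fun d => !(tC d && tB d)) = true := by decide +kernel

/-! ### the passage to the tests -/

/-- the hypotheses on the group -/
structure Data (G : Type u) [Group G] [Finite G] : Prop where
  simple : IsSimpleGroup G
  card : Nat.card G = 4157776806543360000
  c11 : ∀ z : G, orderOf z = 11 → cent z = 66
  c13 : ∀ z : G, orderOf z = 13 → ¬ 7 ∣ cent z
  c23 : ∀ z : G, orderOf z = 23 → cent z = 23
  two7 : ∃ y₁ y₂ : G, orderOf y₁ = 7 ∧ orderOf y₂ = 7 ∧ cent y₁ = 17640 ∧ cent y₂ = 1176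
  syl7 : ∃ P : Sylow 7 G, ∀ g ∈ Subgroup.centralizer ((P : Subgroup G) : Set G), ¬ 7 ∣ orderOf g → g = 1
  dod : ∃ t : G, orderOf t = 2 ∧ cent t = 389283840
  two_le : ∀ x : G, x ≠ 1 → (∃ k, orderOf x = 2 ^ k) → 9 ≤ cent x
  not_six : ∀ x : G, cent x ≠ 6

variable {G : Type u} [Group G] [Finite G]

omit [Finite G] in
theorem orderOf_dvd_cent (x : G) : orderOf x ∣ cent x := by
  have h : x ∈ Subgroup.centralizer ({x} : Set G) := Subgroup.mem_centralizer_singleton_iff.2 rfl
  exact Subgroup.orderOf_dvd_natCard _ h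

/-- a prime dividing the order of an element -/
theorem exists_pow_order (g : G) {p : ℕ} (h : p ∣ orderOf g) :
    ∃ k : ℕ, orderOf (g ^ k) = p := by
  obtain ⟨k, hk⟩ := h
  have hk0 : k ≠ 0 := by
    rintro rfl
    rw [mul_zero] at hk
    exact (orderOf_pos g).ne' hk
  refine ⟨k, ?_⟩
  rw [orderOf_pow, hk, Nat.gcd_eq_right (Dvd.intro_left p rfl), Nat.mul_div_cancel _ (Nat.pos_of_ne_zero hk0)]

omit [Finite G] in
/-- an element commutes with its powers: `orderOf g ∣ cent (g ^ k)` -/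
theorem orderOf_dvd_cent_pow (g : G) (k : ℕ) : orderOf g ∣ cent (g ^ k) := by
  have h : g ∈ Subgroup.centralizer ({g ^ k} : Set G) :=
    Subgroup.mem_centralizer_singleton_iff.2 (Commute.self_pow g k)
  exact Subgroup.orderOf_dvd_natCard _ h

theorem Data.no_77 (D : Data G) (g : G) : ¬ 7 * 11 ∣ orderOf g := by
  intro h
  obtain ⟨k, hk⟩ := exists_pow_order g (p := 11) ((Dvd.intro_left 7 rfl).trans h)
  have h1 := h.trans (orderOf_dvd_cent_pow g k)
  rw [D.c11 _ hk] at h1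
  norm_num at h1

theorem Data.no_143 (D : Data G) (g : G) : ¬ 11 * 13 ∣ orderOf g := by
  intro h
  obtain ⟨k, hk⟩ := exists_pow_order g (p := 11) ((Dvd.intro 13 rfl).trans h)
  have h1 := h.trans (orderOf_dvd_cent_pow g k)
  rw [D.c11 _ hk] at h1
  norm_num at h1

theorem Data.no_91 (D : Data G) (g : G) : ¬ 7 * 13 ∣ orderOf g := by
  intro h
  obtain ⟨k, hk⟩ := exists_pow_order g (p := 13) ((Dvd.intro_left 7 rfl).trans h)
  have h1 := h.trans (orderOf_dvd_cent_pow g k)
  exact D.c13 _ hk ((Dvd.intro 13 rfl).trans h1)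

/-- the centralizer of an element of order `13` has order different from `13` -/
theorem Data.lt_13 (D : Data G) {z : G} (hz : orderOf z = 13) : 13 < cent z := by
  have hs := D.simple
  have hN := D.card
  have hp : Nat.Prime 13 := by norm_num
  have h1 : 13 ∣ cent z := hz ▸ orderOf_dvd_cent z
  have hpos : 0 < cent z := Nat.card_pos
  rcases Nat.lt_or_ge 13 (cent z) with h | h
  · exact h
  exfalso
  have h2 : cent z = 13 := by omega
  obtain ⟨e, he1, -, he3, he4, -⟩ := H547.SelfCent.arith hp hz (by rw [hN]; norm_num)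
  have h3 : Nat.card (Subgroup.centralizer ({z} : Set G)) = 13 := h2
  rw [h3, hN] at he3
  have he : e ∈ Nat.divisors 12 := Nat.mem_divisors.2 ⟨he1, by norm_num⟩
  have key : ∀ e ∈ Nat.divisors 12, 4157776806543360000 / (13 * e) % 13 = 1 % 13 → e = 1 := by decide +kernel
  have he5 := key e he he3
  rw [he5, mul_one] at he4
  exact H547.SelfCent.not_norm_le hp hz (by rw [hN]; norm_num) (by rw [hN]; norm_num) he4

/-- **`9 ≤ |C(x)|`.** -/
theorem Data.nine_le (D : Data G) {χ : IrrCharacter G} {x : G} (h : _root_.Cfsg.Agent.H732.VZ.One χ x) : 9 ≤ cent x := by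
  have hN := D.card
  have h4 : 4 ≤ cent x := four_le_cent h (by rw [hN]; norm_num) (by rw [hN]; norm_num)
  have hx1 : x ≠ 1 := ne_one h
  by_contra hlt
  have h5 : cent x ≠ 5 := fun h5 => cent_prime hx1 (by rw [h5]; norm_num) (by rw [h5, hN]; norm_num)
  have h7 : cent x ≠ 7 := fun h7 => cent_prime hx1 (by rw [h7]; norm_num) (by rw [h7, hN]; norm_num)
  have h6 := D.not_six x
  have h48 : cent x = 4 ∨ cent x = 8 := by omega
  have ho := orderOf_dvd_cent x
  apply hlt
  apply D.two_le x hx1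
  rcases h48 with h8 | h8
  · rw [h8] at ho
    obtain ⟨k, -, hk⟩ := (Nat.dvd_prime_pow Nat.prime_two (m := 2)).1 (by simpa using ho)
    exact ⟨k, hk⟩
  · rw [h8] at ho
    obtain ⟨k, -, hk⟩ := (Nat.dvd_prime_pow Nat.prime_two (m := 3)).1 (by simpa using ho)
    exact ⟨k, hk⟩

/-- `x` is `p`-regular if `p ∥ N`, `p < |C(z)|` for an element `z` of order `p` -/
theorem not_dvd_order [IsSimpleGroup G] {χ : IrrCharacter G} {x : G} (h : _root_.Cfsg.Agent.H732.VZ.One χ x) {p : ℕ} (hp : p.Prime) (h1 : p ∣ Nat.card G)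
    (h2 : ¬ p ^ 2 ∣ Nat.card G) (hC : ∀ z : G, orderOf z = p → p < cent z) : ¬ p ∣ orderOf x := by
  rcases Nat.lt_or_ge p (cent x) with hlt | hge
  · exact H733.OZ.not_dvd_orderOf h hp (n := 1) (by rwa [pow_one]) h2 (by rwa [pow_one])
  · have hF : Fact p.Prime := ⟨hp⟩
    obtain ⟨z, hz⟩ := exists_prime_orderOf_dvd_card' p h1
    exact H849.OZ.not_dvd_of_le hp h2 hz (hC z hz) hge

/-- the common test -/
theorem Data.tC (D : Data G) {χ : IrrCharacter G} {x : G} (h : _root_.Cfsg.Agent.H732.VZ.One χ x) :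
    tC (charDegree (χ : G → ℂ)) = true := by
  have hs := D.simple
  have hN := D.card
  have h9 := D.nine_le h
  have hd := one_lt_deg h
  have h23 := H672.OZ.iso_mod (p := 23) h (by norm_num) (by norm_num) (by rw [hN]; norm_num) (by rw [hN]; norm_num)
    (by rw [hN]; norm_num) (fun y hy => D.c23 y hy) (by omega)
  have f23 := H672.OZ.not_full (r := 23) (n := 1) h (by norm_num) (by norm_num) (by rw [hN]; norm_num)
    (by rw [hN]; norm_num) (by rw [hN]; norm_num)
  have f2 := H672.OZ.not_full (r := 2) (n := 21) h (by norm_num) (by norm_num) (by rw [hN]; norm_num)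
    (by rw [hN]; norm_num) (by rw [hN]; norm_num)
  have f3 := H672.OZ.not_full (r := 3) (n := 9) h (by norm_num) (by norm_num) (by rw [hN]; norm_num)
    (by rw [hN]; norm_num) (by rw [hN]; norm_num)
  have f5 := H672.OZ.not_full (r := 5) (n := 4) h (by norm_num) (by norm_num) (by rw [hN]; norm_num)
    (by rw [hN]; norm_num) (by rw [hN]; norm_num)
  generalize charDegree (χ : G → ℂ) = d at *
  rw [pow_one] at f23
  unfold CoOne.tC
  simp only [Bool.and_eq_true, Bool.or_eq_true, Bool.not_eq_true', Nat.blt_eq, Nat.beq_eq]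
  refine ⟨by simpa using hd, ?_, ?_, ?_, ?_⟩
  · rcases h23 with h1 | h1 | h1
    · exact absurd (Nat.dvd_of_mod_eq_zero h1) f23
    · exact Or.inl h1
    · exact Or.inr h1
  · exact Bool.eq_false_iff.2 fun h => f2 (Nat.dvd_of_mod_eq_zero (Nat.eq_of_beq_eq_true h))
  · exact Bool.eq_false_iff.2 fun h => f3 (Nat.dvd_of_mod_eq_zero (Nat.eq_of_beq_eq_true h))
  · exact Bool.eq_false_iff.2 fun h => f5 (Nat.dvd_of_mod_eq_zero (Nat.eq_of_beq_eq_true h))

/-- the degree is a `{2, 3, 5}`-number -/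
theorem Data.dvd (D : Data G) {χ : IrrCharacter G} {x : G} (h : _root_.Cfsg.Agent.H732.VZ.One χ x) :
    charDegree (χ : G → ℂ) ∣ 2 ^ 21 * 3 ^ 9 * 5 ^ 4 := by
  have hs := D.simple
  have hN := D.card
  have h9 := D.nine_le h
  have f23 := H672.OZ.not_full (r := 23) (n := 1) h (by norm_num) (by norm_num) (by rw [hN]; norm_num)
    (by rw [hN]; norm_num) (by rw [hN]; norm_num)
  have f11 := H672.OZ.not_full (r := 11) (n := 1) h (by norm_num) (by norm_num) (by rw [hN]; norm_num)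
    (by rw [hN]; norm_num) (by rw [hN]; norm_num)
  have f13 := H672.OZ.not_full (r := 13) (n := 1) h (by norm_num) (by norm_num) (by rw [hN]; norm_num)
    (by rw [hN]; norm_num) (by rw [hN]; norm_num)
  obtain ⟨y₁, y₂, o₁, o₂, c₁, c₂⟩ := D.two7
  have hu : ∀ y : G, 2 ∣ cent y → ∃ u : G, Commute y u ∧ u ≠ 1 ∧ ¬ 7 ∣ orderOf u := by
    intro y hy
    have hF : Fact (Nat.Prime 2) := ⟨Nat.prime_two⟩
    obtain ⟨u, hu⟩ := exists_prime_orderOf_dvd_card' (G := Subgroup.centralizer ({y} : Set G)) 2 hy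
    have hu' : orderOf (u : G) = 2 := by rw [Subgroup.orderOf_coe, hu]
    refine ⟨u, (Subgroup.mem_centralizer_singleton_iff.1 u.2).symm, ?_, ?_⟩
    · intro h1
      rw [h1, orderOf_one] at hu'
      norm_num at hu'
    · rw [hu']; norm_num
  obtain ⟨u₁, a₁, b₁, e₁⟩ := hu y₁ (by rw [c₁]; norm_num)
  obtain ⟨u₂, a₂, b₂, e₂⟩ := hu y₂ (by rw [c₂]; norm_num)
  have f7 := not_dvd_of_two h (p := 7) (by norm_num) (by rw [hN]; norm_num) (by rw [hN]; norm_num) o₁ o₂
    (by rw [c₁, c₂]; norm_num) a₁ a₂ b₁ b₂ e₁ e₂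
  have hdvd := deg_dvd χ
  rw [hN] at hdvd
  generalize charDegree (χ : G → ℂ) = d at *
  have key : ∀ p : ℕ, p.Prime → ¬ p ∣ d → d.Coprime p := fun p hp h => ((Nat.Prime.coprime_iff_not_dvd hp).2 h).symm
  have hcop : d.Coprime (7 ^ 2 * 11 * 13 * 23) := by
    refine Nat.Coprime.mul_right (Nat.Coprime.mul_right (Nat.Coprime.mul_right ?_ ?_) ?_) ?_
    · exact Nat.Coprime.pow_right 2 (key 7 (by norm_num) f7)
    · exact key 11 (by norm_num) (by simpa using f11)
    · exact key 13 (by norm_num) (by simpa using f13)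
    · exact key 23 (by norm_num) (by simpa using f23)
  refine hcop.dvd_of_dvd_mul_right (hdvd.trans (dvd_of_eq ?_))
  norm_num

/-- **`x` of order prime to seven.** -/
theorem Data.deg (D : Data G) {χ : IrrCharacter G} {x : G} (h : _root_.Cfsg.Agent.H732.VZ.One χ x) (hx7 : ¬ 7 ∣ orderOf x) :
    charDegree (χ : G → ℂ) = 14745600 := by
  have hs := D.simple
  have hN := D.card
  have h9 := D.nine_le h
  have hx11 : ¬ 11 ∣ orderOf x := not_dvd_order h (by norm_num) (by rw [hN]; norm_num) (by rw [hN]; norm_num)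
    (fun z hz => by rw [D.c11 z hz]; norm_num)
  have hx13 : ¬ 13 ∣ orderOf x := not_dvd_order h (by norm_num) (by rw [hN]; norm_num) (by rw [hN]; norm_num)
    (fun z hz => D.lt_13 hz)
  obtain ⟨P, hP⟩ := D.syl7
  obtain ⟨a, b, c, h1, ha, hb, hc, h2⟩ := three h (r₁ := 7) (n₁ := 2) (m₁ := 84852587888640000)
    (r₂ := 11) (n₂ := 1) (m₂ := 377979709685760000) (r₃ := 13) (n₃ := 1) (m₃ := 319828985118720000)
    (by norm_num) (by rw [hN]; norm_num) (by norm_num) hx7
    (by norm_num) (by rw [hN]; norm_num) (by norm_num) hx11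
    (by norm_num) (by rw [hN]; norm_num) (by norm_num) hx13
    (by norm_num) (by norm_num) (by norm_num) D.no_77 D.no_91 D.no_143 P hP
  have hC := D.tC h
  have hdv := D.dvd h
  rw [hN] at h1
  generalize charDegree (χ : G → ℂ) = d at *
  have h3 := (Nat.mul_le_mul_right _ h9).trans h1
  have ha6 : a < 6 := by
    by_contra hcon
    (clear * - h3 hcon; omega)
  have hb2 : b < 2 := by
    by_contra hcon
    (clear * - h3 hcon; omega)
  have hc2 : c < 2 := by
    by_contra hcon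
    (clear * - h3 hcon; omega)
  have hA : tA d = true := by
    unfold tA
    rw [List.any_eq_true]
    refine ⟨a, List.mem_range.2 ha6, ?_⟩
    rw [List.any_eq_true]
    refine ⟨b, List.mem_range.2 hb2, ?_⟩
    rw [List.any_eq_true]
    refine ⟨c, List.mem_range.2 hc2, ?_⟩
    rw [Bool.and_eq_true, Bool.and_eq_true, Bool.and_eq_true, Bool.and_eq_true]
    refine ⟨?_, ?_, ?_, ?_, ?_⟩
    · rw [Nat.ble_eq]; exact h3
    · rcases Nat.eq_zero_or_pos a with h0 | h0
      · have := Nat.mod_eq_zero_of_dvd (ha h0)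
        rw [h0, show (49 : ℕ) = 7 ^ 2 by norm_num, this]; rfl
      · have : Nat.beq a 0 = false := Bool.eq_false_iff.2 fun h => h0.ne' (Nat.eq_of_beq_eq_true h)
        rw [this]; rfl
    · rcases Nat.eq_zero_or_pos b with h0 | h0
      · have := Nat.mod_eq_zero_of_dvd (hb h0)
        rw [pow_one] at this
        rw [h0, this]; rfl
      · have : Nat.beq b 0 = false := Bool.eq_false_iff.2 fun h => h0.ne' (Nat.eq_of_beq_eq_true h)
        rw [this]; rfl
    · rcases Nat.eq_zero_or_pos c with h0 | h0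
      · have := Nat.mod_eq_zero_of_dvd (hc h0)
        rw [pow_one] at this
        rw [h0, this]; rfl
      · have : Nat.beq c 0 = false := Bool.eq_false_iff.2 fun h => h0.ne' (Nat.eq_of_beq_eq_true h)
        rw [this]; rfl
    · rw [Nat.mod_eq_zero_of_dvd h2]; rfl
  have h4 := H417.Divs.all_divs l l_prime l_val checkA hdv
  simp only [hC, hA] at h4
  exact Nat.eq_of_beq_eq_true (by simpa using h4)

/-- **`x` of order divisible by seven.** -/
theorem Data.not_seven (D : Data G) {χ : IrrCharacter G} {x : G} (h : _root_.Cfsg.Agent.H732.VZ.One χ x) (hx7 : 7 ∣ orderOf x) : False := by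
  have hN := D.card
  have h9 := D.nine_le h
  have h14 : 14 ≤ cent x := by
    have h1 := hx7.trans (orderOf_dvd_cent x)
    omega
  obtain ⟨P, hP⟩ := D.syl7
  obtain ⟨k, hk0, h1, h2⟩ := one_sing h (r := 7) (n := 2) (m := 84852587888640000)
    (by norm_num) (by rw [hN]; norm_num) (by norm_num) hx7 P hP
  have h11 := H733.OZ.pow_dvd h (r := 11) (n := 1) (by norm_num) (by rw [hN]; norm_num) (by rw [hN]; norm_num)
    (by omega)
  have h13 := H733.OZ.pow_dvd h (r := 13) (n := 1) (by norm_num) (by rw [hN]; norm_num) (by rw [hN]; norm_num)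
    (by omega)
  have hT := cent_mul_le h
  have hC := D.tC h
  have hdv := D.dvd h
  have hd := one_lt_deg h
  rw [hN] at h1 hT
  generalize charDegree (χ : G → ℂ) = d at *
  have h3 := (Nat.mul_le_mul_right _ h14).trans h1
  have h4 := (Nat.mul_le_mul_right _ h14).trans hT
  have hk4 : k < 4 := by
    by_contra hcon
    omega
  have hmod : (84852587888640000 * k) % 7 = (d ^ 2 - 1) % 7 := by
    have h5 : 1 ≤ d ^ 2 := Nat.one_le_pow _ _ (by omega)
    have h6 : ((d : ℤ) ^ 2 - 1) = ((d ^ 2 - 1 : ℕ) : ℤ) := by push_cast [h5]; ring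
    rw [h6] at h2
    have h8 : ((84852587888640000 * k : ℕ) : ℤ) % 7 = ((d ^ 2 - 1 : ℕ) : ℤ) % 7 :=
      Int.emod_eq_emod_iff_emod_sub_eq_zero.2 (Int.emod_eq_zero_of_dvd (by exact_mod_cast h2))
    exact_mod_cast h8
  have hB : tB d = true := by
    unfold tB
    rw [Bool.and_eq_true, Bool.and_eq_true, Bool.and_eq_true, List.any_eq_true]
    refine ⟨?_, ?_, ?_, k, List.mem_range.2 hk4, ?_⟩
    · rw [Nat.ble_eq]; exact h4
    · rw [pow_one] at h11
      rw [Nat.mod_eq_zero_of_dvd h11]; rfl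
    · rw [pow_one] at h13
      rw [Nat.mod_eq_zero_of_dvd h13]; rfl
    · have : Nat.beq k 0 = false := Bool.eq_false_iff.2 fun h => hk0.ne' (Nat.eq_of_beq_eq_true h)
      rw [this, hmod, Nat.beq_refl]; rfl
  have h5 := H417.Divs.all_divs l l_prime l_val checkB hdv
  simp only [hC, hB] at h5
  exact absurd h5 (by decide)

/-- **The degree `14745600`** does not occur. -/
theorem Data.not_deg (D : Data G) {χ : IrrCharacter G} {x : G} (h : _root_.Cfsg.Agent.H732.VZ.One χ x)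
    (hd : charDegree (χ : G → ℂ) = 14745600) : False := by
  have hN := D.card
  have h9 := D.nine_le h
  obtain ⟨t, ht, hct⟩ := D.dod
  have hrat : ∀ m : ℕ, m.Coprime (Nat.card G) → IsConj (t ^ m) t := by
    intro m hm
    have hodd : m % 2 = 1 := by
      rw [hN] at hm
      by_contra hcon
      have h2 : 2 ∣ m := by omega
      have := Nat.Coprime.eq_one_of_dvd (Nat.Coprime.coprime_dvd_left h2 hm) (by norm_num)
      norm_num at this
    have h1 : t ^ m = t := by
      rw [← pow_mod_orderOf, ht, hodd, pow_one]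
    rw [h1]
  obtain ⟨k, hk⟩ := H849.OZ.rat (χ := χ) hrat
  by_cases hx : IsConj x t
  · have h1 := H672.OZ.cent_eq_of_conj hx
    have h2 := cent_mul_le h
    rw [h1, hct, hd, hN] at h2
    norm_num at h2
  · have h1 := H849.OZ.rat_dvd_deg t hk
    have hidx : (Subgroup.centralizer ({t} : Set G)).index = 10680579000 := by
      have h2 := Subgroup.card_mul_index (Subgroup.centralizer ({t} : Set G))
      have h3 : Nat.card (Subgroup.centralizer ({t} : Set G)) = 389283840 := hct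
      rw [h3, hN] at h2
      omega
    rw [hidx, hd] at h1
    have h2 : ((2 ^ 13 : ℕ) : ℤ) ∣ k := by
      have h3 : ((2 : ℤ) ^ 13 * 8) ∣ (1335072375 * k) * 8 := by
        refine (show ((2 : ℤ) ^ 13 * 8) ∣ ((14745600 : ℕ) : ℤ) from ⟨225, by norm_num⟩).trans (h1.trans
          (dvd_of_eq ?_))
        push_cast
        ring
      have h4 := (mul_dvd_mul_iff_right (show (8 : ℤ) ≠ 0 by norm_num)).1 h3
      have h5 : IsCoprime ((2 : ℤ) ^ 13) 1335072375 := by
        rw [Int.isCoprime_iff_gcd_eq_one]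
        norm_num
      exact_mod_cast h5.dvd_of_dvd_mul_left h4
    have h3 := H849.OZ.one_class h hrat hk hx h2
    rw [hct] at h3
    have h4 := (Nat.mul_le_mul_right ((2 ^ 13) ^ 2 - 1) h9).trans h3
    norm_num at h4

/-- **No irreducible character with exactly one class of zeros.** -/
theorem Data.false (D : Data G) {χ : IrrCharacter G} {x : G} (h : _root_.Cfsg.Agent.H732.VZ.One χ x) : False := by
  by_cases hx : 7 ∣ orderOf x
  · exact D.not_seven h hx
  · exact D.not_deg h (D.deg h hx)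

end Cfsg.Agent.H678.OZ.CoOne
end

-- part: H678/OZ/CoOneSeven
section
/-!
# The elements of order 7 of `Co1` and the centralizer of a Sylow 7-subgroup (helper678)
-/

set_option autoImplicit false

namespace Cfsg.Agent.H678.OZ.CoOneSeven

open Cfsg Subgroup Equiv

theorem finite_Co1 : Finite Spor.Co1 := Nat.finite_of_card_ne_zero (by rw [Cfsg.Agent.S0399.result.2]; norm_num)

/-- the centralizer of an element of order seven of `Perm (Fin 7)` -/
theorem mem_zpowers_of {b a : Perm (Fin 7)} (hb : orderOf b = 7) (hab : a * b = b * a) : ∃ k : ℕ, a = b ^ k := by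
  have hc : b.IsCycle := Perm.isCycle_of_prime_order'' (by norm_num) (by rw [hb, Fintype.card_fin])
  have hsup : b.support = Finset.univ := by
    rw [← Finset.card_eq_iff_eq_univ, ← hc.orderOf, hb, Fintype.card_fin]
  have hne : ∀ i : Fin 7, b i ≠ i := fun i => by
    rw [← Perm.mem_support, hsup]
    exact Finset.mem_univ _
  obtain ⟨k, hk⟩ := hc.exists_pow_eq (hne 0) (hne (a 0))
  refine ⟨k, ?_⟩
  ext1 i
  obtain ⟨j, hj⟩ := hc.exists_pow_eq (hne 0) (hne i)
  have h1 : Commute a (b ^ j) := (show Commute a b from hab).pow_right j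
  have h2 : Commute (b ^ k) (b ^ j) := (Commute.refl b).pow_pow k j
  rw [← hj, ← Perm.mul_apply, h1.eq, Perm.mul_apply, ← hk, ← Perm.mul_apply, ← h2.eq, Perm.mul_apply]

/-- an element of order seven with centralizer `7 × A₇` -/
theorem exists_x : ∃ x : Spor.Co1, orderOf x = 7 ∧
    Nonempty (centralizer ({x} : Set Spor.Co1) ≃* alternatingGroup (Fin 7) × Multiplicative (ZMod 7)) := by
  have hp : Fact (Nat.Prime 7) := ⟨by norm_num⟩
  have := finite_Co1
  obtain ⟨V, hV, ⟨e⟩⟩ := H813.CoSevenMain.cent_seven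
  obtain ⟨v, hv⟩ := exists_prime_orderOf_dvd_card' (G := V) 7 (by rw [hV])
  obtain ⟨x, hx⟩ : ∃ x : Spor.Co1, x = (v : Spor.Co1) := ⟨_, rfl⟩
  have hxo : orderOf x = 7 := by rw [hx, Subgroup.orderOf_coe, hv]
  have hxV : zpowers x = V := by
    refine Subgroup.eq_of_le_of_card_ge (by rw [zpowers_le, hx]; exact v.2) ?_
    rw [Nat.card_zpowers, hxo, hV]
  have hcx : centralizer (V : Set Spor.Co1) = centralizer ({x} : Set Spor.Co1) := by
    rw [← hxV, H870.IMLocal.centralizer_zpowers]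
  rw [hcx] at e
  exact ⟨x, hxo, ⟨e.trans MulEquiv.prodComm⟩⟩

theorem card_x {x : Spor.Co1}
    (e : centralizer ({x} : Set Spor.Co1) ≃* alternatingGroup (Fin 7) × Multiplicative (ZMod 7)) :
    Nat.card (centralizer ({x} : Set Spor.Co1)) = 17640 := by
  rw [Nat.card_congr e.toEquiv, Nat.card_prod, H678.PV.card_alt 7 (by norm_num), Nat.card_congr Multiplicative.toAdd,
    Nat.card_zmod]
  rfl

/-- **Two elements of order seven.** -/
theorem two7 : ∃ y₁ y₂ : Spor.Co1, orderOf y₁ = 7 ∧ orderOf y₂ = 7 ∧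
    Nat.card (centralizer ({y₁} : Set Spor.Co1)) = 17640 ∧ Nat.card (centralizer ({y₂} : Set Spor.Co1)) = 1176 := by
  obtain ⟨x, hx, ⟨e⟩⟩ := exists_x
  exact ⟨x, CpAutMSeven.RanksH.s0, hx, CpAutMSeven.RanksH.orderOf_s0, card_x e, H678.PV.CoSeven.card_s0⟩

/-- **The centralizer of a Sylow 7-subgroup.** -/
theorem syl7 : ∃ P : Sylow 7 Spor.Co1,
    ∀ g ∈ (centralizer ((P : Subgroup Spor.Co1) : Set Spor.Co1) :), ¬ 7 ∣ orderOf g → g = 1 := by
  have h7 : Nat.Prime 7 := by norm_num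
  have hp : Fact (Nat.Prime 7) := ⟨h7⟩
  have := finite_Co1
  have hcard := Cfsg.Agent.S0399.result.2
  obtain ⟨x, hx, ⟨e⟩⟩ := exists_x
  have hxP : IsPGroup 7 (zpowers x) := IsPGroup.of_card (n := 1) (by rw [Nat.card_zpowers, hx, pow_one])
  obtain ⟨P, hP⟩ := hxP.exists_le_sylow
  have hxm : x ∈ (P : Subgroup Spor.Co1) := hP (mem_zpowers x)
  refine ⟨P, ?_⟩
  -- the order of `P`
  have h49 : 7 ^ 2 ∣ Nat.card (P : Subgroup Spor.Co1) :=
    P.pow_dvd_card_of_pow_dvd_card (by rw [hcard]; norm_num)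
  have h343 : ¬ 7 ^ 3 ∣ Nat.card (P : Subgroup Spor.Co1) := by
    intro h
    have := h.trans (Subgroup.card_subgroup_dvd_card (P : Subgroup Spor.Co1))
    rw [hcard] at this
    norm_num at this
  obtain ⟨m, hm⟩ := IsPGroup.iff_card.1 P.2
  have hm2 : m = 2 := by
    rw [hm] at h49 h343
    have h1 := (Nat.pow_dvd_pow_iff_le_right (by norm_num : 1 < 7)).1 h49
    have h2 : ¬ 3 ≤ m := fun h => h343 (pow_dvd_pow 7 h)
    omega
  rw [hm2] at hm
  have hcomm : ∀ a b : (P : Subgroup Spor.Co1), a * b = b * a := fun a b =>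
    (IsPGroup.isMulCommutative_of_card_eq_prime_sq (p := 7) hm).is_comm.comm a b
  have hle : (P : Subgroup Spor.Co1) ≤ centralizer ({x} : Set Spor.Co1) := by
    intro g hg
    rw [mem_centralizer_singleton_iff]
    exact congrArg Subtype.val (hcomm ⟨g, hg⟩ ⟨x, hxm⟩)
  -- the projection of `P` to `A₇` is not trivial
  let f : (P : Subgroup Spor.Co1) →* alternatingGroup (Fin 7) :=
    ((MonoidHom.fst _ _).comp e.toMonoidHom).comp (Subgroup.inclusion hle)
  let f' : (P : Subgroup Spor.Co1) →* Multiplicative (ZMod 7) :=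
    ((MonoidHom.snd _ _).comp e.toMonoidHom).comp (Subgroup.inclusion hle)
  obtain ⟨z, hz⟩ : ∃ z : (P : Subgroup Spor.Co1), f z ≠ 1 := by
    by_contra hcon
    push Not at hcon
    have hinj : Function.Injective f' := by
      rw [injective_iff_map_eq_one]
      intro z hz
      have h1 : e (Subgroup.inclusion hle z) = 1 := Prod.ext (hcon z) hz
      have h2 := (MulEquiv.map_eq_one_iff e).1 h1
      exact Subtype.ext (congrArg (fun w : centralizer ({x} : Set Spor.Co1) => (w : Spor.Co1)) h2)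
    have h1 := Nat.card_le_card_of_injective f' hinj
    rw [hm, Nat.card_congr Multiplicative.toAdd, Nat.card_zmod] at h1
    norm_num at h1
  have hbo : orderOf (((f z : alternatingGroup (Fin 7))) : Perm (Fin 7)) = 7 := by
    rw [Subgroup.orderOf_coe]
    have h1 : orderOf (f z) ∣ 7 ^ 2 := (orderOf_map_dvd f z).trans (hm ▸ _root_.orderOf_dvd_natCard z)
    obtain ⟨k, hk, hk'⟩ := (Nat.dvd_prime_pow h7).1 h1
    have h2 : orderOf (f z) ∣ Nat.card (alternatingGroup (Fin 7)) := _root_.orderOf_dvd_natCard _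
    rw [H678.PV.card_alt 7 (by norm_num)] at h2
    interval_cases k
    · rw [pow_zero, orderOf_eq_one_iff] at hk'
      exact absurd hk' hz
    · rw [hk', pow_one]
    · rw [hk'] at h2
      exact absurd h2 (by decide)
  intro g hg hg7
  have hgx : g ∈ centralizer ({x} : Set Spor.Co1) := by
    rw [mem_centralizer_singleton_iff]
    exact ((mem_centralizer_iff.1 hg) x hxm).symm
  set w : centralizer ({x} : Set Spor.Co1) := ⟨g, hgx⟩ with hw
  have hwo : orderOf (e w) = orderOf g := by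
    rw [MulEquiv.orderOf_eq, hw, Subgroup.orderOf_mk]
  have hc2 : (e w).2 = 1 := by
    have h1 : orderOf (e w).2 ∣ 7 := by
      have := _root_.orderOf_dvd_natCard (e w).2
      rwa [Nat.card_congr Multiplicative.toAdd, Nat.card_zmod] at this
    have h2 : orderOf (e w).2 ∣ orderOf g := by
      rw [← hwo]
      exact (orderOf_map_dvd (MonoidHom.snd _ _) (e w) :)
    rcases (Nat.dvd_prime h7).1 h1 with h3 | h3
    · exact orderOf_eq_one_iff.1 h3
    · rw [h3] at h2
      exact absurd h2 hg7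
  have hc1 : (e w).1 = 1 := by
    have h1 : (e w).1 * f z = f z * (e w).1 := by
      have h2 : w * Subgroup.inclusion hle z = Subgroup.inclusion hle z * w := by
        apply Subtype.ext
        show g * (z : Spor.Co1) = (z : Spor.Co1) * g
        exact ((mem_centralizer_iff.1 hg) z z.2).symm
      have h3 := congrArg e h2
      rw [map_mul, map_mul] at h3
      exact congrArg Prod.fst h3
    obtain ⟨k, hk⟩ := mem_zpowers_of hbo (congrArg Subtype.val h1)
    have h4 : orderOf (e w).1 ∣ 7 := by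
      rw [← Subgroup.orderOf_coe, hk]
      exact (orderOf_pow_dvd k).trans (dvd_of_eq hbo)
    have h5 : orderOf (e w).1 ∣ orderOf g := by
      rw [← hwo]
      exact (orderOf_map_dvd (MonoidHom.fst _ _) (e w) :)
    rcases (Nat.dvd_prime h7).1 h4 with h3 | h3
    · exact orderOf_eq_one_iff.1 h3
    · rw [h3] at h5
      exact absurd h5 hg7
  have h6 : e w = 1 := Prod.ext hc1 hc2
  have h7 := (MulEquiv.map_eq_one_iff e).1 h6
  exact congrArg (fun w : centralizer ({x} : Set Spor.Co1) => (w : Spor.Co1)) h7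

end Cfsg.Agent.H678.OZ.CoOneSeven
end

-- part: H593/OZ/CoOne
section
/-!
# `Co₁` (S4842): `9 ≤ |C(x)|` for every element `x`

* `fix_pow` : an element normalizing an elementary abelian 2-group `E`:
  `|C_E(x ^ 2 ^ k)| ≤ |C_E(x)| ^ 2 ^ k`;
* `sq_dvd_cent` : `p²` divides `|C(x)|` for a `p`-element `x` when `p² ∣ |G|`;
* `CoOne.two_elt` : `16 ≤ |C(x)|` for 2-elements `x` of `Co₁`;
* `CoOne.nine_dvd` : `9 ∣ |C(t)|` for the involutions `t` of `Co₁`;
* `CoOne.nine_le` : `9 ≤ |C(x)|`.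
-/

set_option autoImplicit false

open Cfsg Subgroup

namespace Cfsg.Agent.H593.OZ

universe u

section General

variable {G : Type u} [Group G] [Finite G]

/-- one squaring step -/
theorem fix_sq (E : Subgroup G) (habel : ∀ a ∈ E, ∀ b ∈ E, a * b = b * a)
    (hsq : ∀ a ∈ E, a * a = 1) (x : G) (hx : ∀ a ∈ E, x * a * x⁻¹ ∈ E) :
    Nat.card (E ⊓ centralizer {x ^ 2} : Subgroup G) ≤
      Nat.card (E ⊓ centralizer {x} : Subgroup G) ^ 2 := by
  set A : Subgroup G := E ⊓ centralizer {x ^ 2} with hA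
  set B : Subgroup G := E ⊓ centralizer {x} with hB
  have hAc : ∀ a ∈ A, x * (x * a * x⁻¹) * x⁻¹ = a := by
    intro a ha
    have h1 : a * x ^ 2 = x ^ 2 * a := mem_centralizer_singleton_iff.1 ha.2
    calc x * (x * a * x⁻¹) * x⁻¹ = x ^ 2 * a * (x ^ 2)⁻¹ := by rw [pow_two]; group
      _ = a := by rw [← h1]; group
  let φ : A →* G :=
    { toFun := fun a => (a : G) * (x * (a : G) * x⁻¹)
      map_one' := by simp
      map_mul' := fun a b => by
        have h1 : (b : G) * (x * (a : G) * x⁻¹) = (x * (a : G) * x⁻¹) * b :=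
          habel _ b.2.1 _ (hx _ a.2.1)
        show (a : G) * b * (x * ((a : G) * b) * x⁻¹) = (a : G) * (x * a * x⁻¹) * (b * (x * b * x⁻¹))
        calc (a : G) * b * (x * ((a : G) * b) * x⁻¹) = (a : G) * (b * (x * a * x⁻¹)) * (x * b * x⁻¹) := by group
          _ = _ := by rw [h1]; group }
  have hφ : ∀ a : A, φ a = (a : G) * (x * (a : G) * x⁻¹) := fun _ => rfl
  have hrange : φ.range ≤ B := by
    rintro _ ⟨a, rfl⟩
    refine ⟨?_, ?_⟩
    · show φ a ∈ E
      rw [hφ]
      exact E.mul_mem a.2.1 (hx _ a.2.1)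
    · show φ a ∈ centralizer {x}
      rw [mem_centralizer_singleton_iff, hφ]
      have h1 := hAc _ a.2
      have h2 : (a : G) * (x * (a : G) * x⁻¹) = (x * (a : G) * x⁻¹) * a := habel _ a.2.1 _ (hx _ a.2.1)
      calc (a : G) * (x * (a : G) * x⁻¹) * x = (x * (a : G) * x⁻¹) * a * x := by rw [h2]
        _ = (x * (a : G) * x⁻¹) * (x * (x * (a : G) * x⁻¹) * x⁻¹) * x := by rw [h1]
        _ = x * ((a : G) * (x * (a : G) * x⁻¹)) := by group
  have hker : φ.ker.map A.subtype ≤ B := by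
    rintro _ ⟨a, ha, rfl⟩
    refine ⟨a.2.1, ?_⟩
    show (a : G) ∈ centralizer {x}
    rw [mem_centralizer_singleton_iff]
    have h1 : (a : G) * (x * (a : G) * x⁻¹) = 1 := ha
    have h2 : x * (a : G) * x⁻¹ = a := by
      calc x * (a : G) * x⁻¹ = (a : G)⁻¹ * ((a : G) * (x * (a : G) * x⁻¹)) := by group
        _ = (a : G)⁻¹ := by rw [h1, mul_one]
        _ = a := (eq_inv_of_mul_eq_one_left (hsq _ a.2.1)).symm
    calc (a : G) * x = x * (a : G) * x⁻¹ * x := by rw [h2]
      _ = x * a := by group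
  have h1 : Nat.card φ.range ≤ Nat.card B := Subgroup.card_le_of_le hrange
  have h2 : Nat.card φ.ker ≤ Nat.card B := by
    rw [Nat.card_congr (φ.ker.equivMapOfInjective A.subtype A.subtype_injective).toEquiv]
    exact Subgroup.card_le_of_le hker
  have h3 : Nat.card φ.ker * Nat.card φ.range = Nat.card A := by
    rw [← Nat.card_congr (QuotientGroup.quotientKerEquivRange φ).toEquiv]
    exact φ.ker.card_mul_index
  rw [← h3, pow_two]
  exact Nat.mul_le_mul h2 h1

/-- `|C_E(x ^ 2 ^ k)| ≤ |C_E(x)| ^ 2 ^ k` -/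
theorem fix_pow (E : Subgroup G) (habel : ∀ a ∈ E, ∀ b ∈ E, a * b = b * a)
    (hsq : ∀ a ∈ E, a * a = 1) (k : ℕ) : ∀ (x : G), (∀ a ∈ E, x * a * x⁻¹ ∈ E) →
    Nat.card (E ⊓ centralizer {x ^ 2 ^ k} : Subgroup G) ≤
      Nat.card (E ⊓ centralizer {x} : Subgroup G) ^ 2 ^ k := by
  induction k with
  | zero => intro x _; simp only [_root_.pow_zero, _root_.pow_one, _root_.Subgroup.mem_inf, _root_.Std.le_refl]
  | succ k ih =>
    intro x hx
    have h1 : x ^ 2 ^ (k + 1) = (x ^ 2) ^ 2 ^ k := by rw [← pow_mul, pow_succ']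
    rw [h1]
    refine (ih (x ^ 2) fun a ha => ?_).trans ?_
    · have h2 := hx _ (hx a ha)
      have h3 : x ^ 2 * a * (x ^ 2)⁻¹ = x * (x * a * x⁻¹) * x⁻¹ := by rw [pow_two]; group
      rwa [h3]
    · rw [pow_succ' 2 k, pow_mul]
      exact Nat.pow_le_pow_left (fix_sq E habel hsq x hx) _

/-- `p ^ 2 ∣ |C(x)|` for `p`-elements -/
theorem sq_dvd_cent {p : ℕ} [hp : Fact p.Prime] (h : p ^ 2 ∣ Nat.card G) {x : G}
    (hx : ∃ i : ℕ, x ^ p ^ i = 1) : p ^ 2 ∣ Nat.card (centralizer ({x} : Set G)) := by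
  have h1 : IsPGroup p (Subgroup.zpowers x) := by
    rintro ⟨y, hy⟩
    obtain ⟨k, rfl⟩ := hy
    obtain ⟨i, hi⟩ := hx
    refine ⟨i, ?_⟩
    apply Subtype.ext
    rw [Subgroup.coe_pow, Subgroup.coe_one]
    show (x ^ k) ^ p ^ i = 1
    rw [← zpow_natCast, ← zpow_mul, mul_comm, zpow_mul, zpow_natCast, hi, one_zpow]
  obtain ⟨P, hP⟩ := h1.exists_le_sylow
  have hxP : x ∈ (P : Subgroup G) := hP (Subgroup.mem_zpowers x)
  have h2 : p ^ 2 ∣ Nat.card P := P.pow_dvd_card_of_pow_dvd_card h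
  set x' : P := ⟨x, hxP⟩
  -- the centralizer in `P`
  have h3 : Nat.card (centralizer ({x'} : Set P)) ∣ Nat.card (centralizer ({x} : Set G)) := by
    have h4 : (centralizer ({x'} : Set P)).map (P : Subgroup G).subtype ≤ centralizer ({x} : Set G) := by
      rintro _ ⟨y, hy, rfl⟩
      rw [mem_centralizer_singleton_iff]
      exact congrArg Subtype.val (mem_centralizer_singleton_iff.1 hy)
    have h5 := Subgroup.card_dvd_of_le h4
    rwa [← Nat.card_congr ((centralizer ({x'} : Set P)).equivMapOfInjective (P : Subgroup G).subtype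
      (P : Subgroup G).subtype_injective).toEquiv] at h5
  refine dvd_trans ?_ h3
  have hPp : IsPGroup p P := P.isPGroup'
  obtain ⟨n, hn⟩ := (hPp.to_subgroup (centralizer ({x'} : Set P))).exists_card_eq
  rw [hn]
  apply pow_dvd_pow
  by_contra hlt
  rw [not_le] at hlt
  have hc1 : Subgroup.center P ≤ centralizer ({x'} : Set P) := Subgroup.center_le_centralizer _
  have hnt : Nontrivial P := by
    rw [← Finite.one_lt_card_iff_nontrivial]
    exact lt_of_lt_of_le (Nat.one_lt_pow (by norm_num) hp.out.one_lt) (Nat.le_of_dvd Nat.card_pos h2)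
  have hcn : Nontrivial (Subgroup.center P) := hPp.center_nontrivial
  obtain ⟨m, hm⟩ := (hPp.to_subgroup (Subgroup.center P)).exists_card_eq
  have hm0 : m ≠ 0 := by
    rintro rfl
    rw [pow_zero] at hm
    exact absurd (Finite.one_lt_card_iff_nontrivial.2 hcn) (by rw [hm]; norm_num)
  have hle : p ^ m ≤ p ^ n := by rw [← hm, ← hn]; exact Subgroup.card_le_of_le hc1
  have hmn : m ≤ n := (Nat.pow_le_pow_iff_right hp.out.one_lt).1 hle
  have hn1 : n = 1 := by omega
  have hm1 : m = 1 := by omega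
  have heq : Subgroup.center P = centralizer ({x'} : Set P) :=
    Subgroup.eq_of_le_of_card_ge hc1 (by rw [hm, hn, hn1, hm1])
  have hxc : x' ∈ Subgroup.center P := by
    rw [heq, mem_centralizer_singleton_iff]
  have htop : centralizer ({x'} : Set P) = ⊤ := by
    rw [eq_top_iff]
    intro y _
    rw [mem_centralizer_singleton_iff]
    exact (Subgroup.mem_center_iff.1 hxc y)
  rw [htop, Subgroup.card_top, hn1, pow_one] at hn
  rw [hn] at h2
  have := Nat.le_of_dvd hp.out.pos h2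
  have h6 : p < p ^ 2 := by
    calc p = p ^ 1 := (pow_one p).symm
      _ < p ^ 2 := Nat.pow_lt_pow_right hp.out.one_lt (by norm_num)
  omega

omit [Finite G] in
theorem card_cent_of_conj {x y c : G} (h : c * x * c⁻¹ = y) :
    Nat.card (centralizer ({x} : Set G)) = Nat.card (centralizer ({y} : Set G)) := by
  have h1 : (centralizer ({x} : Set G)).map (MulAut.conj c).toMonoidHom = centralizer ({y} : Set G) := by
    ext g
    constructor
    · rintro ⟨a, ha, rfl⟩
      have h2 : a * x = x * a := mem_centralizer_singleton_iff.1 ha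
      rw [mem_centralizer_singleton_iff, ← h]
      show c * a * c⁻¹ * (c * x * c⁻¹) = c * x * c⁻¹ * (c * a * c⁻¹)
      calc c * a * c⁻¹ * (c * x * c⁻¹) = c * (a * x) * c⁻¹ := by group
        _ = c * x * c⁻¹ * (c * a * c⁻¹) := by rw [h2]; group
    · intro hg
      have h2 : g * y = y * g := mem_centralizer_singleton_iff.1 hg
      refine ⟨c⁻¹ * g * c, ?_, ?_⟩
      · show c⁻¹ * g * c ∈ centralizer ({x} : Set G)
        rw [mem_centralizer_singleton_iff]
        have h3 : x = c⁻¹ * y * c := by rw [← h]; group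
        rw [h3]
        calc c⁻¹ * g * c * (c⁻¹ * y * c) = c⁻¹ * (g * y) * c := by group
          _ = c⁻¹ * y * c * (c⁻¹ * g * c) := by rw [h2]; group
      · show c * (c⁻¹ * g * c) * c⁻¹ = g
        group
  rw [← h1]
  exact Nat.card_congr ((centralizer ({x} : Set G)).equivMapOfInjective _ (MulAut.conj c).injective).toEquiv

end General

namespace CoOne

open Cfsg.Spor Cfsg.Agent.MonsterU.CoFrameF
open Cfsg.Agent.CoOneType.CoOneE (E card_E pr pr_surjective)
open Cfsg.Agent.SporadicA.Co0Mono Cfsg.Agent.SporadicA.Co1Simple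
open Cfsg.Agent.SporadicStructure.M24El
open Cfsg.Agent.CoOneType.SignFacts (wt)

theorem finite_Co1 : Finite Spor.Co1 := (Nat.card_pos_iff.1 (by rw [card_Co1]; norm_num)).2

/-- a 2-element lies in a conjugate of `F` -/
theorem exists_conj_F {g : Spor.Co1} (hg : ∃ i : ℕ, g ^ 2 ^ i = 1) : ∃ c : Spor.Co1, c⁻¹ * g * c ∈ F := by
  have hfG := finite_Co1
  have : Fact (Nat.Prime 2) := ⟨Nat.prime_two⟩
  have h1 : IsPGroup 2 (Subgroup.zpowers g) := by
    rintro ⟨y, hy⟩
    obtain ⟨k, rfl⟩ := hy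
    obtain ⟨i, hi⟩ := hg
    refine ⟨i, ?_⟩
    apply Subtype.ext
    rw [Subgroup.coe_pow, Subgroup.coe_one]
    show (g ^ k) ^ 2 ^ i = 1
    rw [← zpow_natCast, ← zpow_mul, mul_comm, zpow_mul, zpow_natCast, hi, one_zpow]
  have h2 : ¬ 2 ∣ Nat.card (Spor.Co1 ⧸ F) := by
    have h3 := index_F
    unfold Subgroup.index at h3
    rw [h3]; norm_num
  obtain ⟨a, ha⟩ := h1.nonempty_fixed_point_of_prime_not_dvd_card (Spor.Co1 ⧸ F) h2
  obtain ⟨c, rfl⟩ := QuotientGroup.mk_surjective a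
  refine ⟨c, ?_⟩
  have h3 := ha ⟨g, Subgroup.mem_zpowers g⟩
  have h4 : (QuotientGroup.mk (g * c) : Spor.Co1 ⧸ F) = QuotientGroup.mk c := h3
  rw [QuotientGroup.eq] at h4
  have h5 := F.inv_mem h4
  simpa only [mul_assoc, _root_.mul_inv_rev, _root_.inv_inv] using h5

theorem two_elt_F {g : Spor.Co1} (hF : g ∈ F) (hg : ∃ i : ℕ, g ^ 2 ^ i = 1) :
    16 ≤ Nat.card (centralizer ({g} : Set Spor.Co1)) := by
  classical
  have hfG := finite_Co1
  have hex : ∃ k : ℕ, g ^ 2 ^ k ∈ E := by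
    obtain ⟨i, hi⟩ := hg
    exact ⟨i, by rw [hi]; exact E.one_mem⟩
  set k := Nat.find hex with hk
  have hkE : g ^ 2 ^ k ∈ E := Nat.find_spec hex
  have hmin : ∀ m < k, g ^ 2 ^ m ∉ E := fun m hm => Nat.find_min hex hm
  set D : Subgroup Spor.Co1 := E ⊓ centralizer {g} with hD
  set H : Subgroup Spor.Co1 := centralizer {g} with hH
  -- `|E| ≤ |D| ^ 2 ^ k`
  have h1 : 2048 ≤ Nat.card D ^ 2 ^ k := by
    have h2 := fix_pow E (fun a ha b hb => comm_of_mem_E ha hb) (fun a ha => sq_of_mem_E ha) k g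
      (fun a ha => conj_mem_E hF ha)
    have h3 : (E ⊓ centralizer {g ^ 2 ^ k} : Subgroup Spor.Co1) = E := by
      refine inf_eq_left.2 fun a ha => ?_
      rw [mem_centralizer_singleton_iff]
      exact comm_of_mem_E ha hkE
    rw [h3, card_E] at h2
    exact h2
  -- the image of `g` in `M24` has order `2 ^ k`
  set g' : F := ⟨g, hF⟩ with hg'
  have hpow : ∀ n : ℕ, (toM24 g') ^ n = 1 ↔ g ^ n ∈ E := by
    intro n
    rw [← map_pow, toM24_eq_one_iff]
    rfl
  have hord : orderOf (toM24 g') = 2 ^ k := by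
    rcases Nat.eq_zero_or_pos k with h0 | h0
    · rw [h0, pow_zero, orderOf_eq_one_iff]
      have h2 := hkE
      rw [h0, pow_zero] at h2
      have h3 := (hpow 1).2 h2
      rwa [pow_one] at h3
    · obtain ⟨m, hm⟩ : ∃ m, k = m + 1 := ⟨k - 1, by omega⟩
      have : Fact (Nat.Prime 2) := ⟨Nat.prime_two⟩
      rw [hm]
      apply orderOf_eq_prime_pow
      · rw [hpow]
        exact hmin m (by omega)
      · rw [hpow, ← hm]
        exact hkE
  -- `2 ^ k * |D| ≤ |H|`
  have h2 : 2 ^ k * Nat.card D ≤ Nat.card H := by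
    have hinj : Function.Injective (fun p : Fin (2 ^ k) × D =>
        (⟨g ^ (p.1 : ℕ) * (p.2 : Spor.Co1), H.mul_mem (H.pow_mem (by
          rw [hH, mem_centralizer_singleton_iff]) _) p.2.2.2⟩ : H)) := by
      rintro ⟨⟨i, hi⟩, d⟩ ⟨⟨j, hj⟩, e⟩ hab
      have h3 : g ^ i * (d : Spor.Co1) = g ^ j * (e : Spor.Co1) := congrArg Subtype.val hab
      have h4 : (toM24 g') ^ i = (toM24 g') ^ j := by
        rw [← map_pow, ← map_pow]
        have h5 : toM24 ((g' ^ j)⁻¹ * g' ^ i) = 1 := by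
          rw [toM24_eq_one_iff]
          show (g ^ j)⁻¹ * g ^ i ∈ E
          have h6 : (g ^ j)⁻¹ * g ^ i = e * (d : Spor.Co1)⁻¹ := by
            rw [inv_mul_eq_iff_eq_mul, ← mul_assoc, ← h3]; group
          rw [h6]
          exact E.mul_mem e.2.1 (E.inv_mem d.2.1)
        rw [map_mul, map_inv, inv_mul_eq_one] at h5
        exact h5.symm
      have h5 : i = j := pow_injOn_Iio_orderOf (by rw [Set.mem_Iio, hord]; exact hi)
        (by rw [Set.mem_Iio, hord]; exact hj) h4
      subst h5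
      have h6 : d = e := Subtype.ext ((mul_left_cancel h3 :))
      rw [h6]
    have h3 := Nat.card_le_card_of_injective _ hinj
    rwa [Nat.card_prod, Nat.card_fin] at h3
  refine le_trans ?_ h2
  -- arithmetic
  set n := Nat.card D
  have hn : 0 < n := Nat.card_pos
  by_contra hlt
  rw [not_le] at hlt
  have hk4 : k < 4 := by
    by_contra hk4
    rw [not_lt] at hk4
    have h3 : 2 ^ 4 ≤ 2 ^ k := Nat.pow_le_pow_right (by norm_num) hk4
    have h4 : 2 ^ k * 1 ≤ 2 ^ k * n := Nat.mul_le_mul_left _ hn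
    omega
  have hn16 : n < 16 := by
    have h3 : 1 * n ≤ 2 ^ k * n := Nat.mul_le_mul_right _ Nat.one_le_two_pow
    omega
  clear_value n
  clear h2 hord hkE hmin hk
  clear_value k
  interval_cases k <;> interval_cases n <;> revert h1 hlt <;> norm_num

/-- `16 ≤ |C(x)|` for 2-elements -/
theorem two_elt {g : Spor.Co1} (hg : ∃ i : ℕ, g ^ 2 ^ i = 1) :
    16 ≤ Nat.card (centralizer ({g} : Set Spor.Co1)) := by
  have hfG := finite_Co1
  obtain ⟨c, hc⟩ := exists_conj_F hg
  rw [card_cent_of_conj (x := g) (y := c⁻¹ * g * c) (c := c⁻¹) (by group)]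
  refine two_elt_F hc ?_
  obtain ⟨i, hi⟩ := hg
  refine ⟨i, ?_⟩
  have h1 : (c⁻¹ * g * c) ^ 2 ^ i = c⁻¹ * g ^ 2 ^ i * c := by
    have h2 := conj_pow (i := 2 ^ i) (a := c⁻¹) (b := g)
    rwa [inv_inv] at h2
  rw [h1, hi]; group

section nine

open Cfsg.Agent.SporadicA.GolayBase Cfsg.Agent.SporadicA.GolayPerm
open Cfsg.Agent.CoOneType.SignFacts Cfsg.Agent.CoOneType.CoOneE
open Cfsg.Agent.CoOneType.ClosingFacts Cfsg.Agent.CoOneType.Thirteen
open scoped Pointwise

variable {c : golayCode}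

noncomputable local instance : MulAction N Co0 :=
  MulAction.compHom Co0 ((MulAut.conj : Co0 →* MulAut Co0).comp N.subtype)

theorem card_stabilizer_dvd (h : wt c = 8 ∨ wt c = 12) :
    9 ∣ Nat.card (MulAction.stabilizer N (signCo0 c)) := by
  have h1 := (MulAction.stabilizer N (signCo0 c)).card_mul_index
  rw [MulAction.index_stabilizer, StdG24.CloEnd.orbit_eq h, Cfsg.Agent.S0399.card_N,
    Set.ncard_image_of_injective _ (fun a b h => StdG24.CloEnd.sign_inj h)] at h1
  rcases h with h | h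
  · rw [h, StdG24.CloEnd.ncard_wt8] at h1
    have h2 : Nat.card (MulAction.stabilizer N (signCo0 c)) = 4096 * 322560 := by omega
    rw [h2]; norm_num
  · rw [h, StdG24.CloEnd.ncard_wt12] at h1
    have h2 : Nat.card (MulAction.stabilizer N (signCo0 c)) = 4096 * 95040 := by omega
    rw [h2]; norm_num

/-- `9` divides the orders of the centralisers in `Co1` of the sign changes. -/
theorem sign_dvd (h : wt c = 8 ∨ wt c = 12) :
    9 ∣ Nat.card (Subgroup.centralizer ({Cfsg.Agent.CoOneType.ClosingFacts.mk (signCo0 c)} : Set Co1)) := by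
  have : Finite Co1 := Quotient.finite _
  let S := MulAction.stabilizer N (signCo0 c)
  let f : S →* Co1 := (QuotientGroup.mk' (Subgroup.center Co0)).comp (N.subtype.comp S.subtype)
  have hS : ∀ x : S, ((x : N) : Co0) * signCo0 c = signCo0 c * ((x : N) : Co0) := by
    intro x
    have h1 : ((x : N) : Co0) * signCo0 c * ((x : N) : Co0)⁻¹ = signCo0 c := x.2
    calc ((x : N) : Co0) * signCo0 c = ((x : N) : Co0) * signCo0 c * ((x : N) : Co0)⁻¹ * x := by
          group
      _ = _ := by rw [h1]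
  have hker : Nat.card f.ker ≤ 2 := by
    have h1 : Set.MapsTo (fun x : S => ((x : N) : Co0)) (f.ker : Set S)
        ({1, signCo0 allOne} : Set Co0) := by
      intro x hx
      have h2 : Cfsg.Agent.CoOneType.ClosingFacts.mk ((x : N) : Co0) = 1 := hx
      exact (Cfsg.Agent.CoOneType.ClosingFacts.mk_eq_one _).1 h2
    have h2 := Set.ncard_le_ncard_of_injOn _ h1
      ((Subtype.val_injective.comp Subtype.val_injective).injOn) (Set.toFinite _)
    exact (Nat.card_coe_set_eq _).trans_le (h2.trans (Set.ncard_insert_le _ _ |>.trans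
      (by rw [Set.ncard_singleton])))
  have hrange : Nat.card f.range ∣ Nat.card (Subgroup.centralizer ({Cfsg.Agent.CoOneType.ClosingFacts.mk (signCo0 c)} : Set Co1)) := by
    apply Subgroup.card_dvd_of_le
    rintro _ ⟨x, rfl⟩
    rw [Subgroup.mem_centralizer_singleton_iff]
    exact congrArg Cfsg.Agent.CoOneType.ClosingFacts.mk (hS x)
  have hmul : Nat.card f.range * Nat.card f.ker = Nat.card S := by
    rw [← Nat.card_congr (QuotientGroup.quotientKerEquivRange f).toEquiv, mul_comm]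
    exact f.ker.card_mul_index
  have h1 := card_stabilizer_dvd h
  refine Dvd.dvd.trans ?_ hrange
  have h2 : 9 ∣ Nat.card f.range * Nat.card f.ker := by rw [hmul]; exact h1
  have h3 : 0 < Nat.card f.ker := Nat.card_pos
  have h4 : Nat.card f.ker = 1 ∨ Nat.card f.ker = 2 := by omega
  rcases h4 with h4 | h4
  · rwa [h4, mul_one] at h2
  · rw [h4] at h2
    omega

theorem w_dvd : 9 ∣ Nat.card (Subgroup.centralizer ({KFacts.Co1D4.TwoB.w} : Set Co1)) := by
  have h1 : KFacts.Co1D4.GTwo.L ≤ Subgroup.centralizer ({KFacts.Co1D4.TwoB.w} : Set Co1) := by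
    intro l hl
    rw [Subgroup.mem_centralizer_singleton_iff]
    exact KFacts.Co1D4.TwoB.Lw l hl
  have h2 := Subgroup.card_dvd_of_le h1
  rw [KFacts.Co1D4.GTwo.card_L] at h2
  exact dvd_trans (by norm_num) h2

/-- `9 ∣ |C(t)|` for the involutions of `Co₁`. -/
theorem nine_dvd {t : Spor.Co1} (ht : t * t = 1) (h1 : t ≠ 1) :
    9 ∣ Nat.card (Subgroup.centralizer ({t} : Set Spor.Co1)) := by
  rcases KFacts.Co1D4.Base.cases t ht h1 with ⟨g, c, hc, hg⟩ | ⟨g, c, hc, hg⟩ | ⟨g, hg⟩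
  · rw [← card_cent_of_conj hg]
    exact sign_dvd (Or.inl hc)
  · rw [← card_cent_of_conj hg]
    exact sign_dvd (Or.inr hc)
  · obtain ⟨g', hg'⟩ := KFacts.Co1D4.TwoB.conj_w g
    rw [hg] at hg'
    rw [← card_cent_of_conj hg'.symm]
    exact w_dvd

end nine

/-- **`9 ≤ |C(x)|` in `Co₁`.** -/
theorem nine_le (x : Spor.Co1) : 9 ≤ Nat.card (centralizer ({x} : Set Spor.Co1)) := by
  have hfG := finite_Co1
  by_contra hlt
  rw [not_le] at hlt
  set H : Subgroup Spor.Co1 := centralizer {x} with hH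
  have hxH : x ∈ H := by rw [hH, mem_centralizer_singleton_iff]
  set c := Nat.card H with hc
  have hc0 : 0 < c := Nat.card_pos
  have hord : orderOf x ∣ c := by
    have h1 := _root_.orderOf_dvd_natCard (⟨x, hxH⟩ : H)
    rwa [Subgroup.orderOf_mk] at h1
  -- `p`-elements with `p ^ 2 ∣ |G|`
  have key : ∀ p : ℕ, p.Prime → p ^ 2 ∣ 4157776806543360000 → (∃ i : ℕ, x ^ p ^ i = 1) → p ^ 2 ∣ c := by
    intro p hp hd hx
    have : Fact p.Prime := ⟨hp⟩
    exact sq_dvd_cent (by rw [card_Co1]; exact hd) hx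
  have hpow : x ^ c = 1 := orderOf_dvd_iff_pow_eq_one.1 hord
  have h2 : ∀ i : ℕ, c ≠ 2 ^ i := by
    intro i hi
    have h3 : 16 ≤ c := two_elt (g := x) ⟨i, by rw [← hi]; exact hpow⟩
    omega
  have hx2 : ¬ ∃ i : ℕ, x ^ 2 ^ i = 1 := fun h => by
    have h3 : 16 ≤ c := two_elt h
    omega
  have hc1 := h2 0
  have hc2 := h2 1
  have hc4 := h2 2
  have hc8 := h2 3
  norm_num at hc1 hc2 hc4 hc8
  have h357 : c = 3 ∨ c = 5 ∨ c = 6 ∨ c = 7 := by omega
  rcases h357 with h | h | h | h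
  · have h3 := key 3 (by norm_num) (by norm_num) ⟨1, by rw [pow_one, ← h]; exact hpow⟩
    rw [h] at h3
    norm_num at h3
  · have h3 := key 5 (by norm_num) (by norm_num) ⟨1, by rw [pow_one, ← h]; exact hpow⟩
    rw [h] at h3
    norm_num at h3
  · -- `c = 6`
    rw [h] at hpow
    have hx3 : ¬ x ^ 3 = 1 := fun h3 => by
      have h4 := key 3 (by norm_num) (by norm_num) ⟨1, by rw [pow_one]; exact h3⟩
      rw [h] at h4
      norm_num at h4
    set t : Spor.Co1 := x ^ 3 with ht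
    set s : Spor.Co1 := x ^ 4 with hs
    have htt : t * t = 1 := by rw [ht, ← pow_add]; exact hpow
    have hs3 : s ^ 3 = 1 := by
      rw [hs, ← pow_mul, show 4 * 3 = 6 * 2 by norm_num, pow_mul, hpow, one_pow]
    have hst : x = s * t := by
      rw [hs, ht, ← pow_add, show 4 + 3 = 6 + 1 by norm_num, pow_add, hpow, one_mul, pow_one]
    have hst' : s * t = t * s := by rw [hs, ht, ← pow_add, ← pow_add]
    have h9 := nine_dvd htt hx3
    -- in `C(t)`
    set T : Subgroup Spor.Co1 := centralizer {t} with hT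
    have hsT : s ∈ T := by rw [hT, mem_centralizer_singleton_iff]; exact hst'
    have : Fact (Nat.Prime 3) := ⟨Nat.prime_three⟩
    have h5 : 3 ^ 2 ∣ Nat.card (centralizer ({(⟨s, hsT⟩ : T)} : Set T)) :=
      sq_dvd_cent (by norm_num only []; exact h9) ⟨1, Subtype.ext (by
        rw [Subgroup.coe_pow, pow_one]; exact hs3)⟩
    have h6 : (centralizer ({(⟨s, hsT⟩ : T)} : Set T)).map T.subtype ≤ H := by
      rintro _ ⟨y, hy, rfl⟩
      have h7 : (y : Spor.Co1) * s = s * y := congrArg Subtype.val (mem_centralizer_singleton_iff.1 hy)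
      have h8 : (y : Spor.Co1) * t = t * y := mem_centralizer_singleton_iff.1 y.2
      rw [hH, mem_centralizer_singleton_iff, hst]
      show (y : Spor.Co1) * (s * t) = s * t * y
      rw [← mul_assoc, h7, mul_assoc, h8, mul_assoc]
    have h7 := Subgroup.card_dvd_of_le h6
    rw [← Nat.card_congr ((centralizer ({(⟨s, hsT⟩ : T)} : Set T)).equivMapOfInjective T.subtype
      T.subtype_injective).toEquiv] at h7
    have h8 := dvd_trans h5 h7
    rw [← hc, h] at h8
    norm_num at h8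
  · have h3 := key 7 (by norm_num) (by norm_num) ⟨1, by rw [pow_one, ← h]; exact hpow⟩
    rw [h] at h3
    norm_num at h3

end CoOne

end Cfsg.Agent.H593.OZ
end

-- part: H678/OZ/RowCoOne
section
/-!
# S4842, the row of `Co1` (helper678; `9 ≤ |C(x)|`: helper593)
-/

set_option autoImplicit false

open Cfsg Cfsg.Agent.Characters Cfsg.Agent.H686.CharKit Cfsg.Agent.H732.VZ Cfsg.Agent.H604.OZ

namespace Cfsg.Agent.H678.OZ

universe u

theorem CoOne.data [Finite Spor.Co1] : CoOne.Data Spor.Co1 where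
  simple := Cfsg.Agent.S0399.result.1
  card := Cfsg.Agent.S0399.result.2
  c11 := CoOneData.c11
  c13 := CoOneData.c13
  c23 := CoOneData.c23
  two7 := CoOneSeven.two7
  syl7 := CoOneSeven.syl7
  dod := CoOneDod.exists_dod
  two_le := fun x _ _ => H593.OZ.CoOne.nine_le x
  not_six := fun x h => by
    have h1 : 9 ≤ cent x := H593.OZ.CoOne.nine_le x
    omega

theorem row_co1' [Finite Spor.Co1] : H730.OZ.Row Spor.Co1 :=
  row_of fun _ _ h => CoOne.data.false h

/-- **`Co₁`.** -/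
theorem row_co1 {S : Type u} [Group S] [Finite S] (_hs : IsSimpleGroup S) (h : Spor.IsoCo1 S) :
    H730.OZ.Row S := by
  obtain ⟨e⟩ := h
  have hfin : Finite Spor.Co1 := Finite.of_equiv _ e.toEquiv
  exact H730.OZ.Row.congr e row_co1'

end Cfsg.Agent.H678.OZ
end

private theorem dce_dc5ac4fc62c9 : _root_.True := by
  try have : _root_.True := by simp only [_root_.Cfsg.Agent.H3.Ore.FN.FB.eq_1]
  try have : _root_.True := by simp only [_root_.Cfsg.Agent.H320.OZ.lF.eq_1]
  try have : _root_.True := by simp only [_root_.Cfsg.Agent.H3.Ore.FN.FA.eq_1]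
  try have : _root_.True := by simp only [_root_.Cfsg.Agent.H678.OZ.CoOne.l.eq_1]
  try have : _root_.True := by simp only [_root_.Cfsg.Agent.H320.OZ.FiE.zE.eq_1]
  try have : _root_.True := by simp only [_root_.Cfsg.Agent.H320.OZ.FiE.yE.eq_1]
  exact _root_.True.intro
end
end
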