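import Cfsg.Agent.H448.FprExc.RowD4
import Cfsg.Agent.H129.CycRow
import Cfsg.Agent.Lib.Zsigmondy
import Cfsg.Agent.H849.OZ.Bad_m3
import Cfsg.Agent.H129.CycExc
import Cfsg.Agent.H448.FprExc.RowG2_m3
import Cfsg.Agent.S1063
import Cfsg.Agent.S1064
import Cfsg.Agent.S1066
import Cfsg.Agent.S1067
import Cfsg.Agent.S1065
import Cfsg.Agent.FastGrp
import Cfsg.Agent.Prune
set_option linter.all false

section
prune_inst 0x7ffefffdefbd9ffeffff7e3ffef9dffe12c4cfffafdffb4bffeeebbfbfff33821bcdfb8f1de098ff0ed6e0b430b87813fbffffffef6ffc7ffffdfff41ffbee5ff7ffb7a951d194240ffc6fff9bf17f8e7f3fffffffffffffffffffffffffffbeffffffffffff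

-- part: H448/Van/Good
section
set_option linter.all false
open scoped Cfsg.Agent.FastGrp

/-!
# Good primes (helper448, S4842)

* `Good G p r` : `r` is a prime whose Sylow subgroups are cyclic, with an element `z` of order `r` whose centraliser is
  an abelian `p'`-group, and the `r`-singular elements form at least two classes;
* `good_of` : from `CycAt`;
* `exists_not_conj` : from the index of the centraliser in the normaliser;
* `exists_prim` : the primes.
-/

set_option autoImplicit false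

namespace Cfsg.Agent.H448.Van

open Subgroup Cfsg.Agent.H129 Cfsg.Agent.H129.CycT

/-- `r` is a good prime for the group `G` of Lie type in characteristic `p` -/
structure Good (G : Type*) [Group G] (p r : ℕ) : Prop where
  prime : r.Prime
  ne : r ≠ p
  ex : ∃ (R : Sylow r G) (z : G), IsCyclic R ∧ z ∈ R ∧ orderOf z = r ∧
    centralizer ({z} : Set G) ≤ centralizer ((R : Subgroup G) : Set G) ∧
    Nat.Coprime p (Nat.card (centralizer ({z} : Set G))) ∧
    (Nat.card (centralizer ({z} : Set G)) ≠ r ∨ ∃ i : ℕ, i.Coprime r ∧ ¬ IsConj z (z ^ i))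

section Conj

variable {G : Type*} [Group G] [Finite G] {r : ℕ}

theorem exists_not_conj {x : G} (hr : r.Prime) (hx : orderOf x = r) {n : ℕ}
    (hn : Nat.card (normalizer ((zpowers x : Subgroup G) : Set G)) = Nat.card (centralizer ({x} : Set G)) * n)
    (h : n < r - 1) : ∃ i : ℕ, i.Coprime r ∧ ¬ IsConj x (x ^ i) := by
  by_contra! hcon
  have : Fact r.Prime := ⟨hr⟩
  obtain ⟨g, hg⟩ := IsCyclic.exists_generator (α := (ZMod r)ˣ)
  have hgo : orderOf g = r - 1 := by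
    rw [orderOf_eq_card_of_forall_mem_zpowers hg, Nat.card_eq_fintype_card, ZMod.card_units_eq_totient,
      Nat.totient_prime hr]
  obtain ⟨j, hj⟩ : ∃ j : ℕ, (j : ZMod r) = (g : ZMod r) := ⟨(g : ZMod r).val, by rw [ZMod.natCast_val, ZMod.cast_id]⟩
  have hjc : j.Coprime r := by
    rw [← ZMod.isUnit_iff_coprime, hj]
    exact g.isUnit
  obtain ⟨y, hy⟩ := isConj_iff.1 (hcon j hjc)
  have hyN : y ∈ normalizer ((zpowers x : Subgroup G) : Set G) := by
    refine mem_normalizer_fintype fun a ha => ?_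
    obtain ⟨k, rfl⟩ := mem_zpowers_iff.1 ha
    rw [← conj_zpow, hy]
    exact zpow_mem (pow_mem (mem_zpowers x) j) k
  have hcN : centralizer ({x} : Set G) ≤ normalizer ((zpowers x : Subgroup G) : Set G) := by
    intro c hc
    refine mem_normalizer_fintype fun a ha => ?_
    obtain ⟨k, rfl⟩ := mem_zpowers_iff.1 ha
    have h1 : c * x * c⁻¹ = x := by rw [mem_centralizer_singleton_iff.1 hc]; group
    rw [← conj_zpow, h1]
    exact zpow_mem (mem_zpowers x) k
  have hinj : Function.Injective (fun a : Fin (r - 1) × ↥(centralizer ({x} : Set G)) =>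
      (⟨y ^ (a.1 : ℕ) * a.2, mul_mem (pow_mem hyN _) (hcN a.2.2)⟩ :
        ↥(normalizer ((zpowers x : Subgroup G) : Set G)))) := by
    rintro ⟨i, c⟩ ⟨i', c'⟩ heq
    have h1 : y ^ (i : ℕ) * c = y ^ (i' : ℕ) * c' := congrArg Subtype.val heq
    have key : ∀ (i : ℕ) (c : ↥(centralizer ({x} : Set G))), y ^ i * c * x * (y ^ i * c)⁻¹ = x ^ j ^ i := by
      intro i c
      rw [← Cfsg.Agent.H448.FprExc.conj_pow_iter hy i]
      have := mem_centralizer_singleton_iff.1 c.2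
      rw [mul_inv_rev, mul_assoc (y ^ i) _ x, this]
      group
    have h2 : x ^ j ^ (i : ℕ) = x ^ j ^ (i' : ℕ) := by rw [← key i c, ← key i' c', h1]
    rw [pow_eq_pow_iff_modEq, hx, ← ZMod.natCast_eq_natCast_iff] at h2
    push_cast at h2
    rw [hj] at h2
    have h3 : g ^ (i : ℕ) = g ^ (i' : ℕ) := Units.ext (by push_cast; exact h2)
    rw [pow_eq_pow_iff_modEq, hgo] at h3
    have h4 : (i : ℕ) = i' := by
      rw [Nat.ModEq, Nat.mod_eq_of_lt i.2, Nat.mod_eq_of_lt i'.2] at h3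
      exact h3
    rw [h4] at h1
    have h5 := mul_left_cancel h1
    exact Prod.ext (Fin.ext h4) (Subtype.ext h5)
  have h1 := Nat.card_le_card_of_injective _ hinj
  rw [Nat.card_prod, hn, Nat.card_fin, mul_comm] at h1
  have := Nat.le_of_mul_le_mul_left h1 Nat.card_pos
  omega

/-- **Sylow's theorem modulo `r`**: the index of the centraliser in the normaliser of a self-centralising subgroup of
order `r`. -/
theorem exists_not_conj_of_card {x : G} (hr : r.Prime) (hx : orderOf x = r)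
    (hc : Nat.card (centralizer ({x} : Set G)) = r) {m : ℕ} (hm : Nat.card G = r * m) (h : (m + 1) % r ≠ 0) :
    ∃ i : ℕ, i.Coprime r ∧ ¬ IsConj x (x ^ i) := by
  have : Fact r.Prime := ⟨hr⟩
  obtain ⟨y, j, hyj, hcard⟩ := Cfsg.Agent.H448.FprExc.exists_gen hx
  have hpx : IsPGroup r (zpowers x) := IsPGroup.of_card (n := 1) (by rw [Nat.card_zpowers, hx, pow_one])
  obtain ⟨P, hP⟩ := hpx.exists_le_sylow
  have hTx : centralizer ({x} : Set G) = zpowers x := by
    have h1 : zpowers x ≤ centralizer ({x} : Set G) := by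
      rw [zpowers_le]; exact mem_centralizer_singleton_iff.2 rfl
    exact (eq_of_le_of_card_ge h1 (by rw [hc, Nat.card_zpowers, hx])).symm
  have hcent : ∀ z ∈ zpowers x, orderOf z = r → centralizer ({z} : Set G) ≤ zpowers x := by
    intro z hz hzr
    have h1 : zpowers z = zpowers x :=
      eq_of_le_of_card_ge (by rw [zpowers_le]; exact hz) (by rw [Nat.card_zpowers, Nat.card_zpowers, hx, hzr])
    have h2 : x ∈ zpowers z := by rw [h1]; exact mem_zpowers x
    obtain ⟨k, hk⟩ := mem_zpowers_iff.1 h2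
    rw [← hTx]
    intro a ha
    rw [mem_centralizer_singleton_iff] at ha ⊢
    rw [← hk]
    exact (Commute.zpow_right (show Commute a z from ha) k)
  have hPx : (P : Subgroup G) = zpowers x := by
    have h1 := Cfsg.Agent.H448.FprExc.cyclic_sylow (T := zpowers x) inferInstance (mem_zpowers x) hx hcent P
    refine le_antisymm ?_ hP
    rw [← hTx]
    exact le_centralizer_of_cyclic h1 (hP (mem_zpowers x))
  have h1 := card_sylow_modEq_one r G
  have h2 : Nat.card (Sylow r G) = (normalizer ((P : Subgroup G) : Set G)).index := P.card_eq_index_normalizer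
  rw [hPx] at h2
  have h3 : Nat.card G = Nat.card (normalizer ((zpowers x : Subgroup G) : Set G)) * Nat.card (Sylow r G) := by
    rw [h2, card_mul_index]
  rw [hcard, hc, hm, mul_assoc] at h3
  have h4 : m = orderOf (j : ZMod r) * Nat.card (Sylow r G) := Nat.eq_of_mul_eq_mul_left hr.pos h3
  have h5 : m ≡ orderOf (j : ZMod r) [MOD r] := by
    rw [h4]
    simpa using h1.mul_left (orderOf (j : ZMod r))
  have hj0 : (j : ZMod r) ≠ 0 := by
    intro h0
    rw [CharP.cast_eq_zero_iff (ZMod r) r] at h0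
    obtain ⟨i, rfl⟩ := h0
    have h1 : x ^ (r * i) = 1 := by rw [pow_mul, ← hx, pow_orderOf_eq_one, one_pow]
    rw [h1] at hyj
    have h2 : x = 1 := by
      have : x = y⁻¹ * (y * x * y⁻¹) * y := by group
      rw [this, hyj]; group
    rw [h2, orderOf_one] at hx
    exact hr.one_lt.ne hx
  refine exists_not_conj hr hx hcard (lt_of_le_of_ne ?_ ?_)
  · exact Nat.le_of_dvd (by have := hr.two_le; omega) (orderOf_dvd_of_pow_eq_one (ZMod.pow_card_sub_one_eq_one hj0))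
  · intro h6
    apply h
    have h7 := h5.add_right 1
    rw [h6, Nat.sub_add_cancel hr.one_lt.le] at h7
    rw [h7]
    exact Nat.mod_self r

end Conj

section Main

variable {G : Type*} [Group G] [Finite G] {p r : ℕ}

/-- **Good primes** from the self-centralising cyclic tori. -/
theorem good_of_T (hr : r.Prime) {T : Subgroup G} (hT : IsCyclic ↥T) (hrT : r ∣ Nat.card ↥T)
    (hcent : ∀ y ∈ T, orderOf y = r → centralizer ({y} : Set G) ≤ T)
    (hN : ∀ x ∈ T, orderOf x = r → p.Coprime (Nat.card (centralizer ({x} : Set G))))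
    (h2 : ∀ x ∈ T, orderOf x = r → Nat.card (centralizer ({x} : Set G)) ≠ r ∨ ∃ i : ℕ, i.Coprime r ∧ ¬ IsConj x (x ^ i)) :
    Good G p r := by
  have : Fact r.Prime := ⟨hr⟩
  obtain ⟨⟨z, hzT⟩, hz⟩ := exists_prime_orderOf_dvd_card' r hrT
  rw [Subgroup.orderOf_mk] at hz
  have hpz : IsPGroup r (zpowers z) := IsPGroup.of_card (n := 1) (by rw [Nat.card_zpowers, hz, pow_one])
  obtain ⟨R, hR⟩ := hpz.exists_le_sylow
  have hRc := Cfsg.Agent.H448.FprExc.cyclic_sylow hT hzT hz hcent R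
  have hzR : z ∈ (R : Subgroup G) := hR (mem_zpowers z)
  have hRT : (R : Subgroup G) ≤ T := (le_centralizer_of_cyclic hRc hzR).trans (hcent z hzT hz)
  refine ⟨hr, ?_, R, z, hRc, hzR, hz, ?_, hN z hzT hz, h2 z hzT hz⟩
  · rintro rfl
    have h1 : orderOf z ∣ Nat.card (centralizer ({z} : Set G)) := by
      have h3 : z ∈ centralizer ({z} : Set G) := mem_centralizer_singleton_iff.2 rfl
      have h4 := orderOf_dvd_natCard (⟨z, h3⟩ : ↥(centralizer ({z} : Set G)))
      rwa [Subgroup.orderOf_mk] at h4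
    rw [hz] at h1
    exact hr.one_lt.ne' ((Nat.coprime_self r).1 ((hN z hzT hz).coprime_dvd_right h1))
  · refine (hcent z hzT hz).trans fun a ha => ?_
    rw [mem_centralizer_iff]
    intro b hb
    have := (IsCyclic.commGroup (α := T)).mul_comm ⟨b, hRT hb⟩ ⟨a, ha⟩
    exact congrArg Subtype.val this

omit [Finite G] in
/-- the centraliser is the torus -/
theorem cent_eq {T : Subgroup G} (hT : IsCyclic ↥T) (hcent : ∀ y ∈ T, orderOf y = r → centralizer ({y} : Set G) ≤ T)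
    {x : G} (hxT : x ∈ T) (hx : orderOf x = r) : centralizer ({x} : Set G) = T :=
  le_antisymm (hcent x hxT hx) (le_centralizer_of_cyclic hT hxT)

theorem good_of (hr : r.Prime) (hc : CycAt G r)
    (hN : ∀ x : G, orderOf x = r → p.Coprime (Nat.card (centralizer ({x} : Set G))))
    (h2 : ∀ x : G, orderOf x = r → Nat.card (centralizer ({x} : Set G)) ≠ r ∨ ∃ i : ℕ, i.Coprime r ∧ ¬ IsConj x (x ^ i)) :
    Good G p r := by
  obtain ⟨T, hT, hrT, hcent⟩ := hc
  exact good_of_T hr hT hrT hcent (fun x _ => hN x) (fun x _ => h2 x)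

/-- a torus of known order -/
theorem good_of_card (hr : r.Prime) {T : Subgroup G} (hT : IsCyclic ↥T) {M d : ℕ} (h1 : Nat.card ↥T ∣ M)
    (h2 : M ∣ d * Nat.card ↥T) (hrM : r ∣ M) (hrd : ¬ r ∣ d) (hM : p.Coprime M)
    (hcent : ∀ y ∈ T, orderOf y = r → centralizer ({y} : Set G) ≤ T)
    (h3 : ¬ M ∣ d * r ∨ ∀ x : G, orderOf x = r → Nat.card (centralizer ({x} : Set G)) = r →
      ∃ i : ℕ, i.Coprime r ∧ ¬ IsConj x (x ^ i)) :
    Good G p r := by
  have hrT : r ∣ Nat.card ↥T := (hr.dvd_mul.1 (hrM.trans h2)).resolve_left hrd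
  refine good_of_T hr hT hrT hcent (fun x hxT hx => ?_) (fun x hxT hx => ?_)
  · rw [cent_eq hT hcent hxT hx]
    exact hM.coprime_dvd_right h1
  · by_cases h4 : Nat.card (centralizer ({x} : Set G)) = r
    · rcases h3 with h3 | h3
      · rw [cent_eq hT hcent hxT hx] at h4
        rw [h4] at h2
        exact absurd h2 h3
      · exact Or.inr (h3 x hx h4)
    · exact Or.inl h4

theorem exists_prim {a d : ℕ} (hp : p.Prime) (ha : 0 < a) (h2 : 3 ≤ a * d) (h6 : ¬ (p = 2 ∧ a * d = 6)) :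
    ∃ r : ℕ, r.Prime ∧ r ≠ p ∧ orderOf (p : ZMod r) = a * d ∧ orderOf ((p ^ a : ℕ) : ZMod r) = d ∧ a * d < r := by
  obtain ⟨r, hr, hord⟩ := Cfsg.Agent.Lib.Zsigmondy.exists_prime_orderOf (a := p) (n := a * d) hp.two_le (by omega)
    (by omega) h6
  have : Fact r.Prime := ⟨hr⟩
  have hp0 : (p : ZMod r) ≠ 0 := by
    intro h
    have h1 : ((0 : ZMod r)) ^ (a * d) = 1 := by rw [← h, ← hord]; exact pow_orderOf_eq_one _
    rw [zero_pow (by omega)] at h1
    exact zero_ne_one h1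
  refine ⟨r, hr, ?_, hord, ?_, ?_⟩
  · rintro rfl
    exact hp0 (CharP.cast_eq_zero (ZMod r) r)
  · push_cast
    rw [orderOf_pow' _ ha.ne', hord, Nat.gcd_mul_right_left, Nat.mul_div_cancel_left _ ha]
  · have h1 := Nat.le_of_dvd (by have := hr.two_le; omega)
      (orderOf_dvd_of_pow_eq_one (ZMod.pow_card_sub_one_eq_one hp0))
    rw [hord] at h1
    have := hr.two_le
    omega

end Main

end Cfsg.Agent.H448.Van
end

-- part: H448/Van/Cong
section
set_option linter.all false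
open scoped Cfsg.Agent.FastGrp

/-!
# The congruences of S4842 (helper448)

* `dvd_of_one` : `e p^m ≡ #{p-elements of C(z)}` modulo `r`, one character;
* `cong_of_iso`, `Good.cong` : an isolated prime gives `Cong p r 0 G`;
* `cong_of_kconst` : the version with `K`-constancy.
-/

set_option autoImplicit false

namespace Cfsg.Agent.H448.Van

open Cfsg Cfsg.Agent.Characters Finset Cfsg.Agent.H730.OZ
open Cfsg.Agent.H732.VZ (One Iso dvd_cases)
open Cfsg.Agent.H631.Kaw (pel mem_pel)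

universe u

variable {G : Type u} [Group G]

theorem finsum_eq_pel [Finite G] (p : ℕ) (f : G → ℂ) : ∑ᶠ u ∈ pSet p G, f u = ∑ g ∈ pel G p, f g := by
  classical
  have := Fintype.ofFinite G
  rw [finsum_pSet]
  refine Finset.sum_congr ?_ fun _ _ => rfl
  ext g
  rw [mem_filter, mem_pel]
  exact ⟨fun h => h.2, fun h => ⟨mem_univ _, h⟩⟩

/-- **The congruence** for one character. -/
theorem dvd_of_one [Finite G] {p r : ℕ} (hp : p.Prime) (hr : r.Prime) (hrp : r ≠ p) {z : G} (hz : orderOf z = r)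
    (χ : IrrCharacter G) (hrd : ¬ r ∣ charDegree (χ : G → ℂ))
    (hK : ∀ v, Commute z v → (∃ k, orderOf v = p ^ k) → (χ : G → ℂ) (z * v) = (χ : G → ℂ) z) {m : ℕ} {e : ℤ}
    (hm : ∑ᶠ u ∈ pSet p G, (χ : G → ℂ) u = (e : ℂ) * (p : ℂ) ^ m * (χ : G → ℂ) 1) :
    (r : ℤ) ∣ e * p ^ m - Nat.card {v : G // Commute z v ∧ ∃ k : ℕ, orderOf v = p ^ k} := by
  classical
  have := Fintype.ofFinite G
  rw [finsum_eq_pel] at hm
  set s : G → ℤ := fun g => if g ∈ pel G p then 1 else 0 with hs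
  have hs1 : ∀ g x : G, s (g * x * g⁻¹) = s x := by
    intro g y
    simp only [hs]
    have : g * y * g⁻¹ ∈ pel G p ↔ y ∈ pel G p := ⟨fun h => by
      have := H732.Kaw.conj_mem_pel g⁻¹ _ h
      have e : g⁻¹ * (g * y * g⁻¹) * g⁻¹⁻¹ = y := by group
      rwa [e] at this, H732.Kaw.conj_mem_pel g y⟩
    simp only [this]
  have hs2 : ∀ g, s g ≠ 0 → g ∈ pel G p := by
    intro g hg
    by_contra hgp
    exact hg (by simp only [hs, if_neg hgp])
  have hs3 : ∀ g, s g ≠ 0 → ¬ r ∣ orderOf g := by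
    intro g hg hd
    obtain ⟨k, hk⟩ := mem_pel.1 (hs2 g hg)
    rw [hk] at hd
    exact hrp ((Nat.prime_dvd_prime_iff_eq hr hp).1 (hr.dvd_of_dvd_pow hd))
  have hsum : ∑ g, (s g : ℂ) * (χ : G → ℂ) g = ((e * p ^ m : ℤ) : ℂ) * (χ : G → ℂ) 1 := by
    push_cast
    rw [← hm]
    have : ∀ g : G, (s g : ℂ) * (χ : G → ℂ) g = if g ∈ pel G p then (χ : G → ℂ) g else 0 := by
      intro g
      simp only [hs]
      split_ifs <;> simp
    rw [Finset.sum_congr rfl fun g _ => this g, ← Finset.sum_filter]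
    refine Finset.sum_congr ?_ fun _ _ => rfl
    ext g; simp
  have hc1 := H732.VZ.congr hr hz s hs1 hs3 χ hsum (fun v hv hsv => hK v hv (mem_pel.1 (hs2 v hsv))) hrd
  have hcent : ∑ g ∈ univ.filter (Commute z), s g
      = (Nat.card {v : G // Commute z v ∧ ∃ k : ℕ, orderOf v = p ^ k} : ℤ) := by
    simp only [hs]
    rw [← Finset.sum_filter, Finset.sum_const, nsmul_eq_mul, mul_one, Finset.filter_filter,
      Nat.card_eq_fintype_card, Fintype.card_subtype]
    congr 2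
    ext g
    simp only [mem_filter, mem_univ, true_and, mem_pel]
  rw [hcent] at hc1
  exact (Int.modEq_iff_dvd.1 hc1.symm)

/-- **An isolated prime gives the congruence with `k = 0`.** -/
theorem cong_of_iso [Finite G] {p r : ℕ} (hp : p.Prime) (h : Iso G p r) : Cong p r 0 G := by
  classical
  have := Fintype.ofFinite G
  rintro χ hχ ⟨x, hx0, hx⟩ m e - hm
  obtain ⟨hr, hrp, z, hz, h1, h2, h3, h4⟩ := h
  have hOne : One (⟨χ, hχ⟩ : IrrCharacter G) x := ⟨hx0, hx⟩
  have hrd : ¬ r ∣ charDegree χ := by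
    intro hd
    obtain ⟨h5, h6⟩ := dvd_cases hOne hr hz h1 h2 hd
    rcases h4 with h4 | ⟨m, hm1, hm2⟩
    · exact h4 h5
    · exact hm2 (h6 m hm1)
  have h7 := dvd_of_one hp hr hrp hz (⟨χ, hχ⟩ : IrrCharacter G) hrd
    (fun v hv hvp => by rw [h3 v hv hvp, mul_one]) hm
  have h8 : Nat.card {v : G // Commute z v ∧ ∃ k : ℕ, orderOf v = p ^ k} = 1 := by
    rw [Nat.card_eq_one_iff_unique]
    refine ⟨⟨fun v w => Subtype.ext ?_⟩, ⟨1, Commute.one_right z, 0, by simp⟩⟩
    rw [h3 v.1 v.2.1 v.2.2, h3 w.1 w.2.1 w.2.2]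
  rw [h8] at h7
  simpa using h7

/-- a good prime is isolated -/
theorem Good.iso [Finite G] {p r : ℕ} (h : Good G p r) : Iso G p r := by
  obtain ⟨hr, hne, R, z, hcyc, hzR, hz, hC, hcop, h2⟩ := h
  have : Fact r.Prime := ⟨hr⟩
  refine Iso.of_sylow hne R hcyc hz hzR hC hcop (h2.imp id ?_)
  rintro ⟨i, hi, h3⟩
  exact ⟨i, fun hd => hr.one_lt.ne' (hi.symm.eq_one_of_dvd hd), h3⟩

/-- **Good primes give congruences.** -/
theorem Good.cong [Finite G] {p r : ℕ} (hp : p.Prime) (h : Good G p r) : Cong p r 0 G := cong_of_iso hp h.iso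

end Cfsg.Agent.H448.Van
end

-- part: H448/Van/GoodE8
section
prune_inst 0x100021042600100000040010200000913100000000400001014400000801c040000208000200010010640080100400000000000000000000000004000000000000844000a2080100000006000001000000000000000000000000000000000000000000000
set_option linter.all false
open scoped Cfsg.Agent.FastGrp

/-!
# Good primes of `E₈(q)`, `F₄(q)`, `G₂(q)` (helper448, S4842)
-/

set_option autoImplicit false

namespace Cfsg.Agent.H448.Van

open Cfsg Cfsg.Lie Subgroup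
open Cfsg.Agent.H94.PG Cfsg.Agent.H564.NearTwo Cfsg.Agent.H182.Cent Cfsg.Agent.H129 Cfsg.Agent.H129.CycT Cfsg.Agent.H129.CycExc
open Cfsg.Agent.H378 Cfsg.Agent.H378.ExcAdj Cfsg.Agent.H378.CycTab Cfsg.Agent.H378.ExcNear Cfsg.Agent.H378.RegFin Cfsg.Agent.H378.AdjTab

universe u

section

variable (F : Type u) [Field F] [Finite F]

/-- a cyclic torus of order `≠ r` if `r` is small -/
def CycB (G : Type*) [Group G] (r b : ℕ) : Prop :=
  ∃ T : Subgroup G, IsCyclic ↥T ∧ r ∣ Nat.card ↥T ∧ (∀ y ∈ T, orderOf y = r → centralizer ({y} : Set G) ≤ T) ∧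
    (r ≤ b + 1 → Nat.card ↥T ≠ r)

theorem CycB.of_exact {G : Type*} [Group G] {N r b : ℕ} (h : CycExact G N) (hr : r.Prime) (hrN : r ∣ N)
    (hb : r ≤ b + 1 → N ≠ r) : CycB G r b := by
  obtain ⟨T, hT, hcard, hcent⟩ := h
  refine ⟨T, hT, hcard ▸ hrN, fun y hy hyr => (hcent y hy ?_).le, fun h => by rw [hcard]; exact hb h⟩
  rintro rfl
  rw [orderOf_one] at hyr
  exact hr.one_lt.ne hyr

theorem CycB.of_at {G : Type*} [Group G] {r b : ℕ} (h : CycAt G r) (hb : b + 1 < r) : CycB G r b := by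
  obtain ⟨T, hT, hrT, hcent⟩ := h
  exact ⟨T, hT, hrT, hcent, fun h => by omega⟩

/-- `φ(n) ≤ 8` implies `n ≤ 30` -/
theorem at_E8 {r : ℕ} (hr : r.Prime) (hd : od (Nat.card F) r = 15 ∨ od (Nat.card F) r = 20 ∨ od (Nat.card F) r = 24 ∨
    od (Nat.card F) r = 30) : CycB ↥(chevE8.group F) r 30 := by
  have := Fintype.ofFinite F
  have hF : Fintype.card F = Nat.card F := Nat.card_eq_fintype_card.symm
  have hq2 : (2 : ℤ) ≤ Nat.card F := by exact_mod_cast Finite.one_lt_card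
  set q : ℤ := (Nat.card F : ℤ) with hq
  have h2 : (4 : ℤ) ≤ q ^ 2 := by nlinarith only [hq2]
  have h3 : (8 : ℤ) ≤ q ^ 3 := by nlinarith only [hq2, h2]
  have h4 : (16 : ℤ) ≤ q ^ 4 := by nlinarith only [h2]
  rcases hd with h | h | h | h
  · have h1 := dvd15 hr h
    rw [pv15] at h1
    obtain ⟨N, hN⟩ := exists_nat (z := 1 - q + q ^ 3 - q ^ 4 + q ^ 5 - q ^ 7 + q ^ 8) (by
      have e : 1 - q + q ^ 3 - q ^ 4 + q ^ 5 - q ^ 7 + q ^ 8 =
          1 + q * (q ^ 2 - 1) + q ^ 4 * (q - 1) + q ^ 4 * (q ^ 3 * (q - 1)) := by ring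
      rw [e]
      have h5 : 0 ≤ q * (q ^ 2 - 1) := mul_nonneg (by linarith only [hq2]) (by linarith only [h2])
      have h6 : 0 ≤ q ^ 4 * (q - 1) := mul_nonneg (by linarith only [h4]) (by linarith only [hq2])
      have h7 : 0 ≤ q ^ 4 * (q ^ 3 * (q - 1)) := mul_nonneg (by linarith only [h4]) (mul_nonneg (by linarith only [h3]) (by linarith only [hq2]))
      linarith only [h5, h6, h7])
    refine CycB.of_exact (exact_E8_15 hF hN) hr ?_ (fun hb => ?_)
    on_goal 2 =>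
      have h8 : (128 : ℤ) ≤ q ^ 7 := by nlinarith only [h3, h4]
      have e : 1 - q + q ^ 3 - q ^ 4 + q ^ 5 - q ^ 7 + q ^ 8 =
          1 + q * (q ^ 2 - 1) + q ^ 4 * (q - 1) + q ^ 7 * (q - 1) := by ring
      have h5 : 0 ≤ q * (q ^ 2 - 1) := mul_nonneg (by linarith only [hq2]) (by linarith only [h2])
      have h6 : 0 ≤ q ^ 4 * (q - 1) := mul_nonneg (by linarith only [h4]) (by linarith only [hq2])
      have h7 : 128 * 1 ≤ q ^ 7 * (q - 1) := mul_le_mul h8 (by linarith only [hq2]) (by norm_num) (by positivity)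
      omega
    have h5 : (r : ℤ) ∣ (N : ℤ) := by
      rw [hN]
      have e : 1 - q + q ^ 3 - q ^ 4 + q ^ 5 - q ^ 7 + q ^ 8 = q ^ 8 - q ^ 7 + q ^ 5 - q ^ 4 + q ^ 3 - q + 1 := by ring
      rw [e]
      exact h1
    exact Int.natCast_dvd_natCast.1 h5
  · have h1 := dvd20 hr h
    rw [pv20] at h1
    obtain ⟨N, hN⟩ := exists_nat (z := 1 - q ^ 2 + q ^ 4 - q ^ 6 + q ^ 8) (by
      have e : 1 - q ^ 2 + q ^ 4 - q ^ 6 + q ^ 8 = 1 + q ^ 2 * (q ^ 2 - 1) + q ^ 4 * (q ^ 2 * (q ^ 2 - 1)) := by ring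
      rw [e]
      have h5 : 0 ≤ q ^ 2 * (q ^ 2 - 1) := mul_nonneg (by linarith only [h2]) (by linarith only [h2])
      have h6 : 0 ≤ q ^ 4 * (q ^ 2 * (q ^ 2 - 1)) := mul_nonneg (by linarith only [h4]) h5
      linarith only [h5, h6])
    refine CycB.of_at (at_E8_20 hF hN hr ?_ (ne_of_od hr h (by norm_num) (by norm_num))) ?_
    on_goal 2 =>
      have h6 := mod_of_od hr h (by norm_num)
      by_contra hcon
      have h7 := hr.two_le
      obtain ⟨c, hc⟩ := h6
      have h8 : c = 0 ∨ c = 1 := by omega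
      rcases h8 with rfl | rfl
      · omega
      · have : r = 21 := by omega
        subst this
        exact absurd hr (by norm_num)
    have h5 : (r : ℤ) ∣ (N : ℤ) := by
      rw [hN]
      have e : 1 - q ^ 2 + q ^ 4 - q ^ 6 + q ^ 8 = q ^ 8 - q ^ 6 + q ^ 4 - q ^ 2 + 1 := by ring
      rw [e]
      exact h1
    exact Int.natCast_dvd_natCast.1 h5
  · have h1 := dvd24 hr h
    rw [pv24] at h1
    obtain ⟨N, hN⟩ := exists_nat (z := 1 - q ^ 4 + q ^ 8) (by
      have e : 1 - q ^ 4 + q ^ 8 = 1 + q ^ 4 * (q ^ 4 - 1) := by ring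
      rw [e]
      have h5 : 0 ≤ q ^ 4 * (q ^ 4 - 1) := mul_nonneg (by linarith only [h4]) (by linarith only [h4])
      linarith only [h5])
    refine CycB.of_exact (exact_E8_24 hF hN) hr ?_ (fun hb => ?_)
    on_goal 2 =>
      have e : 1 - q ^ 4 + q ^ 8 = 1 + q ^ 4 * (q ^ 4 - 1) := by ring
      have h7 : 16 * 15 ≤ q ^ 4 * (q ^ 4 - 1) := mul_le_mul h4 (by linarith only [h4]) (by norm_num) (by positivity)
      omega
    have h5 : (r : ℤ) ∣ (N : ℤ) := by
      rw [hN]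
      have e : 1 - q ^ 4 + q ^ 8 = q ^ 8 - q ^ 4 + 1 := by ring
      rw [e]
      exact h1
    exact Int.natCast_dvd_natCast.1 h5
  · have h1 := dvd30 hr h
    rw [pv30] at h1
    obtain ⟨N, hN⟩ := exists_nat (z := 1 + q - q ^ 3 - q ^ 4 - q ^ 5 + q ^ 7 + q ^ 8) (by
      have e : 1 + q - q ^ 3 - q ^ 4 - q ^ 5 + q ^ 7 + q ^ 8 =
          1 + q + q ^ 3 * (q ^ 2 * (q ^ 2 - 1) + (q * (q ^ 4 - 1) - 1)) := by ring
      rw [e]
      have h5 : 0 ≤ q ^ 2 * (q ^ 2 - 1) := mul_nonneg (by linarith only [h2]) (by linarith only [h2])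
      have h6 : 0 ≤ q * (q ^ 4 - 1) - 1 := by nlinarith only [hq2, h2, h3]
      have h7 : 0 ≤ q ^ 3 * (q ^ 2 * (q ^ 2 - 1) + (q * (q ^ 4 - 1) - 1)) := mul_nonneg (by linarith only [h3]) (by linarith only [h5, h6])
      linarith only [hq2, h7])
    refine CycB.of_exact (exact_E8_30 hF hN) hr ?_ (fun hb => ?_)
    on_goal 2 =>
      have e : 1 + q - q ^ 3 - q ^ 4 - q ^ 5 + q ^ 7 + q ^ 8 =
          1 + q + q ^ 3 * (q ^ 2 * (q ^ 2 - 1) + (q * (q ^ 4 - 1) - 1)) := by ring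
      have h5 : 12 ≤ q ^ 2 * (q ^ 2 - 1) := by nlinarith only [h2]
      have h6 : 0 ≤ q * (q ^ 4 - 1) - 1 := by nlinarith only [hq2, h2, h3]
      have h7 : 8 * 12 ≤ q ^ 3 * (q ^ 2 * (q ^ 2 - 1) + (q * (q ^ 4 - 1) - 1)) :=
        mul_le_mul h3 (by linarith only [h5, h6]) (by norm_num) (by positivity)
      omega
    have h5 : (r : ℤ) ∣ (N : ℤ) := by
      rw [hN]
      have e : 1 + q - q ^ 3 - q ^ 4 - q ^ 5 + q ^ 7 + q ^ 8 = q ^ 8 + q ^ 7 - q ^ 5 - q ^ 4 - q ^ 3 + q + 1 := by ring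
      rw [e]
      exact h1
    exact Int.natCast_dvd_natCast.1 h5

end

/-- `φ(n) ≤ 8` implies `n ≤ 30` -/
theorem le_of_totient_eight {n : ℕ} (hn : 0 < n) (h : n.totient ≤ 8) : n ≤ 30 := by
  have h1 := Cfsg.Agent.H365.Zsig.le_two_mul_totient_sq hn
  have h2 : n.totient ^ 2 ≤ 8 ^ 2 := Nat.pow_le_pow_left h 2
  have h3 : n < 129 := by omega
  revert h
  have key : ∀ m < 129, m.totient ≤ 8 → m ≤ 30 := by decide +kernel
  exact key n h3

theorem le_of_totient_four {n : ℕ} (hn : 0 < n) (h : n.totient ≤ 4) : n ≤ 12 := by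
  have h1 := Cfsg.Agent.H365.Zsig.le_two_mul_totient_sq hn
  have h2 : n.totient ^ 2 ≤ 4 ^ 2 := Nat.pow_le_pow_left h 2
  have h3 : n < 33 := by omega
  revert h
  have key : ∀ m < 33, m.totient ≤ 4 → m ≤ 12 := by decide +kernel
  exact key n h3

theorem le_of_totient_two {n : ℕ} (hn : 0 < n) (h : n.totient ≤ 2) : n ≤ 6 := by
  have h1 := Cfsg.Agent.H365.Zsig.le_two_mul_totient_sq hn
  have h2 : n.totient ^ 2 ≤ 2 ^ 2 := Nat.pow_le_pow_left h 2
  have h3 : n < 9 := by omega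
  revert h
  have key : ∀ m < 9, m.totient ≤ 2 → m ≤ 6 := by decide +kernel
  exact key n h3

open Cfsg.Agent.BpExc.RowsUntw Cfsg.Agent.BpExc.FamInst

/-- the classes of elements of order `r` from the bound for the normaliser -/
theorem exists_not_conj_untw {D : ChevalleyDatum} {l : ℕ} {M : CoxeterMatrix (Fin l)} (hp : Cfsg.Agent.Nodes.RGDChev.IsType D l M)
    {F : Type u} [Field F] [Finite F] {r m b : ℕ} (hr : r.Prime) (h : od (Nat.card F) r = m)
    (hl : m.totient = l) (hlm : l < m) (hb : ∀ n, 0 < n → n.totient ≤ l → n ≤ b) (hbr : b + 1 < r) {x : ↥(D.group F)}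
    (hx : orderOf x = r) : ∃ i : ℕ, i.Coprime r ∧ ¬ IsConj x (x ^ i) := by
  have : Fact r.Prime := ⟨hr⟩
  obtain ⟨n, hn, h1, h2, h3, -⟩ := Cfsg.Agent.H448.FprExc.nc_untw hp hx h hl hlm
  have h4 := hb n hn h3
  exact exists_not_conj hr hx h1 (by omega)

/-- the generic case: `p ^ a = q`, `φ(d) = l` -/
theorem good_untw {D : ChevalleyDatum} {l : ℕ} {M : CoxeterMatrix (Fin l)} (hp : Cfsg.Agent.Nodes.RGDChev.IsType D l M)
    {d' : ℕ} {B : Fin l → Fin l → ℤ} (hB : Cfsg.Agent.BpExc.FamExt.InvC D l d' B) (hd' : d' ≠ 0)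
    {F : Type u} [Field F] [Fintype F] {p a m b : ℕ} (hpp : p.Prime) (ha : 0 < a) (hF : Fintype.card F = p ^ a)
    (h3 : 3 ≤ a * m) (h6 : ¬ (p = 2 ∧ a * m = 6))
    (hl : m.totient = l) (hlm : l < m) (hb : ∀ n, 0 < n → n.totient ≤ l → n ≤ b)
    (hc : ∀ r : ℕ, r.Prime → od (Nat.card F) r = m → m ∣ r - 1 → CycB ↥(D.group F) r b) :
    ∃ r, Good ↥(D.group F) p r ∧ orderOf (p : ZMod r) = a * m := by
  obtain ⟨r, hr, hrp, h1, h2, h4⟩ := exists_prim (a := a) (d := m) hpp ha h3 h6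
  have hFc : Nat.card F = p ^ a := by rw [Nat.card_eq_fintype_card, hF]
  have ho : od (Nat.card F) r = m := by rw [hFc]; exact h2
  have hm : 0 < m := by omega
  obtain ⟨T, hT, hrT, hcent, hTr⟩ := hc r hr ho (mod_of_od hr ho hm)
  refine ⟨r, good_of_T hr hT hrT hcent (fun x hxT hx => ?_) (fun x hxT hx => ?_), h1⟩
  · have h5 := (RegFin.cent_od hp hB hd' hr hx ho hl hlm).2
    refine Nat.Coprime.coprime_dvd_right h5 ?_
    rw [Nat.Prime.coprime_iff_not_dvd hpp]
    intro h6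
    have h7 : (p : ℤ) ∣ (Polynomial.cyclotomic m ℤ).eval ((Nat.card F : ℕ) : ℤ) := Int.natCast_dvd.2 h6
    have h8 := h7.trans (Polynomial.eval_dvd (x := ((Nat.card F : ℕ) : ℤ)) (Polynomial.cyclotomic.dvd_X_pow_sub_one m ℤ))
    rw [Polynomial.eval_sub, Polynomial.eval_pow, Polynomial.eval_X, Polynomial.eval_one, hFc, Nat.cast_pow] at h8
    have h9 : (p : ℤ) ∣ ((p : ℤ) ^ a) ^ m := dvd_pow (dvd_pow_self _ ha.ne') hm.ne'
    have h10 : (p : ℤ) ∣ 1 := by
      have := dvd_sub h9 h8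
      rwa [sub_sub_cancel] at this
    exact hpp.one_lt.ne' (Nat.dvd_one.1 (by exact_mod_cast h10))
  · by_cases h5 : b + 1 < r
    · exact Or.inr (exists_not_conj_untw hp hr ho hl hlm hb h5 hx)
    · exact Or.inl (by rw [cent_eq hT hcent hxT hx]; exact hTr (by omega))

/-- **`E₈(q)`** -/
theorem good_E8 {F : Type u} [Field F] [Fintype F] {p a m : ℕ} (hpp : p.Prime) (ha : 0 < a)
    (hF : Fintype.card F = p ^ a) (hm : m = 15 ∨ m = 20 ∨ m = 24 ∨ m = 30) :
    ∃ r, Good ↥(chevE8.group F) p r ∧ orderOf (p : ZMod r) = a * m := by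
  have ham : m ≤ a * m := Nat.le_mul_of_pos_left m ha
  exact good_untw e8T inv_E8 one_ne_zero hpp ha hF (b := 30) (by omega) (by omega)
    (by rcases hm with rfl | rfl | rfl | rfl <;> decide) (by omega) (fun n hn h => le_of_totient_eight hn h)
    (fun r hr ho _ => at_E8 F hr (by rw [ho]; exact hm))

/-- **`F₄(q)`**, the primes of order 8. -/
theorem good_F4_8 {F : Type u} [Field F] [Fintype F] {p a : ℕ} (hpp : p.Prime) (ha : 0 < a)
    (hF : Fintype.card F = p ^ a) : ∃ r, Good ↥(chevF4.group F) p r ∧ orderOf (p : ZMod r) = a * 8 := by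
  have ham : 8 ≤ a * 8 := Nat.le_mul_of_pos_left 8 ha
  refine good_untw f4T inv_F4 one_ne_zero hpp ha hF (b := 12) (by omega) (by omega) (by decide) (by omega)
    (fun n hn h => le_of_totient_four hn h) (fun r hr ho h6 => ?_)
  have h1 := dvd8 hr ho
  rw [pv8] at h1
  refine CycB.of_at (at_F4_8 (q := Nat.card F) Nat.card_eq_fintype_card.symm (N := Nat.card F ^ 4 + 1)
    (by push_cast; ring) hr (by exact_mod_cast h1) (ne_of_od hr ho (by norm_num) (by norm_num))) ?_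
  by_contra hcon
  have h7 := hr.two_le
  obtain ⟨c, hc⟩ := h6
  have h8 : c = 0 ∨ c = 1 := by omega
  rcases h8 with rfl | rfl
  · omega
  · have : r = 9 := by omega
    subst this
    exact absurd hr (by norm_num)

/-- **`F₄(q)`**, the primes of order 12, `q ≠ 2`. -/
theorem good_F4_12 {F : Type u} [Field F] [Fintype F] {p a : ℕ} (hpp : p.Prime) (ha : 0 < a)
    (hF : Fintype.card F = p ^ a) (hq : p ^ a ≠ 2) :
    ∃ r, Good ↥(chevF4.group F) p r ∧ orderOf (p : ZMod r) = a * 12 := by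
  have ham : 12 ≤ a * 12 := Nat.le_mul_of_pos_left 12 ha
  refine good_untw f4T inv_F4 one_ne_zero hpp ha hF (b := 12) (by omega) (by omega) (by decide) (by omega)
    (fun n hn h => le_of_totient_four hn h) (fun r hr ho h6 => ?_)
  have h1 := dvd12 hr ho
  rw [pv12] at h1
  have hq3 : 3 ≤ Nat.card F := by
    have h2 : 2 ≤ Nat.card F := Finite.one_lt_card
    rw [Nat.card_eq_fintype_card, hF] at h2 ⊢
    omega
  have hle : Nat.card F ^ 2 ≤ Nat.card F ^ 4 := Nat.pow_le_pow_right (by omega) (by norm_num)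
  have hN : ((Nat.card F ^ 4 - Nat.card F ^ 2 + 1 : ℕ) : ℤ) = 1 - (Nat.card F : ℤ) ^ 2 + (Nat.card F : ℤ) ^ 4 := by
    push_cast [Nat.cast_sub hle]; ring
  refine CycB.of_exact (exact_F4_12 (q := Nat.card F) Nat.card_eq_fintype_card.symm hN) hr ?_ (fun hb h2 => ?_)
  · have : (r : ℤ) ∣ ((Nat.card F ^ 4 - Nat.card F ^ 2 + 1 : ℕ) : ℤ) := by
      rw [hN]
      have e : 1 - (Nat.card F : ℤ) ^ 2 + (Nat.card F : ℤ) ^ 4 = (Nat.card F : ℤ) ^ 4 - Nat.card F ^ 2 + 1 := by ring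
      rw [e]
      exact h1
    exact Int.natCast_dvd_natCast.1 this
  · have h3 : 9 ≤ Nat.card F ^ 2 := by nlinarith only [hq3]
    have h4 : Nat.card F ^ 4 = Nat.card F ^ 2 * Nat.card F ^ 2 := by ring
    have h5 : 9 * Nat.card F ^ 2 ≤ Nat.card F ^ 4 := by rw [h4]; exact Nat.mul_le_mul_right _ h3
    omega

/-- **`G₂(q)`**, the primes of order 6 -/
theorem good_G2_6 {F : Type u} [Field F] [Fintype F] {p a : ℕ} (hpp : p.Prime) (ha : 0 < a)
    (hF : Fintype.card F = p ^ a) (hq : p ^ a ≠ 2) (hq3 : p ^ a ≠ 3) :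
    ∃ r, Good ↥(chevG2.group F) p r ∧ orderOf (p : ZMod r) = a * 6 := by
  have ham : 6 ≤ a * 6 := Nat.le_mul_of_pos_left 6 ha
  have h6 : ¬ (p = 2 ∧ a * 6 = 6) := by
    rintro ⟨rfl, h⟩
    have : a = 1 := by omega
    subst this
    exact hq rfl
  refine good_untw g2T inv_G2 one_ne_zero hpp ha hF (b := 6) (by omega) h6 (by decide) (by omega)
    (fun n hn h => le_of_totient_two hn h) (fun r hr ho h6 => ?_)
  have h1 := dvd6 hr ho
  rw [pv6] at h1
  have h7 : 7 ≤ r := by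
    have h7 := hr.two_le
    obtain ⟨c, hc⟩ := h6
    rcases c with _ | c
    · omega
    · omega
  have hq4 : 4 ≤ Nat.card F := by
    have h2 : 2 ≤ Nat.card F := Finite.one_lt_card
    rw [Nat.card_eq_fintype_card, hF] at h2 ⊢
    omega
  have hle : Nat.card F ≤ Nat.card F ^ 2 := Nat.le_self_pow (by norm_num) _
  have hN : ((Nat.card F ^ 2 - Nat.card F + 1 : ℕ) : ℤ) = 1 - (Nat.card F : ℤ) + (Nat.card F : ℤ) ^ 2 := by
    push_cast [Nat.cast_sub hle]; ring
  have hrN : r ∣ Nat.card F ^ 2 - Nat.card F + 1 := by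
    have : (r : ℤ) ∣ ((Nat.card F ^ 2 - Nat.card F + 1 : ℕ) : ℤ) := by
      rw [hN]
      have e : 1 - (Nat.card F : ℤ) + (Nat.card F : ℤ) ^ 2 = (Nat.card F : ℤ) ^ 2 - Nat.card F + 1 := by ring
      rw [e]
      exact h1
    exact Int.natCast_dvd_natCast.1 this
  obtain ⟨T, hT, hcard, hcent⟩ := Cfsg.Agent.H448.FprExc.torus6 (q := Nat.card F) Nat.card_eq_fintype_card.symm
    hN hr h7 hrN
  refine ⟨T, hT, hcard ▸ hrN, hcent, fun hb h2 => ?_⟩
  rw [hcard] at h2
  have h3 : 4 * Nat.card F ≤ Nat.card F ^ 2 := by nlinarith only [hq4]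
  omega

end Cfsg.Agent.H448.Van
end

-- part: H448/Van/GoodEx
section
prune_inst 0x100001002600100000040010200002913100000000000001014400000801c04200420000020000021064b080100400000000000000000000000034000002000000804200e2890100000006000001000000000000000000000000000000000000000000000
set_option linter.all false
open scoped Cfsg.Agent.FastGrp

/-!
# Good primes of `E₆(q)`, `E₇(q)`, `²E₆(q)`, `³D₄(q)` (helper448, S4842)
-/

set_option autoImplicit false

namespace Cfsg.Agent.H448.Van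

open Cfsg Cfsg.Lie Subgroup
open Cfsg.Agent.H448.FprExc Cfsg.Agent.H378.ExcAdj Cfsg.Agent.H378.ExcNear
open Cfsg.Agent.BpExc.RowsUntw Cfsg.Agent.BpExc.FamInst

universe u

/-- `φ(n) ≤ 6` -/
theorem le_of_totient_six {n : ℕ} (hn : 0 < n) (h : n.totient ≤ 6) : n ≤ 18 :=
  Cfsg.Agent.H448.FprExc.le_of_totient_six hn h

/-- primes `≡ 1 (mod d)`, `r ≤ b`, for small bounds -/
theorem ge_of_mod {r d : ℕ} (hr : r.Prime) (h : d ∣ r - 1) : ∃ c, 0 < c ∧ r = d * c + 1 := by
  obtain ⟨c, hc⟩ := h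
  have h2 := hr.two_le
  refine ⟨c, Nat.pos_of_ne_zero ?_, by omega⟩
  rintro rfl
  omega

theorem coprime_pow_of_dvd {p a N : ℕ} (ha : 0 < a) (h : (p ^ a).Coprime N) : p.Coprime N :=
  Nat.Coprime.coprime_dvd_left (dvd_pow_self p ha.ne') h

theorem coprime_sq_mul {q : ℕ} (hq : 2 ≤ q) : q.Coprime ((q ^ 2 - 1) * (q ^ 4 + 1)) := by
  have hq4 : 4 ≤ q ^ 2 := by nlinarith
  refine Nat.Coprime.mul_right ?_ ?_
  · have h : q.Coprime (q * q - 1) := by
      rw [Nat.coprime_comm]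
      refine Nat.Coprime.coprime_mul_right_right (k := q) (Nat.coprime_self_sub_left ?_ |>.2 (Nat.coprime_one_left _))
      linarith only [hq4]
    rwa [← sq] at h
  · have e : q ^ 4 + 1 = q * q ^ 3 + 1 := by ring
    rw [e]
    simp

theorem no_dvd_of_sq {q r d : ℕ} (hq : 3 ≤ q) (h1 : r ≤ q ^ 4 + 1) (hr : 0 < r) (hd : d ≤ 3 ∧ 0 < d) :
    ¬ (q ^ 2 - 1) * (q ^ 4 + 1) ∣ d * r := by
  intro h
  have h2 := Nat.le_of_dvd (Nat.mul_pos hd.2 hr) h
  have h9 : 9 ≤ q ^ 2 := by nlinarith only [hq]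
  have h3 : d * r ≤ 3 * (q ^ 4 + 1) := Nat.mul_le_mul hd.1 h1
  have h4 : 8 * (q ^ 4 + 1) ≤ (q ^ 2 - 1) * (q ^ 4 + 1) := Nat.mul_le_mul_right _ (by omega)
  omega

section E6

variable {F : Type u} [Field F] [Fintype F]

/-- **`E₆(q)`**, the primes of order 9 -/
theorem good_E6_9 {p a : ℕ} (hpp : p.Prime) (ha : 0 < a) (hF : Fintype.card F = p ^ a) :
    ∃ r, Good ↥(chevE6.group F) p r ∧ orderOf (p : ZMod r) = a * 9 := by
  have ham : 9 ≤ a * 9 := Nat.le_mul_of_pos_left 9 ha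
  obtain ⟨r, hr, hrp, h1, h2, h4⟩ := exists_prim (a := a) (d := 9) hpp ha (by omega) (by omega)
  have : Fact r.Prime := ⟨hr⟩
  obtain ⟨q, hq⟩ : ∃ q, q = p ^ a := ⟨_, rfl⟩
  rw [← hq] at h2 hF
  have hq2 : 2 ≤ q := by rw [← hF]; exact Fintype.one_lt_card
  have hrN : r ∣ q ^ 6 + q ^ 3 + 1 := FprExc.dvd_9 h2 (N := q ^ 6 + q ^ 3 + 1) (by push_cast; ring)
  obtain ⟨T, hT, hT1, hT2, hcent⟩ := FprExc.torus9 hF (N := q ^ 6 + q ^ 3 + 1) (by push_cast; ring) hr (by omega) hrN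
  refine ⟨r, good_of_card hr hT hT1 hT2 hrN (fun h => ?_) ?_ hcent ?_, h1⟩
  · have := Nat.le_of_dvd (by norm_num) h
    omega
  · apply coprime_pow_of_dvd ha
    rw [← hq]
    have e : q ^ 6 + q ^ 3 + 1 = q * (q ^ 5 + q ^ 2) + 1 := by ring
    rw [e]
    simp
  · by_cases h5 : 19 < r
    · refine Or.inr fun x hx _ => ?_
      refine exists_not_conj_untw (b := 18) e6T hr (m := 9) (by rw [Nat.card_eq_fintype_card, hF]; exact h2)
        (by decide) (by omega) (fun n hn h => le_of_totient_six hn h) h5 hx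
    · refine Or.inl fun h => ?_
      have h6 := Nat.le_of_dvd (by omega) h
      have h7 : 2 ^ 6 ≤ q ^ 6 := Nat.pow_le_pow_left hq2 6
      omega

/-- **`E₆(q)`**, the primes of order 8 -/
theorem good_E6_8 {p a : ℕ} (hpp : p.Prime) (ha : 0 < a) (hF : Fintype.card F = p ^ a) :
    ∃ r, Good ↥(chevE6.group F) p r ∧ orderOf (p : ZMod r) = a * 8 := by
  have ham : 8 ≤ a * 8 := Nat.le_mul_of_pos_left 8 ha
  obtain ⟨r, hr, hrp, h1, h2, h4⟩ := exists_prim (a := a) (d := 8) hpp ha (by omega) (by omega)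
  have : Fact r.Prime := ⟨hr⟩
  obtain ⟨q, hq⟩ : ∃ q, q = p ^ a := ⟨_, rfl⟩
  rw [← hq] at h2 hF
  have hq2 : 2 ≤ q := by rw [← hF]; exact Fintype.one_lt_card
  have hrN : r ∣ q ^ 4 + 1 := FprExc.dvd_8 h2 (N := q ^ 4 + 1) (by push_cast; ring)
  have hq4 : 4 ≤ q ^ 2 := by nlinarith only [hq2]
  have hM : ((((q ^ 2 - 1) * (q ^ 4 + 1) : ℕ)) : ℤ) = -1 + (q : ℤ) ^ 2 - (q : ℤ) ^ 4 + (q : ℤ) ^ 6 := by
    push_cast [Nat.cast_sub (show 1 ≤ q ^ 2 by omega)]
    ring
  obtain ⟨T, hT, hT1, hT2, hcent⟩ := FprExc.torus8 hF (N := q ^ 4 + 1) (by push_cast; ring) hM hr (by omega) hrN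
  refine ⟨r, good_of_card hr hT hT1 hT2 (hrN.mul_left _) (fun h => ?_) ?_ hcent ?_, h1⟩
  · have := Nat.le_of_dvd (by norm_num) h
    omega
  · apply coprime_pow_of_dvd ha
    rw [← hq]
    exact coprime_sq_mul hq2
  · rcases Nat.lt_or_ge q 3 with hq3 | hq3
    · have hq' : q = 2 := by omega
      subst hq'
      have hr17 : r = 17 := (Nat.prime_dvd_prime_iff_eq hr (by norm_num)).1 (by simpa using hrN)
      subst hr17
      refine Or.inr fun x hx hc => ?_
      have hG := Cfsg.Agent.S1063.result hF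
      have e : Nat.gcd 3 (2 - 1) = 1 := by decide
      rw [e, one_mul] at hG
      exact exists_not_conj_of_card (by norm_num) hx hc (m := 12637739736588563251200) (by rw [hG]; norm_num)
        (by norm_num)
    · refine Or.inl fun h => ?_
      exact no_dvd_of_sq hq3 (Nat.le_of_dvd (by omega) hrN) (by omega) (by norm_num) h

end E6

section E7

variable {F : Type u} [Field F] [Fintype F]

theorem exists_N18 {q : ℕ} (hq : 2 ≤ q) : ∃ N : ℕ, (N : ℤ) = 1 - (q : ℤ) ^ 3 + (q : ℤ) ^ 6 ∧ 0 < N := by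
  obtain ⟨a, rfl⟩ : ∃ a, q = a + 2 := ⟨q - 2, by omega⟩
  exact ⟨1 + (a + 2) ^ 3 * (a * (a ^ 2 + 6 * a + 12) + 7), by push_cast; ring, by positivity⟩

/-- **`E₇(q)`**, the primes of order 18 -/
theorem good_E7_18 {p a : ℕ} (hpp : p.Prime) (ha : 0 < a) (hF : Fintype.card F = p ^ a) :
    ∃ r, Good ↥(chevE7.group F) p r ∧ orderOf (p : ZMod r) = a * 18 := by
  have ham : 18 ≤ a * 18 := Nat.le_mul_of_pos_left 18 ha
  obtain ⟨r, hr, hrp, h1, h2, h4⟩ := exists_prim (a := a) (d := 18) hpp ha (by omega) (by omega)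
  have : Fact r.Prime := ⟨hr⟩
  obtain ⟨q, hq⟩ : ∃ q, q = p ^ a := ⟨_, rfl⟩
  rw [← hq] at h2 hF
  have hq2 : 2 ≤ q := by rw [← hF]; exact Fintype.one_lt_card
  obtain ⟨N, hN, hN0⟩ := exists_N18 hq2
  have hrN : r ∣ N := FprExc.dvd_18 h2 hN
  obtain ⟨T, hT, hT1, hT2, hcent⟩ := FprExc.torus18 hF hN hr (by omega) hrN
  refine ⟨r, good_of_card hr hT hT1 hT2 (hrN.mul_left _) (fun h => ?_) ?_ hcent (Or.inl fun h => ?_), h1⟩
  · have := Nat.le_of_dvd (by norm_num) h
    omega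
  · apply coprime_pow_of_dvd ha
    rw [← hq]
    exact Cfsg.Agent.H129.UntwData.coprime_of_eq (a := 1 - (q : ℤ) ^ 2 - (q : ℤ) ^ 3 + (q : ℤ) ^ 5 + (q : ℤ) ^ 6)
      (by push_cast; rw [hN]; ring)
  · have h5 := Nat.le_of_dvd (by omega) h
    have h6 := Nat.le_of_dvd hN0 hrN
    have h7 : 3 * N ≤ (q + 1) * N := Nat.mul_le_mul_right _ (by omega)
    omega

/-- **`E₇(q)`**, the primes of order 7 -/
theorem good_E7_7 {p a : ℕ} (hpp : p.Prime) (ha : 0 < a) (hF : Fintype.card F = p ^ a) :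
    ∃ r, Good ↥(chevE7.group F) p r ∧ orderOf (p : ZMod r) = a * 7 := by
  have ham : 7 ≤ a * 7 := Nat.le_mul_of_pos_left 7 ha
  obtain ⟨r, hr, hrp, h1, h2, h4⟩ := exists_prim (a := a) (d := 7) hpp ha (by omega) (by omega)
  have : Fact r.Prime := ⟨hr⟩
  obtain ⟨q, hq⟩ : ∃ q, q = p ^ a := ⟨_, rfl⟩
  rw [← hq] at h2 hF
  have hq2 : 2 ≤ q := by rw [← hF]; exact Fintype.one_lt_card
  obtain ⟨N, hN⟩ : ∃ N, N = 1 + q + q ^ 2 + q ^ 3 + q ^ 4 + q ^ 5 + q ^ 6 := ⟨_, rfl⟩
  have hN' : (N : ℤ) = 1 + (q : ℤ) + (q : ℤ) ^ 2 + (q : ℤ) ^ 3 + (q : ℤ) ^ 4 + (q : ℤ) ^ 5 + (q : ℤ) ^ 6 := by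
    rw [hN]; push_cast; ring
  have hrN : r ∣ N := FprExc.dvd_7 h2 hN'
  have hM : ((((q - 1) * N : ℕ)) : ℤ) = -1 + (q : ℤ) ^ 7 := by
    push_cast [Nat.cast_sub (show 1 ≤ q by omega)]
    rw [hN']
    ring
  have h8 : 8 < r := by
    have h5 := mod_of_od hr (show Cfsg.Agent.H378.ExcAdj.od q r = 7 from h2) (by norm_num)
    obtain ⟨c, hc, rfl⟩ := ge_of_mod hr h5
    rcases c with _ | _ | c
    · omega
    · exact absurd hr (by norm_num)
    · omega
  obtain ⟨T, hT, hT1, hT2, hcent⟩ := FprExc.torus7 hF hN' hM hr h8 hrN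
  refine ⟨r, good_of_card hr hT hT1 hT2 (hrN.mul_left _) (fun h => ?_) ?_ hcent ?_, h1⟩
  · have := Nat.le_of_dvd (by norm_num) h
    omega
  · apply coprime_pow_of_dvd ha
    rw [← hq]
    refine Nat.Coprime.mul_right ?_ ?_
    · rw [Nat.coprime_comm]
      exact (Nat.coprime_self_sub_left (by omega)).2 (Nat.coprime_one_left _)
    · have e : N = q * (1 + q + q ^ 2 + q ^ 3 + q ^ 4 + q ^ 5) + 1 := by rw [hN]; ring
      rw [e]
      simp
  · rcases Nat.lt_or_ge q 4 with hq4 | hq4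
    · have hq23 : q = 2 ∨ q = 3 := by (clear * - hq2 hq4; omega)
      have hG := Cfsg.Agent.S1064.result hF
      refine Or.inr fun x hx hc => ?_
      rcases hq23 with rfl | rfl
      · have hr17 : r = 127 := (Nat.prime_dvd_prime_iff_eq hr (by norm_num)).1 (by rw [hN] at hrN; simpa using hrN)
        subst hr17
        have e : Nat.gcd 2 (2 - 1) = 1 := by decide
        rw [e, one_mul] at hG
        exact exists_not_conj_of_card (by norm_num) hx hc (m := 62972252299809446922051080808510259200)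
          (by rw [hG]; norm_num) (by norm_num)
      · have hr17 : r = 1093 := (Nat.prime_dvd_prime_iff_eq hr (by norm_num)).1 (by rw [hN] at hrN; simpa using hrN)
        subst hr17
        have e : Nat.gcd 2 (3 - 1) = 2 := by decide
        rw [e] at hG
        have h3 : 2 * Nat.card ↥(chevE7.group F) =
            2 * (1093 * 1163197837893995189607026304793249446069880332818633352806400) := by rw [hG]; norm_num
        exact exists_not_conj_of_card (by norm_num) hx hc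
          (m := 1163197837893995189607026304793249446069880332818633352806400)
          (Nat.eq_of_mul_eq_mul_left (by norm_num) h3) (by norm_num)
    · refine Or.inl fun h => ?_
      have h5 := Nat.le_of_dvd (by omega) h
      have h6 := Nat.le_of_dvd (by rw [hN]; (clear * - hq2; positivity)) hrN
      have h7 : 3 * N ≤ (q - 1) * N := Nat.mul_le_mul_right _ (by (clear * - hq4; omega))
      omega

end E7

section TE6

variable {K : Type u} [Field K] [Fintype K] {q : ℕ}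

/-- **`²E₆(q)`**, the primes of order 18 -/
theorem good_2E6_18 {p a : ℕ} (hpp : p.Prime) (ha : 0 < a) (hqa : q = p ^ a) (hK : Fintype.card K = q ^ 2) :
    ∃ r, Good ↥(twistedE6 K q) p r ∧ orderOf (p : ZMod r) = a * 18 := by
  have ham : 18 ≤ a * 18 := Nat.le_mul_of_pos_left 18 ha
  obtain ⟨r, hr, hrp, h1, h2, h4⟩ := exists_prim (a := a) (d := 18) hpp ha (by omega) (by omega)
  have : Fact r.Prime := ⟨hr⟩
  rw [← hqa] at h2
  have hqp : IsPrimePow q := by rw [hqa]; exact hpp.isPrimePow.pow ha.ne'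
  have hq2 : 2 ≤ q := hqp.two_le
  have h3 : Nat.gcd 3 (q + 1) ≤ 3 := Nat.gcd_le_left _ (by norm_num)
  have h30 : 0 < Nat.gcd 3 (q + 1) := Nat.gcd_pos_of_pos_left _ (by norm_num)
  obtain ⟨N, hN, hN0⟩ := exists_N18 hq2
  have hrN : r ∣ N := FprExc.dvd_18 h2 hN
  obtain ⟨T, hT, hT1, hT2, hcent⟩ := FprExc.torusT18 hqp hK hN hr (by omega) hrN
  refine ⟨r, good_of_card hr hT hT1 hT2 hrN (fun h => ?_) ?_ hcent ?_, h1⟩
  · have := Nat.le_of_dvd h30 h
    omega
  · apply coprime_pow_of_dvd ha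
    rw [← hqa]
    exact Cfsg.Agent.H129.UntwData.coprime_of_eq (a := - (q : ℤ) ^ 2 + (q : ℤ) ^ 5) (by rw [hN]; ring)
  · by_cases h5 : 19 < r
    · refine Or.inr fun x hx _ => ?_
      obtain ⟨n, hn, h6, h7, h8⟩ := nc_2E6 hqp hK hx h2
      have h9 := le_of_totient_six hn h8
      exact exists_not_conj hr hx h6 (by omega)
    · rcases Nat.lt_or_ge q 3 with hq3 | hq3
      · have hq' : q = 2 := by omega
        have hr19 : r = 19 := by omega
        rw [hr19] at *
        refine Or.inr fun x hx hc => ?_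
        have hG := Cfsg.Agent.S1066.result hqp hK
        rw [hq'] at hG
        have e : Nat.gcd 3 (2 + 1) = 3 := by decide
        rw [e] at hG
        have h6 : 3 * Nat.card ↥(twistedE6 K 2) = 3 * (19 * 4028025246514465996800) := by rw [hG]; norm_num
        have h7 : Nat.card ↥(twistedE6 K q) = 19 * 4028025246514465996800 := by
          rw [hq']
          exact Nat.eq_of_mul_eq_mul_left (by norm_num) h6
        exact exists_not_conj_of_card (by norm_num) hx hc h7 (by norm_num)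
      · refine Or.inl fun h => ?_
        have h6 := Nat.le_of_dvd (Nat.mul_pos h30 hr.pos) h
        have h7 : Nat.gcd 3 (q + 1) * r ≤ 3 * 19 := Nat.mul_le_mul h3 (by omega)
        have h8 : (27 : ℤ) ≤ (q : ℤ) ^ 3 := by
          have : 3 ^ 3 ≤ q ^ 3 := Nat.pow_le_pow_left hq3 3
          exact_mod_cast this
        have h9 : (N : ℤ) = 1 + (q : ℤ) ^ 3 * ((q : ℤ) ^ 3 - 1) := by rw [hN]; ring
        have h10 : (27 : ℤ) * 26 ≤ (q : ℤ) ^ 3 * ((q : ℤ) ^ 3 - 1) :=
          mul_le_mul h8 (by linarith only [h8]) (by norm_num) (by linarith only [h8])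
        omega

/-- **`²E₆(q)`**, the primes of order 8 -/
theorem good_2E6_8 {p a : ℕ} (hpp : p.Prime) (ha : 0 < a) (hqa : q = p ^ a) (hK : Fintype.card K = q ^ 2) :
    ∃ r, Good ↥(twistedE6 K q) p r ∧ orderOf (p : ZMod r) = a * 8 := by
  have ham : 8 ≤ a * 8 := Nat.le_mul_of_pos_left 8 ha
  obtain ⟨r, hr, hrp, h1, h2, h4⟩ := exists_prim (a := a) (d := 8) hpp ha (by omega) (by omega)
  have : Fact r.Prime := ⟨hr⟩
  rw [← hqa] at h2
  have hqp : IsPrimePow q := by rw [hqa]; exact hpp.isPrimePow.pow ha.ne'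
  have hq2 : 2 ≤ q := hqp.two_le
  have h3 : Nat.gcd 3 (q + 1) ≤ 3 := Nat.gcd_le_left _ (by norm_num)
  have h30 : 0 < Nat.gcd 3 (q + 1) := Nat.gcd_pos_of_pos_left _ (by norm_num)
  have hrN : r ∣ q ^ 4 + 1 := FprExc.dvd_8 h2 (N := q ^ 4 + 1) (by push_cast; ring)
  have hq4 : 4 ≤ q ^ 2 := by nlinarith only [hq2]
  have hM : ((((q ^ 2 - 1) * (q ^ 4 + 1) : ℕ)) : ℤ) = -1 + (q : ℤ) ^ 2 - (q : ℤ) ^ 4 + (q : ℤ) ^ 6 := by
    push_cast [Nat.cast_sub (show 1 ≤ q ^ 2 by omega)]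
    ring
  obtain ⟨T, hT, hT1, hT2, hcent⟩ := FprExc.torusT8 hqp hK (N := q ^ 4 + 1) (by push_cast; ring) hM hr (by omega) hrN
  refine ⟨r, good_of_card hr hT hT1 hT2 (hrN.mul_left _) (fun h => ?_) ?_ hcent ?_, h1⟩
  · have := Nat.le_of_dvd h30 h
    omega
  · apply coprime_pow_of_dvd ha
    rw [← hqa]
    exact coprime_sq_mul hq2
  · rcases Nat.lt_or_ge q 3 with hq3 | hq3
    · have hq' : q = 2 := by omega
      have hr17 : r = 17 := (Nat.prime_dvd_prime_iff_eq hr (by norm_num)).1 (by rw [hq'] at hrN; simpa using hrN)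
      rw [hr17] at *
      refine Or.inr fun x hx hc => ?_
      have hG := Cfsg.Agent.S1066.result hqp hK
      rw [hq'] at hG
      have e : Nat.gcd 3 (2 + 1) = 3 := by decide
      rw [e] at hG
      have h6 : 3 * Nat.card ↥(twistedE6 K 2) = 3 * (17 * 4501910569633814937600) := by rw [hG]; norm_num
      have h7 : Nat.card ↥(twistedE6 K q) = 17 * 4501910569633814937600 := by
        rw [hq']
        exact Nat.eq_of_mul_eq_mul_left (by norm_num) h6
      exact exists_not_conj_of_card (by norm_num) hx hc h7 (by norm_num)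
    · refine Or.inl fun h => ?_
      exact no_dvd_of_sq hq3 (Nat.le_of_dvd (by omega) hrN) (by omega) ⟨h3, h30⟩ h

end TE6

section TD4

variable {K : Type u} [Field K] [Fintype K] {q : ℕ}

/-- **`³D₄(q)`**, the primes of order 12 -/
theorem good_3D4_12 {p a : ℕ} (hpp : p.Prime) (ha : 0 < a) (hqa : q = p ^ a) (hK : Fintype.card K = q ^ 3) :
    ∃ r, Good ↥(twistedD4 K q) p r ∧ orderOf (p : ZMod r) = a * 12 := by
  have ham : 12 ≤ a * 12 := Nat.le_mul_of_pos_left 12 ha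
  obtain ⟨r, hr, hrp, h1, h2, h4⟩ := exists_prim (a := a) (d := 12) hpp ha (by omega) (by omega)
  have : Fact r.Prime := ⟨hr⟩
  rw [← hqa] at h2
  have hqp : IsPrimePow q := by rw [hqa]; exact hpp.isPrimePow.pow ha.ne'
  have hq2 : 2 ≤ q := hqp.two_le
  obtain ⟨N, hN, hN0, hN1⟩ := FprExc.exists_N12 hq2
  have hrN : r ∣ N := FprExc.dvd_12 h2 hN
  obtain ⟨T, hT, hT1, hcent⟩ := FprExc.torusD hqp hK hN hr (by omega) hrN
  refine ⟨r, good_of_card hr (d := 1) hT (hT1 ▸ dvd_rfl) (by rw [hT1, one_mul]) hrN (fun h => ?_) ?_ hcent ?_, h1⟩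
  · have := Nat.le_of_dvd (by norm_num) h
    omega
  · apply coprime_pow_of_dvd ha
    rw [← hqa]
    exact Cfsg.Agent.H129.UntwData.coprime_of_eq (a := - (q : ℤ) + (q : ℤ) ^ 3) (by rw [hN]; ring)
  · by_cases h5 : 13 < r
    · refine Or.inr fun x hx _ => ?_
      obtain ⟨n, hn, h6, h7, h8, -⟩ := nc_3D4 hqp hK hx h2
      have h9 := le_of_totient_four hn h8
      exact exists_not_conj hr hx h6 (by omega)
    · rcases Nat.lt_or_ge q 3 with hq3 | hq3
      · have hq' : q = 2 := by omega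
        have hr19 : r = 13 := by omega
        rw [hr19] at *
        refine Or.inr fun x hx hc => ?_
        have hG := Cfsg.Agent.S1067.result hqp hK
        rw [hq'] at hG
        have h7 : Nat.card ↥(twistedD4 K q) = 13 * 16257024 := by
          rw [hq', hG]; norm_num
        exact exists_not_conj_of_card (by norm_num) hx hc h7 (by norm_num)
      · refine Or.inl fun h => ?_
        rw [one_mul] at h
        have h6 := Nat.le_of_dvd hr.pos h
        have h8 : 9 ≤ q ^ 2 := by nlinarith only [hq3]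
        have h9 : q ^ 4 = q ^ 2 * q ^ 2 := by ring
        have h10 : 9 * q ^ 2 ≤ q ^ 4 := by rw [h9]; exact Nat.mul_le_mul_right _ h8
        (clear * - hN1 h5 h6 h8 h10; omega)

end TD4

end Cfsg.Agent.H448.Van
end

-- part: H448/Van/Rows
section
set_option linter.all false
open scoped Cfsg.Agent.FastGrp

/-!
# S4842: the rows `E₆`, `E₇`, `²E₆` (helper448)

`none_E6`, `none_E7`, `none_2E6` : no irreducible character vanishes on exactly one class, from `Kaw p G`.
-/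

set_option autoImplicit false

namespace Cfsg.Agent.H448.Van

open Cfsg Cfsg.Lie Cfsg.Agent.Characters Finset Cfsg.Agent.H730.OZ

universe u

/-- no irreducible character vanishes on exactly one class -/
def NoOne (G : Type u) [Group G] : Prop := ∀ χ : G → ℂ, IsIrrCharacter G χ → ¬ OneZero χ

theorem gcd_coprime {p a g : ℕ} (hp : p.Prime) (ha : 0 < a) (hg : g ∣ p ^ a - 1 ∨ g ∣ p ^ a + 1) : ¬ p ∣ g := by
  intro h
  have h1 : p ∣ p ^ a := dvd_pow_self p ha.ne'
  have h5 : 1 ≤ p ^ a := Nat.one_le_pow _ _ hp.pos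
  rcases hg with hg | hg
  · have h6 := (Nat.dvd_sub_iff_right h5 h1).1 (h.trans hg)
    exact hp.one_lt.ne' (Nat.dvd_one.1 h6)
  · have h6 := (Nat.dvd_add_right h1).1 (h.trans hg)
    exact hp.one_lt.ne' (Nat.dvd_one.1 h6)

/-- the consequences of the congruences -/
theorem ords {G : Type u} [Group G] [Finite G] {p r D m : ℕ} {e : ℤ} (hp : p.Prime) (hg : Good G p r)
    (hord : orderOf (p : ZMod r) = D) (hD : 3 ≤ D)
    (hc : ∀ r k : ℕ, Cong p r k G → (r : ℤ) ∣ e * (p : ℤ) ^ m - (p : ℤ) ^ k) (he : e = 1 ∨ e = -1) :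
    D ∣ 2 * m ∧ (e = -1 → ¬ D ∣ m) ∧ (e = 1 → D ∣ m) := by
  have h1 := hc r 0 (hg.cong hp)
  have : Fact r.Prime := ⟨hg.prime⟩
  have hr : 2 < r := by
    have h2 : orderOf (p : ZMod r) ∣ r - 1 := by
      apply orderOf_dvd_of_pow_eq_one
      apply ZMod.pow_card_sub_one_eq_one
      intro h3
      rw [h3] at hord
      have h4 : orderOf (0 : ZMod r) = 0 := orderOf_eq_zero_iff'.2 fun n hn h => by
        rw [zero_pow hn.ne'] at h
        exact zero_ne_one h
      omega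
    have h3 := hg.prime.two_le
    have h4 := Nat.le_of_dvd (by omega) h2
    omega
  rcases he with rfl | rfl
  · have h2 := ord_one hord h1
    exact ⟨h2.mul_left 2, fun h => absurd h (by norm_num), fun _ => h2⟩
  · obtain ⟨h2, h3⟩ := ord_neg hord h1
    exact ⟨h2, fun _ => h3 hr, fun h => absurd h (by norm_num)⟩

section E6

variable {F : Type u} [Field F] [Fintype F] {p a : ℕ}

/-- **`E₆(q)`** -/
theorem none_E6 (hs : IsSimpleGroup ↥(chevE6.group F)) (hp : p.Prime) (ha : 0 < a) (hF : Fintype.card F = p ^ a)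
    (hK : Kaw p ↥(chevE6.group F)) : NoOne ↥(chevE6.group F) := by
  intro χ hχ
  have hG := Cfsg.Agent.S1063.result hF
  have hL : (([2, 5, 6, 8, 9, 12] : List ℕ).map fun d => (p ^ a) ^ d - 1).prod = ((p ^ a) ^ 2 - 1) * ((p ^ a) ^ 5 - 1) *
      ((p ^ a) ^ 6 - 1) * ((p ^ a) ^ 8 - 1) * ((p ^ a) ^ 9 - 1) * ((p ^ a) ^ 12 - 1) := by
    simp only [List.map_cons, List.map_nil, List.prod_cons, List.prod_nil, mul_one, mul_assoc]
  have hG' : Nat.gcd 3 (p ^ a - 1) * Nat.card ↥(chevE6.group F) =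
      p ^ (36 * a) * (([2, 5, 6, 8, 9, 12] : List ℕ).map fun d => (p ^ a) ^ d - 1).prod := by
    rw [hG, hL]
    simp only [← pow_mul]
    rw [mul_comm a 36]
    ring
  have hv : (Nat.card ↥(chevE6.group F)).factorization p = 36 * a :=
    fact_of hp (gcd_coprime hp ha (Or.inl (Nat.gcd_dvd_right _ _)))
      (not_dvd_prod hp ha (fun d hd => by simp at hd; omega)) Nat.card_pos.ne' hG'
  obtain ⟨r, hr, hro⟩ := good_E6_9 hp ha hF
  obtain ⟨s, hs', hso⟩ := good_E6_8 hp ha hF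
  refine none_of_cong hs hp hv (by omega) hK ?_ ?_ hχ
  · rw [show 2 * (36 * a) = a * 72 by ring]
    refine not_dvd_card hp ha (by norm_num) (N := 36 * a) (L := [2, 5, 6, 8, 9, 12]) ?_ (fun d hd => by simp at hd; omega)
    rw [← hG']
    exact dvd_mul_left _ _
  · intro m e he hm hm2 hc
    obtain ⟨h1, h2, h3⟩ := ords hp hr hro (by omega) hc he
    obtain ⟨h4, h5, h6⟩ := ords hp hs' hso (by omega) hc he
    exact mid_E6 ha hm (by omega) (Or.inl rfl) h1 h4 h2 (fun h => ⟨h3 h, h6 h⟩) he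

end E6

section E7

variable {F : Type u} [Field F] [Fintype F] {p a : ℕ}

/-- **`E₇(q)`** -/
theorem none_E7 (hs : IsSimpleGroup ↥(chevE7.group F)) (hp : p.Prime) (ha : 0 < a) (hF : Fintype.card F = p ^ a)
    (hK : Kaw p ↥(chevE7.group F)) : NoOne ↥(chevE7.group F) := by
  intro χ hχ
  have hG := Cfsg.Agent.S1064.result hF
  have hL : (([2, 6, 8, 10, 12, 14, 18] : List ℕ).map fun d => (p ^ a) ^ d - 1).prod = ((p ^ a) ^ 2 - 1) *
      ((p ^ a) ^ 6 - 1) * ((p ^ a) ^ 8 - 1) * ((p ^ a) ^ 10 - 1) * ((p ^ a) ^ 12 - 1) * ((p ^ a) ^ 14 - 1) *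
      ((p ^ a) ^ 18 - 1) := by
    simp only [List.map_cons, List.map_nil, List.prod_cons, List.prod_nil, mul_one, mul_assoc]
  have hG' : Nat.gcd 2 (p ^ a - 1) * Nat.card ↥(chevE7.group F) =
      p ^ (63 * a) * (([2, 6, 8, 10, 12, 14, 18] : List ℕ).map fun d => (p ^ a) ^ d - 1).prod := by
    rw [hG, hL]
    simp only [← pow_mul]
    rw [mul_comm a 63]
    ring
  have hv : (Nat.card ↥(chevE7.group F)).factorization p = 63 * a :=
    fact_of hp (gcd_coprime hp ha (Or.inl (Nat.gcd_dvd_right _ _)))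
      (not_dvd_prod hp ha (fun d hd => by simp at hd; omega)) Nat.card_pos.ne' hG'
  obtain ⟨r, hr, hro⟩ := good_E7_7 hp ha hF
  obtain ⟨s, hs', hso⟩ := good_E7_18 hp ha hF
  refine none_of_cong hs hp hv (by omega) hK ?_ ?_ hχ
  · rw [show 2 * (63 * a) = a * 126 by ring]
    refine not_dvd_card hp ha (by norm_num) (N := 63 * a) (L := [2, 6, 8, 10, 12, 14, 18]) ?_
      (fun d hd => by simp at hd; omega)
    rw [← hG']
    exact dvd_mul_left _ _
  · intro m e he hm hm2 hc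
    obtain ⟨h1, h2, h3⟩ := ords hp hr hro (by omega) hc he
    obtain ⟨h4, h5, h6⟩ := ords hp hs' hso (by omega) hc he
    exact mid_E7 ha hm (by omega) h1 h4 h2 (fun h => ⟨h3 h, h6 h⟩) he

end E7

section TE6

variable {K : Type u} [Field K] [Fintype K] {p a q : ℕ}

/-- **`²E₆(q)`** -/
theorem none_2E6 (hs : IsSimpleGroup ↥(twistedE6 K q)) (hp : p.Prime) (ha : 0 < a) (hq : q = p ^ a)
    (hF : Fintype.card K = q ^ 2) (hK : Kaw p ↥(twistedE6 K q)) : NoOne ↥(twistedE6 K q) := by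
  intro χ hχ
  have hqp : IsPrimePow q := by rw [hq]; exact hp.isPrimePow.pow ha.ne'
  have hG := Cfsg.Agent.S1066.result hqp hF
  have hL : (([2, 10, 6, 8, 18, 12] : List ℕ).map fun d => (p ^ a) ^ d - 1).prod = ((p ^ a) ^ 2 - 1) *
      ((p ^ a) ^ 10 - 1) * ((p ^ a) ^ 6 - 1) * ((p ^ a) ^ 8 - 1) * ((p ^ a) ^ 18 - 1) * ((p ^ a) ^ 12 - 1) := by
    simp only [List.map_cons, List.map_nil, List.prod_cons, List.prod_nil, mul_one, mul_assoc]
  have hsq : ∀ j, q ^ (2 * j) - 1 = (q ^ j - 1) * (q ^ j + 1) := by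
    intro j
    have h1 : 1 ≤ q ^ j := Nat.one_le_pow _ _ hqp.pos
    obtain ⟨c, hc⟩ : ∃ c, q ^ j = c + 1 := ⟨q ^ j - 1, by omega⟩
    rw [mul_comm 2 j, pow_mul, hc, Nat.add_sub_cancel, show (c + 1) ^ 2 = c * (c + 1 + 1) + 1 by ring,
      Nat.add_sub_cancel]
  have h10 := hsq 5
  have h18 := hsq 9
  norm_num at h10 h18
  have hG' : (Nat.gcd 3 (q + 1) * ((q ^ 5 - 1) * (q ^ 9 - 1))) * Nat.card ↥(twistedE6 K q) =
      p ^ (36 * a) * (([2, 10, 6, 8, 18, 12] : List ℕ).map fun d => (p ^ a) ^ d - 1).prod := by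
    rw [hL, ← hq, h10, h18]
    calc (Nat.gcd 3 (q + 1) * ((q ^ 5 - 1) * (q ^ 9 - 1))) * Nat.card ↥(twistedE6 K q)
        = (Nat.gcd 3 (q + 1) * Nat.card ↥(twistedE6 K q)) * ((q ^ 5 - 1) * (q ^ 9 - 1)) := by ring
      _ = (q ^ 36 * (q ^ 2 - 1) * (q ^ 5 + 1) * (q ^ 6 - 1) * (q ^ 8 - 1) * (q ^ 9 + 1) * (q ^ 12 - 1)) *
          ((q ^ 5 - 1) * (q ^ 9 - 1)) := by rw [hG]
      _ = _ := by
        rw [hq, ← pow_mul, mul_comm a 36]
        ring
  have hpL : ¬ p ∣ (([5, 9] : List ℕ).map fun d => (p ^ a) ^ d - 1).prod :=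
    not_dvd_prod hp ha (fun d hd => by simp at hd; omega)
  have hL2 : (([5, 9] : List ℕ).map fun d => (p ^ a) ^ d - 1).prod = (q ^ 5 - 1) * (q ^ 9 - 1) := by
    simp only [List.map_cons, List.map_nil, List.prod_cons, List.prod_nil, mul_one, ← hq]
  rw [hL2] at hpL
  have hpg : ¬ p ∣ Nat.gcd 3 (q + 1) * ((q ^ 5 - 1) * (q ^ 9 - 1)) := by
    intro h
    rcases hp.dvd_mul.1 h with h | h
    · exact gcd_coprime hp ha (Or.inr (by rw [← hq]; exact Nat.gcd_dvd_right _ _)) h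
    · exact hpL h
  have hv : (Nat.card ↥(twistedE6 K q)).factorization p = 36 * a :=
    fact_of hp hpg (not_dvd_prod hp ha (fun d hd => by simp at hd; omega)) Nat.card_pos.ne' hG'
  obtain ⟨r, hr, hro⟩ := good_2E6_18 hp ha hq hF
  obtain ⟨s, hs', hso⟩ := good_2E6_8 hp ha hq hF
  refine none_of_cong hs hp hv (by omega) hK ?_ ?_ hχ
  · rw [show 2 * (36 * a) = a * 72 by ring]
    refine not_dvd_card hp ha (by norm_num) (N := 36 * a) (L := [2, 10, 6, 8, 18, 12]) ?_
      (fun d hd => by simp at hd; omega)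
    rw [← hG']
    exact dvd_mul_left _ _
  · intro m e he hm hm2 hc
    obtain ⟨h1, h2, h3⟩ := ords hp hr hro (by omega) hc he
    obtain ⟨h4, h5, h6⟩ := ords hp hs' hso (by omega) hc he
    exact mid_E6 ha hm (by omega) (Or.inr rfl) h1 h4 h2 (fun h => ⟨h3 h, h6 h⟩) he

end TE6

end Cfsg.Agent.H448.Van
end
end
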